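import Cfsg.Agent.H54.P6.H86_SPGDef
import Cfsg.Agent.H85.P6.H86_SPIKit

namespace H21 end H21
open H21
namespace H85.P6 end H85.P6
open H85.P6
namespace H85.P6.H21 end H85.P6.H21
open H85.P6.H21
namespace H85.P6.H21.SPH end H85.P6.H21.SPH
open H85.P6.H21.SPH
namespace H54.P6


/-! STD-SP type I fusion, job `JobFH`: vectors of `H = ⟨e₀, e_n⟩^⊥`. -/

set_option autoImplicit false
set_option linter.all false

namespace H21.SPH

open H67.UA hiding Par
open H67.SP H86.SPG H86.SPI Module Submodule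
open H67.SA (la)

variable {n : ℕ} {F : Type} [Field F] [StarRing F] [TrivialStar F] [CharP F 2] [Finite F]

/-- `x ↦ hf x s` -/
def lf1 (s : Vn n F) : Vn n F →ₗ[F] F where
  toFun x := hf x s
  map_add' x y := hf_add_left x y s
  map_smul' a x := hf_smul_left a x s

/-- the span of a list -/
def sp (l : List (Vn n F)) : Submodule F (Vn n F) := span F {x | x ∈ l}

theorem mem_sp {l : List (Vn n F)} {x : Vn n F} (h : x ∈ l) : x ∈ sp l := subset_span h

theorem sep {l : List (Vn n F)} {a : Vn n F} (ha : a ∉ sp l) :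
    ∃ y, (∀ s ∈ l, hf y s = 0) ∧ hf y a = 1 := by
  obtain ⟨f, h1, h2⟩ := exists_le_ker_of_notMem ha
  have k : ∀ s, hf (fun i => f (ev i.rev)) s = f s := fun s => by
    rw [f.pi_apply_eq_sum_univ s, hf, ← Equiv.sum_comp Fin.revPerm]
    refine Finset.sum_congr rfl fun i _ => ?_
    rw [show (fun j => if i = j then 1 else 0) = (ev i : Vn n F) from
      funext fun j => by simp [ev_apply, eq_comm]]
    simp [mul_comm]
  exact ⟨(f a)⁻¹ • fun i => f (ev i.rev), fun s hs => by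
    rw [hf_smul_left, k, show f s = 0 from h2 (mem_sp hs), mul_zero],
    by rw [hf_smul_left, k, inv_mul_cancel₀ h1]⟩

theorem perp (l : List (Vn n F)) (h : l.length < n + 1) : ∃ y, y ≠ 0 ∧ ∀ s ∈ l, hf y s = 0 := by
  let φ : Vn n F →ₗ[F] (Fin l.length → F) := LinearMap.pi fun i => lf1 (l.get i)
  obtain ⟨y, h1, h2⟩ := (Submodule.ne_bot_iff _).1
    (LinearMap.ker_ne_bot_of_finrank_lt (f := φ) (by simpa using h))
  refine ⟨y, h2, fun s hs => ?_⟩
  obtain ⟨i, rfl⟩ := List.get_of_mem hs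
  exact congrFun (LinearMap.mem_ker.1 h1) i

variable [p : Par n F]

theorem h0n : hf (ev 0 : Vn n F) (ev (la n)) = 1 := by rw [hf_ev, if_pos (by simp)]

/-- the projection onto `H` -/
theorem proj (v : Vn n F) : ∃ y, Hy y ∧ ∀ z, Hy z → hf y z = hf v z :=
  ⟨v + hf v (ev (la n)) • ev 0 + hf v (ev 0) • ev (la n),
    ⟨by simp [hf_add_left, hf_smul_left, hf_self, hf_comm (ev (la n)), h0n, CharTwo.add_self_eq_zero],
      by simp [hf_add_left, hf_smul_left, hf_self, h0n, CharTwo.add_self_eq_zero]⟩,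
    fun z hz => by simp [hf_add_left, hf_smul_left, hf_symm hz.1, hf_symm hz.2]⟩

theorem hy_ev {i : Fin (n + 1)} (h : 0 < i.val) (h' : i.val < n) : Hy (ev i : Vn n F) :=
  ⟨by rw [hf_ev, if_neg fun e => by have := congrArg Fin.val e; simp at this; omega],
    by rw [hf_ev, if_neg fun e => by have := congrArg Fin.val e; simp at this; omega]⟩

theorem sep1 (z : Vn n F) (hz : Hy z) (h : z ≠ 0) (a : F) : ∃ y, Hy y ∧ hf y z = a := by
  obtain ⟨v, -, hv⟩ := sep (l := []) (a := z) (by simpa [sp] using h)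
  obtain ⟨y, h1, h2⟩ := proj (a • v)
  exact ⟨y, h1, by rw [h2 z hz, hf_smul_left, hv, mul_one]⟩

theorem du {x z z' : Vn n F} (hx : Hy x) (hz : Hy z) (hz' : Hy z')
    (h : ∀ v, Hy v → hf v z = 0 → hf v z' = 0 → hf v x = 0) : ∃ a b : F, x = a • z + b • z' := by
  by_contra! k
  obtain ⟨v, h1, h2⟩ := sep (l := [z, z']) (a := x) fun m => by
    rw [sp, show {x | x ∈ [z, z']} = {z, z'} by ext; simp, mem_span_pair] at m
    obtain ⟨a, b, e⟩ := m
    exact k a b e.symm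
  obtain ⟨y, h3, h4⟩ := proj v
  have := h y h3 ((h4 z hz).trans (h1 z (by simp))) ((h4 z' hz').trans (h1 z' (by simp)))
  rw [h4 x hx, h2] at this
  exact one_ne_zero this

theorem sepL {z z' : Vn n F} (h : Li z z') : ∃ v, hf v z = 1 ∧ hf v z' = 0 := by
  obtain ⟨v, h1, h2⟩ := sep (l := [z']) (a := z) fun m => by
    rw [sp, show {x | x ∈ [z']} = {z'} by ext; simp, mem_span_singleton] at m
    obtain ⟨a, e⟩ := m
    exact one_ne_zero (h 1 a (by rw [one_smul, e, v_add_self])).1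
  exact ⟨v, h2, h1 z' (by simp)⟩

theorem ex (z z' : Vn n F) : ∃ y, Hy y ∧ y ≠ 0 ∧ hf y z = 0 ∧ hf y z' = 0 := by
  obtain ⟨y, h1, h2⟩ := perp [ev 0, ev (la n), z, z'] (by have := p.five; simp; omega)
  exact ⟨y, ⟨h2 _ (by simp), h2 _ (by simp)⟩, h1, h2 _ (by simp), h2 _ (by simp)⟩

theorem ts1 {z z' : Vn n F} (hz : Hy z) (hz' : Hy z') (h : hf z z' ≠ 0) :
    ∃ g ∈ SS n F, ac g z = z' := by
  have k := hy_add hz hz'
  refine ⟨Tc (hf z z')⁻¹ (z + z'), ⟨mem_Stab.2 ?_, mem_Stab.2 ?_⟩, ?_⟩ <;>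
    rw [ac_Tc (hf_self _) (star_trivial _)]
  · simp [hf_symm k.1]
  · simp [hf_symm k.2]
  · simp [hf_add_right, hf_self, h, ← add_assoc]

theorem jobFH : JobFH := by
  intro n F _ _ _ _ _ p _
  have h5 := p.five
  have v1 : (1 : Fin (n + 1)).val = 1 := Nat.mod_eq_of_lt (show 1 < n + 1 by omega)
  have v2 : (2 : Fin (n + 1)).val = 2 := Nat.mod_eq_of_lt (show 2 < n + 1 by omega)
  refine ⟨⟨hy_ev (by omega) (by omega), ev_ne _, q0_ev _⟩, ⟨hy_ev (by omega) (by omega), ?_, ?_⟩,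
    fun v hv => ⟨mem_Stab.2 (by simp [ac_TT, hf_symm hv.1]), mem_Stab.2 (by simp [ac_TT, hf_symm hv.2])⟩,
    fun g hg y hy => ⟨by rw [← mem_Stab.1 hg.1, hf_ac, hy.1], by rw [← mem_Stab.1 hg.2, hf_ac, hy.2]⟩,
    fun y y' c c' hy hy' e => ?_, fun x hx h => eq_of_hf fun v => ?_, sep1, fun z z' hz hz' h a b => ?_,
    fun x z hx hz _ h => ?_, fun x z z' hx hz hz' _ => du hx hz hz', fun z z' _ _ => ex z z',
    fun z hz h => ?_, fun z z' hz hz' h h' => ?_, fun v s s' h1 h2 h3 => ?_⟩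
  · rw [hf_ev, if_neg fun e => by have := congrArg Fin.val e; rw [Fin.val_rev] at this; omega]
  · intro a b e
    have ne : (1 : Fin (n + 1)) ≠ 2 := fun e => by have := congrArg Fin.val e; omega
    exact ⟨by simpa [ev_apply, ne, ne.symm] using congrFun e 2,
      by simpa [ev_apply, ne, ne.symm] using congrFun e 1⟩
  · have k := congrArg (ac · (ev (la n))) e
    simp only [ac_EE (ok hy.1 _), ac_EE (ok hy'.1 _), hf_symm hy.2, hf_symm hy'.2,
      hf_comm (ev (la n)) (ev 0), h0n] at k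
    have k' := congrArg (hf · (ev (la n))) k
    simp only [hf_add_left, hf_smul_left, hy.2, hy'.2, h0n] at k'
    have : c = c' := by simpa using k'
    subst this
    exact ⟨by simpa using k, rfl⟩
  · obtain ⟨y, h1, h2⟩ := proj v
    rw [hf_zero_left, hf_comm, ← h2 x hx, h y h1]
  · obtain ⟨v, h1, h2⟩ := sepL h
    obtain ⟨w, h3, h4⟩ := sepL (z := z') (z' := z) fun a b e => (h b a (by rw [add_comm, e])).symm
    obtain ⟨y, h5, h6⟩ := proj (a • v + b • w)
    exact ⟨y, h5, by simp [h6 z hz, hf_add_left, hf_smul_left, h1, h4],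
      by simp [h6 z' hz', hf_add_left, hf_smul_left, h2, h3]⟩
  · obtain ⟨a, b, e⟩ := du hx hz hz fun v hv h1 _ => h v hv h1
    exact ⟨a + b, by rw [e, add_smul]⟩
  · obtain ⟨w, h1, h2⟩ := sep1 z hz h 1
    obtain ⟨y, h3, h4, h5, h6⟩ := ex z w
    refine ⟨y, h3, h5, fun a b e => ?_⟩
    have k := congrArg (hf · w) e
    simp only [hf_add_left, hf_smul_left, h6, hf_comm z, h2, hf_zero_left, mul_zero, zero_add,
      mul_one] at k
    exact ⟨by simpa [k, h4] using e, k⟩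
  · obtain ⟨y, h1, h2, h3⟩ : ∃ y, Hy y ∧ hf y z ≠ 0 ∧ hf y z' ≠ 0 := by
      obtain ⟨y, h1, h2⟩ := sep1 z hz h 1
      obtain ⟨w, h3, h4⟩ := sep1 z' hz' h' 1
      by_cases c : hf y z' = 0
      · by_cases c' : hf w z = 0
        · exact ⟨y + w, hy_add h1 h3, by simp [hf_add_left, h2, c'], by simp [hf_add_left, h4, c]⟩
        · exact ⟨w, h3, c', by simp [h4]⟩
      · exact ⟨y, h1, by simp [h2], c⟩
    obtain ⟨g, g1, g2⟩ := ts1 hz h1 (by rwa [hf_comm])
    obtain ⟨g', g3, g4⟩ := ts1 h1 hz' h3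
    exact ⟨g' * g, mul_mem g3 g1, by rw [ac_mul, g2, g4]⟩
  · refine ac_ext fun y => ?_
    simp only [ac_mul, ac_TT, hf_add_left, hf_add_right, hf_smul_left, hf_self, h1, h2, h3,
      hf_symm h1, hf_symm h2, hf_symm h3, add_zero, mul_zero]
    ext i
    simp only [Pi.add_apply, Pi.smul_apply, smul_eq_mul]
    linear_combination (-((hf y v + hf y s + hf y s') * v i + (2 * hf y s + hf y v + hf y s') * s i +
      (2 * hf y s' + hf y v + hf y s) * s' i)) * two0 F

end H21.SPH
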