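import Cfsg.Agent.H54.P6.H86_SPGDef
import Cfsg.Agent.H85.P6.H86_SPIKit

namespace H71 end H71
open H71
namespace H85.P6 end H85.P6
open H85.P6
namespace H85.P6.H71 end H85.P6.H71
open H85.P6.H71
namespace H85.P6.H71.SpKA end H85.P6.H71.SpKA
open H85.P6.H71.SpKA
namespace H54.P6


/-! STD-SP, type I fusion: the first case `KA` does not occur. -/

set_option autoImplicit false
set_option linter.unusedSectionVars false

namespace H71.SpKA

open H67.UA hiding Par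
open H67.SP H86.SPG
open H86.SPI (hf_comm hf_self q0_add q0_smul rt_add ac_TT)

universe u

variable {n : ℕ} {F : Type} [Field F] [StarRing F] [TrivialStar F] [CharP F 2] [Finite F]
  {G : Type u} [Group G] {e : XU n F →* G} {t : G} {δ : F} {r : Vn n F → F → F → G} {h : G}

/-- `g` centralises `R`. -/
def Cen (r : Vn n F → F → F → G) (g : G) : Prop :=
  ∀ y a b, Hy y → g * r y a b * g⁻¹ = r y a b

/-- `k` is an involution that normalises `R`. -/
def Nm (r : Vn n F → F → F → G) (k : G) : Prop :=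
  k * k = 1 ∧ ∀ y a b, Hy y → ∃ y' a' b', Hy y' ∧ k * r y a b * k⁻¹ = r y' a' b'

theorem Nm.cen {k g : G} (hk : Nm r k) (hg : Cen r g) : Cen r (k * g * k⁻¹) := fun y a b hy => by
  obtain ⟨y', a', b', h1, h2⟩ := hk.2 y a b hy
  have i : k⁻¹ = k := inv_eq_of_mul_eq_one_right hk.1
  calc _ = k * (g * (k⁻¹ * r y a b * k⁻¹⁻¹) * g⁻¹) * k⁻¹ := by group
    _ = k * (k⁻¹ * r y a b * k⁻¹⁻¹) * k⁻¹ := by rw [i, i, ← i, i] at *; rw [h2, hg _ _ _ h1]
    _ = _ := by group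

theorem Cen.mul {g g' : G} (hg : Cen r g) (hg' : Cen r g') : Cen r (g * g') := fun y a b hy => by
  rw [mul_inv_rev, mul_assoc g, ← mul_assoc, mul_assoc g, hg' y a b hy, hg y a b hy]

/-- the correspondence -/
def Psi (e : XU n F →* G) (t : G) (r : Vn n F → F → F → G) (h : G) (v w : Vn n F) : Prop :=
  ∃ g, Ov e t g v ∧ Cen r g ∧ Ov e t (h * g * h⁻¹) w

variable [Par n F] (fh : FH n F) (aw : AW e t) (rm : RM e t δ r h) (nk : NK e t r)

include fh rm in
theorem nm_h : Nm r h := ⟨rm.hh, fun y a b hy => ⟨_, _, _, hy_add hy (hy_smul _ fh.e1.1), rm.hr y a b hy⟩⟩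

include nk in
theorem Psi.add {v w v' w' : Vn n F} : Psi e t r h v w → Psi e t r h v' w' →
    Psi e t r h (v + v') (w + w')
  | ⟨g, a, b, c⟩, ⟨g', a', b', c'⟩ => ⟨g * g', nk.mul _ _ _ _ a a', b.mul b', by
    have := nk.mul _ _ _ _ c c'
    rwa [conj_mul] at this⟩

include fh rm in
theorem Psi.symm {v w : Vn n F} : Psi e t r h v w → Psi e t r h w v
  | ⟨g, a, b, c⟩ => ⟨_, c, (nm_h fh rm).cen b, by
    have i : h⁻¹ = h := inv_eq_of_mul_eq_one_right rm.hh
    rwa [show h * (h * g * h⁻¹) * h⁻¹ = h * h * g * (h * h)⁻¹ by group, rm.hh, one_mul, inv_one,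
      mul_one]⟩

include fh rm nk in
theorem Psi.zero {w : Vn n F} : Psi e t r h 0 w → w = 0
  | ⟨g, a, b, c⟩ => by
    obtain ⟨y, p, q, hy, rfl | rfl⟩ := nk.zero g a
    · rw [rm.hr y p q hy] at c
      exact nk.uq _ _ _ c (nk.or _ _ _ (hy_add hy (hy_smul _ fh.e1.1)))
    · have := b 0 0 1 hy_zero
      rw [mul_assoc t, rm.mul _ _ _ _ _ _ hy hy_zero, add_comm y, add_comm p, add_comm q,
        ← rm.mul _ _ _ _ _ _ hy_zero hy, mul_inv_rev, ← mul_assoc, mul_assoc t,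
        mul_inv_cancel_right, rm.tc _ _ _ hy_zero] at this
      simpa using (nk.rinj _ _ _ _ _ _ hy_zero hy_zero this).2.1

include fh rm nk in
theorem Psi.uq {v w w' : Vn n F} (a : Psi e t r h v w) (b : Psi e t r h v w') : w = w' := by
  have := a.add nk b
  rw [v_add_self] at this
  rw [← add_zero w, ← v_add_self w', ← add_assoc, this.zero fh rm nk, zero_add]

include fh aw rm nk in
theorem psi_ex' {g : G} {v : Vn n F} (a : Ov e t g v) (b : Cen r g) (h1 : hf v (ev 1) = 0) :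
    ∃ w, Ov e t (h * g * h⁻¹) w := by
  have hv := a.hz
  have b' := (nm_h fh rm).cen b
  have i : h⁻¹ = h := inv_eq_of_mul_eq_one_right rm.hh
  have it : t⁻¹ = t := inv_eq_of_mul_eq_one_right aw.tt
  obtain ⟨c, e1⟩ := a.tr
  obtain ⟨y, p, hy, e2⟩ := nk.tv g v (ev 1) a fh.e1.1 (by rw [hf_comm, h1])
  have hy1 := hy_add hv hy
  obtain ⟨y2, p2, q2, hy2, e3⟩ := (nm_h fh rm).2 (v + y) (rt (q0 v + c) + p + (0 + 0)) (0 + 0) hy1
  have e4 : h * g * h⁻¹ * t * (h * g * h⁻¹)⁻¹ = r y2 p2 q2 * t := by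
    calc _ = h * (g * (h⁻¹ * t * h⁻¹⁻¹) * g⁻¹) * h⁻¹ := by group
      _ = h * (g * t * g⁻¹ * (g * e (TT (ev 1)) * g⁻¹)) * h⁻¹ := by
        rw [inv_inv, ← i, inv_inv, rm.ht]; group
      _ = h * (t * r (v + y) (rt (q0 v + c) + p) (0 + 0) * t⁻¹) * h⁻¹ *
          (h * (t * e (TT (ev 1))) * h⁻¹) := by
        rw [e1, e2, nk.qr v c hv, ← rm.mul _ _ _ _ _ _ hv hy]; group
      _ = _ := by
        rw [rm.tc _ _ _ hy1, e3, ← rm.ht,
          show h * (h * t * h⁻¹) * h⁻¹ = h * h * t * (h * h)⁻¹ by group, rm.hh]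
        simp
  have e5 : q2 = 0 := by
    have : r y2 p2 q2 * (t * r y2 p2 q2 * t⁻¹) = r 0 0 0 := by
      rw [nk.one, it, ← mul_assoc, ← mul_assoc, mul_assoc _ _ t, ← e4, conj_mul, aw.tt]; simp
    rw [rm.tc _ _ _ hy2, rm.mul _ _ _ _ _ _ hy2 hy2] at this
    have := (nk.rinj _ _ _ _ _ _ (hy_add hy2 hy2) hy_zero this).2.1
    rwa [← add_assoc, CharTwo.add_self_eq_zero, zero_add] at this
  subst e5
  refine ⟨y2, hy2, fun c => ?_, fun y c hy => ⟨c, ?_⟩, q0 y2 + p2 ^ 2, ?_⟩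
  · rw [show Tc c (ev 0 : Vn n F) = EE (ev 0) 0 c from rfl, nk.qr 0 c hy_zero, b' _ _ _ hy_zero]
  · rw [nk.qr y c hy, b' _ _ _ hy]
  · have := rm.tc y2 p2 0 hy2
    rw [add_zero, mul_inv_eq_iff_eq_mul] at this
    rw [e4, ← rm.q _ _ hy2, this]

include fh aw rm nk in
theorem psi_ex (ka : KA e t r) {v : Vn n F} (hv : Hy v) (h1 : hf v (ev 1) = 0) :
    ∃ w, Psi e t r h v w := by
  obtain ⟨g, a, b⟩ := ka v hv h1
  obtain ⟨w, c⟩ := psi_ex' fh aw rm nk a b h1
  exact ⟨w, g, a, b, c⟩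

include fh nk in
theorem ov_s {v x : Vn n F} {k : G} (hv : Hy v) (hk : Ov e t k x) :
    Ov e t (t * e (TT v) * k * (t * e (TT v))⁻¹) (ac (TT v) x) := by
  have := nk.mul _ _ _ _ (nk.mul _ _ _ _ nk.ot (nk.cj k x _ (fh.tt v hv) hk)) (nk.inv _ _ nk.ot)
  rw [zero_add, add_zero] at this
  convert this using 1; group

include rm in
theorem s_act {z y : Vn n F} (hz : Hy z) (hy : Hy y) (a b : F) :
    t * e (TT z) * r y a b * (t * e (TT z))⁻¹ = r (y + (hf y z + b * rt (q0 z) + b) • z)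
      (a + (hf y z + b * rt (q0 z) + b) * (1 + rt (q0 z))) b := by
  have hx' := hy_add hy (hy_smul (hf y z + b * rt (q0 z) + b) hz)
  have := congrArg (fun z => t * z * t⁻¹) (rm.tt z y a b hz hy)
  simp only [rm.tc _ _ _ hx'] at this
  refine Eq.trans (by group) (this.trans ?_)
  congr 1
  ring

include aw rm in
theorem nm_s {y : Vn n F} (hy : Hy y) : Nm r (t * e (TT y)) :=
  ⟨by rw [mul_assoc, ← mul_assoc (e _), ← aw.cen, mul_assoc, ← map_mul,
      Tc_mul_self (hf_self y) (star_one F), map_one, mul_one, aw.tt],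
    fun x p q hx => ⟨_, _, _, hy_add hx (hy_smul _ hy), s_act rm hy hx p q⟩⟩

theorem cj3 (k g x : G) : k * g * k⁻¹ * (k * x * k⁻¹) * (k * g * k⁻¹)⁻¹ = k * (g * x * g⁻¹) * k⁻¹ := by
  group

/-- the action of `g` on `t e(TT z)` -/
def PB (e : XU n F →* G) (t : G) (z : Vn n F) (g : G) : Prop := ∃ c : F,
  g * (t * e (TT z)) * g⁻¹ = e (EE (ev 0) (c • z) (1 + c ^ 2)) * (t * e (TT z))

include rm in
theorem rE {z : Vn n F} (hz : Hy z) (c : F) :
    e (EE (ev 0) (c • z) (1 + c ^ 2)) = r (c • z) (1 + c * (1 + rt (q0 z))) 0 := by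
  rw [rm.q _ _ (hy_smul c hz), q0_smul]
  congr 2
  have := rt_sq (q0 z)
  linear_combination -(c ^ 2) * this - (c ^ 2 * q0 z + c + c * rt (q0 z) + c ^ 2 * rt (q0 z)) * two0 F

include fh rm nk in
theorem pb1 : Psi e t r h (ev 1) (ev 1) → ∃ g, Ov e t g (ev 1) ∧ Cen r g ∧ PB e t (ev 1) g
  | ⟨g, a, b, c⟩ => by
    obtain ⟨d, k⟩ := c.tr
    have h1 := fh.e1.1
    have i : h⁻¹ = h := inv_eq_of_mul_eq_one_right rm.hh
    rw [nk.qr _ d h1] at k
    generalize rt (q0 (ev 1 : Vn n F) + d) = α at k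
    have k1 := rm.tc (ev 1) α 0 h1
    rw [add_zero, mul_inv_eq_iff_eq_mul] at k1
    have k2 := rm.hr (ev 1) α 0 h1
    rw [hf_self, mul_zero, add_zero, add_zero] at k2
    refine ⟨g, a, b, 1 + α, ?_⟩
    rw [rE rm h1, fh.e1.2.2, H86.SPI.rt_zero, add_zero, mul_one, ← add_assoc,
      CharTwo.add_self_eq_zero, zero_add, add_smul, one_smul, ← k2, ← rm.ht, conj_mul, ← k1, ← k]
    calc _ = h⁻¹ * (h * g * h * t * (h * g * h)⁻¹) * h⁻¹⁻¹ := by group
      _ = _ := by simp only [i]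

include fh aw rm nk in
theorem pb2 {z y : Vn n F} (hz : Hy z) (hy : Hy y) :
    (∃ g, Ov e t g z ∧ Cen r g ∧ PB e t z g) →
      ∃ g, Ov e t g (ac (TT y) z) ∧ Cen r g ∧ PB e t (ac (TT y) z) g
  | ⟨g, a, b, c, k⟩ => by
    have k0 : ∀ x, t * e (TT y) * e x * (t * e (TT y))⁻¹ = e (TT y * x * (TT y)⁻¹) := fun x => by
      calc _ = t * e (TT y * x * (TT y)⁻¹) * t⁻¹ := by rw [map_mul, map_mul, map_inv]; group
        _ = _ := by rw [aw.cen, mul_inv_cancel_right]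
    have k1 : t * e (TT y) * (t * e (TT z)) * (t * e (TT y))⁻¹ = t * e (TT (ac (TT y) z)) := by
      rw [← conj_mul, k0, H86.SPI.TT_conj, mul_assoc t, ← aw.cen, ← mul_assoc t, mul_assoc (t * t),
        mul_inv_rev, mul_inv_cancel_left, mul_inv_cancel_right]
    refine ⟨_, ov_s fh nk hy a, (nm_s aw rm hy).cen b, c, ?_⟩
    rw [← k1, cj3, k, ← conj_mul, k0,
      EE_conj (H86.SPI.ok (hy_smul c hz).1 _), mem_Stab.1 (fh.tt y hy).1, ac_smul]

include rm nk in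
theorem cen0 {g : G} (a : Ov e t g 0) (b : Cen r g) : ∃ y p q, Hy y ∧ g = r y p q := by
  obtain ⟨y, p, q, hy, rfl | rfl⟩ := nk.zero g a
  · exact ⟨y, p, q, hy, rfl⟩
  · have := b 0 0 1 hy_zero
    rw [mul_assoc t, rm.mul _ _ _ _ _ _ hy hy_zero, add_comm y, add_comm p, add_comm q,
      ← rm.mul _ _ _ _ _ _ hy_zero hy, mul_inv_rev, ← mul_assoc, mul_assoc t,
      mul_inv_cancel_right, rm.tc _ _ _ hy_zero] at this
    simpa using (nk.rinj _ _ _ _ _ _ hy_zero hy_zero this).2.1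

theorem Cen.inv {g : G} (hg : Cen r g) : Cen r g⁻¹ := fun y a b hy => by
  conv_lhs => rw [← hg y a b hy]
  group

include rm nk in
theorem pb3 {z : Vn n F} {g' : G} (a' : Ov e t g' z) (b' : Cen r g') :
    (∃ g, Ov e t g z ∧ Cen r g ∧ PB e t z g) → PB e t z g'
  | ⟨g, a, b, c, k⟩ => by
    have hz := a.hz
    have o := nk.mul _ _ _ _ (nk.inv _ _ a) a'
    rw [v_add_self] at o
    obtain ⟨y, p, q, hy, k1⟩ := cen0 rm nk o (b.inv.mul b')
    have k2 := s_act rm hz hy p q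
    generalize hf y z + q * rt (q0 z) + q = l at k2
    have k3 : r y p q * (t * e (TT z)) * (r y p q)⁻¹ =
        r (l • z) (l * (1 + rt (q0 z))) 0 * (t * e (TT z)) := by
      calc _ = r y p q * (t * e (TT z) * (r y p q)⁻¹ * (t * e (TT z))⁻¹) * (t * e (TT z)) := by group
        _ = _ := by
          rw [inv_eq_of_mul_eq_one_right (nk.sq y p q hy), k2,
            rm.mul _ _ _ _ _ _ hy (hy_add hy (hy_smul l hz)), ← add_assoc, v_add_self, zero_add,
            ← add_assoc, CharTwo.add_self_eq_zero, zero_add, CharTwo.add_self_eq_zero]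
    refine ⟨l + c, ?_⟩
    rw [rE rm hz] at k ⊢
    calc _ = g * (g⁻¹ * g' * (t * e (TT z)) * (g⁻¹ * g')⁻¹) * g⁻¹ := by group
      _ = _ := by
        rw [k1, k3, ← conj_mul, b _ _ _ (hy_smul l hz), k, ← mul_assoc,
          rm.mul _ _ _ _ _ _ (hy_smul l hz) (hy_smul c hz), ← add_smul, add_zero]
        congr 2
        ring

include fh aw rm nk in
theorem pb (p : Psi e t r h (ev 1) (ev 1)) {z : Vn n F} (li : Li z (ev 1)) {g : G}
    (a : Ov e t g z) (b : Cen r g) : PB e t z g := by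
  have h1 := fh.e1.1
  obtain ⟨w, hw, e1, e2⟩ := fh.sep2 z (ev 1) a.hz h1 li 1 1
  have k1 := pb2 fh aw rm nk h1 (hy_add hw h1) (pb1 fh rm nk p)
  rw [ac_TT, hf_add_right, hf_self, add_zero, hf_comm, e2, one_smul, add_comm w, ← add_assoc,
    v_add_self, zero_add] at k1
  have k2 := pb2 fh aw rm nk hw (hy_add hw a.hz) k1
  rw [ac_TT, hf_add_right, hf_self, zero_add, e1, one_smul, ← add_assoc, v_add_self, zero_add] at k2
  exact pb3 rm nk a b k2

include fh aw rm nk in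
theorem Psi.cj {z w y : Vn n F} (hy : Hy y) (h1 : hf y (ev 1) = 0) : Psi e t r h z w →
    Psi e t r h (ac (TT y) z) (ac (TT (y + (1 + rt (q0 y)) • ev 1)) w)
  | ⟨g, a, b, c⟩ => by
    have key : ∀ {v x : Vn n F} {k : G}, Hy v → Ov e t k x →
        Ov e t (t * e (TT v) * k * (t * e (TT v))⁻¹) (ac (TT v) x) := fun {v x k} hv hk => by
      have := nk.mul _ _ _ _ (nk.mul _ _ _ _ nk.ot (nk.cj k x _ (fh.tt v hv) hk)) (nk.inv _ _ nk.ot)
      rw [zero_add, add_zero] at this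
      convert this using 1; group
    refine ⟨_, key hy a, Nm.cen ⟨?_, fun x p q hx => ?_⟩ b, ?_⟩
    · rw [mul_assoc, ← mul_assoc (e _), ← aw.cen, mul_assoc, ← map_mul,
        Tc_mul_self (hf_self y) (star_one F), map_one, mul_one, aw.tt]
    · have hx' := hy_add hx (hy_smul (hf x y + q * rt (q0 y) + q) hy)
      have := congrArg (fun z => t * z * t⁻¹) (rm.tt y x p q hy hx)
      simp only [rm.tc _ _ _ hx'] at this
      exact ⟨_, _, _, hx', Eq.trans (by group) this⟩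
    · have := key (hy_add hy (hy_smul (1 + rt (q0 y)) fh.e1.1)) c
      rw [← rm.hv y hy h1] at this
      convert this using 1; group

include fh aw rm nk in
theorem psi_line (ka : KA e t r) {y : Vn n F} (hy : Hy y) (h1 : hf y (ev 1) = 0)
    (li : Li y (ev 1)) {a : F} (ha : a ≠ 0) :
    ∃ c : F, c ≠ 0 ∧ Psi e t r h (a • y) (c • (y + (1 + rt (q0 y)) • ev 1)) := by
  obtain ⟨z, hz, e1, e2⟩ := fh.sep2 y (ev 1) hy fh.e1.1 li a 0
  obtain ⟨w, hw⟩ := psi_ex fh aw rm nk ka hz e2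
  have := hw.add nk (hw.cj fh aw rm nk hy h1)
  rw [ac_TT, ac_TT, ← add_assoc, ← add_assoc, v_add_self, v_add_self, zero_add, zero_add,
    e1] at this
  refine ⟨_, fun h0 => ha ?_, this⟩
  rw [h0, zero_smul] at this
  exact (li a 0 (by rw [(this.symm fh rm).zero fh rm nk, zero_smul, add_zero])).1

theorem jobKA : JobKA.{u} := by
  intro n F _ _ _ _ _ _ G _ _ e t b fc fh aw δ r h rm nk ka
  have one : ∀ a : F, a ≠ 0 → a = 1 := fun a ha => by
    obtain ⟨h1, h2, h3⟩ := fh.e2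
    obtain ⟨c, hc, p⟩ := psi_line fh aw rm nk ka h1 h2 h3 ha
    obtain ⟨c', hc', p'⟩ := psi_line fh aw rm nk ka (hy_smul a h1)
      (by rw [hf_smul_left, h2, mul_zero]) (fun x y k => by
        have := h3 (x * a) y (by rwa [mul_smul])
        exact ⟨(mul_eq_zero.1 this.1).resolve_right ha, this.2⟩) one_ne_zero
    rw [one_smul] at p'
    have k := p.uq fh rm nk p'
    have er : rt (q0 (a • (ev 2 : Vn n F))) = a * rt (q0 (ev 2 : Vn n F)) :=
      sq_inj (by rw [rt_sq, mul_pow, rt_sq, q0_smul])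
    rw [er] at k
    obtain ⟨k1, k2⟩ := h3 (c - c' * a) (c * (1 + rt (q0 (ev 2 : Vn n F))) -
      c' * (1 + a * rt (q0 (ev 2 : Vn n F)))) (by linear_combination (norm := module) k)
    exact mul_left_cancel₀ hc' (by linear_combination k2 - (1 + rt (q0 (ev 2 : Vn n F))) * k1)
  have ln : ∀ {y : Vn n F}, Hy y → hf y (ev 1) = 0 → Li y (ev 1) →
      Psi e t r h y (y + (1 + rt (q0 y)) • ev 1) := fun hy h1 l => by
    obtain ⟨c, hc, p⟩ := psi_line fh aw rm nk ka hy h1 l one_ne_zero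
    rwa [one c hc, one_smul, one_smul] at p
  obtain ⟨h1, h2, h3⟩ := fh.e2
  have l2 : ∀ c : F, Li (ev 2 + c • ev 1 : Vn n F) (ev 1) := fun c x y k => by
    obtain ⟨rfl, k2⟩ := h3 x (x * c + y) (by rw [← k]; module)
    exact ⟨rfl, by simpa using k2⟩
  have a1 := ln h1 h2 h3
  have a2 := ln (hy_add h1 (hy_smul 1 fh.e1.1)) (by simp [hf_add_left, h2, hf_self]) (l2 1)
  have a3 := a1.add nk a2
  rw [one_smul, q0_add, h2, fh.e1.2.2, add_zero, add_zero, ← add_assoc, v_add_self, zero_add,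
    show ∀ x y z : Vn n F, x + y + (x + z + y) = z from fun x y z => by
      rw [add_right_comm x z, ← add_assoc, v_add_self, zero_add]] at a3
  obtain ⟨g, a, b', c⟩ := a1
  obtain ⟨x, k1⟩ := pb fh aw rm nk a3 h3 a b'
  obtain ⟨x', k2⟩ := pb fh aw rm nk a3 (l2 _) c ((nm_h fh rm).cen b')
  have h4 := hy_add h1 (hy_smul (1 + rt (q0 (ev 2 : Vn n F))) fh.e1.1)
  rw [← rm.hv _ h1 h2, cj3, k1, ← conj_mul, mul_left_inj, rE rm h1,
    rE rm h4, rm.hr _ _ _ (hy_smul x h1), hf_smul_left, h2] at k2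
  have k3 := (nk.rinj _ _ _ _ _ _ (hy_add (hy_smul x h1) (hy_smul _ fh.e1.1)) (hy_smul x' h4) k2).1
  obtain ⟨k4, k5⟩ := h3 (x - x') (1 + x * (1 + rt (q0 (ev 2 : Vn n F))) + δ * (x * 0) -
    x' * (1 + rt (q0 (ev 2 : Vn n F)))) (by linear_combination (norm := module) k3)
  exact one_ne_zero (α := F) (by linear_combination k5 - (1 + rt (q0 (ev 2 : Vn n F))) * k4)

end H71.SpKA
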