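import Cfsg.Agent.H54.P6.H86_SPGDef
import Cfsg.Agent.H85.P6.H86_SPIKit

namespace H94 end H94
open H94
namespace H85.P6 end H85.P6
open H85.P6
namespace H85.P6.H94 end H85.P6.H94
open H85.P6.H94
namespace H85.P6.H94.SPG end H85.P6.H94.SPG
open H85.P6.H94.SPG
namespace H54.P6


/-! STD-SP type I fusion, slot `LA`: an affine group on `H` that moves `0` has a translation. -/

set_option autoImplicit false
set_option linter.unusedSectionVars false

namespace H94.SPG

open H67.UA hiding Par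
open H67.SP
open H86.SPG
open H86.SPI (hf_comm hf_self hf_smul_right' ac_TT)

variable {n : ℕ} {F : Type} [Field F] [StarRing F] [TrivialStar F] [CharP F 2] [Finite F] [Par n F]
  {R : (Vn n F → Vn n F) → Vn n F → Prop} {A : Vn n F → Vn n F} {z : Vn n F}

theorem add_zero_iff {v w : Vn n F} : v + w = 0 ↔ v = w :=
  ⟨fun h => by rw [← add_zero v, ← v_add_self w, ← add_assoc, h, zero_add],
    fun h => by rw [h, v_add_self]⟩

theorem a0 (h : AfS R) (hA : R A z) : A 0 = 0 := by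
  have := h.add A z hA 0 0 hy_zero hy_zero
  rwa [add_zero, v_add_self] at this

theorem ainj (h : AfS R) (hA : R A z) {y y' : Vn n F} (hy : Hy y) (hy' : Hy y') (e : A y = A y') :
    y = y' := by
  obtain ⟨B, -, hB⟩ := h.inv A z hA
  rw [← (hB y hy).1, e, (hB y' hy').1]

theorem ane (h : AfS R) (hA : R A z) {y : Vn n F} (hy : Hy y) (e : y ≠ 0) : A y ≠ 0 := fun k =>
  e (ainj h hA hy hy_zero (by rw [k, a0 h hA]))

theorem asurj (h : AfS R) (hA : R A z) {y : Vn n F} (hy : Hy y) : ∃ x, Hy x ∧ A x = y := by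
  obtain ⟨B, hB, hB'⟩ := h.inv A z hA
  exact ⟨B y, h.hy _ _ hB y hy, (hB' y hy).2⟩

theorem li_of {f w : Vn n F} (h : hf f w ≠ 0) : Li f w := fun a b e => by
  have h1 := congrArg (fun v => hf v w) e
  have h2 := congrArg (fun v => hf v f) e
  simp only [hf_add_left, hf_smul_left, hf_self, mul_zero, add_zero, zero_add, hf_zero_left,
    hf_comm w f] at h1 h2
  exact ⟨(mul_eq_zero.1 h1).resolve_right h, (mul_eq_zero.1 h2).resolve_right h⟩

/-- S1: a vector whose image is perpendicular to `z`. -/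
theorem s1 (H : FH n F) (h : AfS R) (hA : R A z) {x : Vn n F} (hx : Hy x) (x0 : x ≠ 0)
    (hz : hf (A x) z = 0) :
    (∀ c : F, ∃ l : F, A (l • x) = c • A x) ∧ ∀ y, Hy y → (hf y x = 0 ↔ hf (A y) (A x) = 0) := by
  have hv := h.hy A z hA x hx
  have v0 := ane h hA hx x0
  obtain ⟨p, hp, k⟩ := h.k1 A z (A x) hA hv hz
  have k2 : ∀ y, Hy y → A (ac p y + y) = hf (A y) (A x) • A x := fun y hy => by
    rw [h.add A z hA _ _ (H.ss p hp y hy) hy, k y hy, ac_TT, add_right_comm, v_add_self, zero_add]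
  obtain ⟨y1, hy1, e1⟩ := H.sep1 (A x) hv v0 1
  obtain ⟨y0, hy0, rfl⟩ := asurj h hA hy1
  have e0 : ac p y0 + y0 = x := ainj h hA (hy_add (H.ss p hp y0 hy0) hy0) hx (by
    rw [k2 y0 hy0, e1, one_smul])
  have k3 : ∀ l : F, A (l • x) = hf (A (l • y0)) (A x) • A x := fun l => by
    rw [← k2 _ (hy_smul l hy0), ac_smul, ← smul_add, e0]
  have k4 : Function.Injective fun l : F => hf (A (l • y0)) (A x) := fun l l' e => by
    have : l • x = l' • x := ainj h hA (hy_smul l hx) (hy_smul l' hx) (by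
      rw [k3, k3]; exact congrArg (· • A x) e)
    exact smul_left_injective F x0 this
  have k5 : ∀ c : F, ∃ l : F, A (l • x) = c • A x := fun c => by
    obtain ⟨l, hl⟩ := Finite.surjective_of_injective k4 c
    exact ⟨l, by rw [k3]; exact congrArg (· • A x) hl⟩
  refine ⟨k5, fun y hy => ⟨fun e => ?_, fun e => ?_⟩⟩
  · have h1 : ac p⁻¹ y + y = 0 := H.nd _ (hy_add (H.ss _ (inv_mem hp) y hy) hy) fun w hw => by
      obtain ⟨l, hl⟩ := k5 (hf (A w) (A x))
      have h2 : ac p w + w = l • x := ainj h hA (hy_add (H.ss p hp w hw) hw) (hy_smul l hx) (by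
        rw [k2 w hw, hl])
      rw [hf_add_right, ← hf_ac_left, ← hf_add_left, h2, hf_smul_left, hf_comm x y, e, mul_zero]
    have h3 : ac p y = y := by
      conv_lhs => rw [← add_zero_iff.1 h1]
      rw [ac_ac_inv]
    have h4 := k2 y hy
    rw [h3, v_add_self, a0 h hA] at h4
    exact (smul_eq_zero.1 h4.symm).resolve_right v0
  · have h4 := k2 y hy
    rw [e, zero_smul, ← a0 h hA] at h4
    have h3 : ac p y = y := add_zero_iff.1 (ainj h hA (hy_add (H.ss p hp y hy) hy) hy_zero h4)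
    rw [← e0, hf_add_right]
    conv_lhs => rw [← h3]
    rw [hf_ac, h3, CharTwo.add_self_eq_zero]

theorem s2a (H : FH n F) (h : AfS R) (hA : R A z) {x : Vn n F} (hx : Hy x)
    (hz : hf (A x) z ≠ 0) (l : F) : ∃ a b : F, A (l • x) = a • A x + b • z := by
  refine H.du2 _ _ _ (h.hy A z hA _ (hy_smul l hx)) (h.hy A z hA x hx) (h.hz A z hA) (li_of hz)
    fun v hv e1 e2 => ?_
  obtain ⟨w, hw, rfl⟩ := asurj h hA hv
  by_cases w0 : w = 0
  · rw [w0, a0 h hA, hf_zero_left]
  have k := (s1 H h hA hw w0 e2).2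
  rw [hf_comm, ← k _ (hy_smul l hx), hf_smul_left, (k x hx).2 (by rw [hf_comm, e1]), mul_zero]

/-- S2: lines go onto lines. -/
theorem s2 (H : FH n F) (h : AfS R) (hA : R A z) {x : Vn n F} (hx : Hy x) (c : F) :
    ∃ l : F, c • A x = A (l • x) := by
  suffices key : ∀ {A z}, R A z → ∀ {x}, Hy x → hf (A x) z ≠ 0 → ∀ c : F, ∃ l : F,
      A (c • x) = l • A x by
    by_cases x0 : x = 0
    · exact ⟨0, by rw [x0, smul_zero, a0 h hA, smul_zero]⟩
    by_cases hz : hf (A x) z = 0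
    · exact ((s1 H h hA hx x0 hz).1 c).imp fun l => Eq.symm
    choose g hg using key hA hx hz
    have k4 : Function.Injective g := fun l l' e =>
      smul_left_injective F x0 (ainj h hA (hy_smul l hx) (hy_smul l' hx) (by rw [hg, hg, e]))
    obtain ⟨l, hl⟩ := Finite.surjective_of_injective k4 c
    exact ⟨l, by rw [hg, hl]⟩
  intro A z hA x hx hz c
  have hf' := h.hy A z hA x hx
  have hzz := h.hz A z hA
  obtain ⟨y, hy, y0, e1, e2⟩ := H.ex (A x) z hf' hzz
  have hz' : hf (A x) (z + y) ≠ 0 := by rwa [hf_add_right, hf_comm _ y, e1, add_zero]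
  obtain ⟨p, hp, ep⟩ := H.ts z (z + y) hzz (hy_add hzz hy) (fun k => hz (by rw [k]; simp))
    (fun k => hz' (by rw [k]; simp))
  have hA' := h.comp _ _ _ _ (h.sp p hp) hA
  rw [zero_add, ep] at hA'
  obtain ⟨B, hB, hB'⟩ := h.inv A z hA
  have hC := h.comp _ _ _ _ hB hA'
  rw [h.add _ _ hB _ _ hzz hy, ← add_assoc, v_add_self, zero_add] at hC
  obtain ⟨x', hx', ex'⟩ := asurj h hA' hf'
  have x0 : x ≠ 0 := fun k => hz (by rw [k, a0 h hA]; simp)
  have eC : (B ∘ ac p ∘ A) x' = x := by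
    rw [Function.comp_apply, ex', (hB' x hx).1]
  have hBy := h.hy _ _ hB y hy
  have By0 : B y ≠ 0 := ane h hB hy y0
  have e3 : hf x (B y) = 0 :=
    ((s1 H h hA hBy By0 (by rw [(hB' y hy).2, e2])).2 x hx).2 (by rw [(hB' y hy).2, hf_comm, e1])
  obtain ⟨l, hl⟩ := (s1 H h hC hx' (fun k => x0 (by rw [← eC, k, a0 h hC])) (by rw [eC, e3])).1 c
  rw [eC, Function.comp_apply] at hl
  have e4 : A (c • x) = (ac p ∘ A) (l • x') := by
    rw [← hl, (hB' _ (h.hy _ _ hA' _ (hy_smul l hx'))).2]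
  obtain ⟨a, b, e5⟩ := s2a H h hA hx hz c
  obtain ⟨a', b', e6⟩ := s2a H h hA' hx' (by rwa [ex']) l
  rw [← e4, ex', e5] at e6
  have h1 := congrArg (fun v => hf v (A x)) e6
  have h2 := congrArg (fun v => hf v z) e6
  simp only [hf_add_left, hf_smul_left, hf_self, mul_zero, add_zero, zero_add, e1, e2,
    hf_comm z (A x)] at h1 h2
  have h3 : b = b' := mul_right_cancel₀ hz h1
  have h4 : a = a' := mul_right_cancel₀ hz h2
  subst h3 h4
  rw [smul_add, ← add_assoc, left_eq_add] at e6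
  exact ⟨a, by rw [e5, (smul_eq_zero.1 e6).resolve_right y0, zero_smul, add_zero]⟩

theorem s2' (H : FH n F) (h : AfS R) (hA : R A z) {x : Vn n F} (hx : Hy x) (c : F) :
    ∃ l : F, A (c • x) = l • A x := by
  obtain ⟨B, hB, hB'⟩ := h.inv A z hA
  have hAx := h.hy A z hA x hx
  obtain ⟨l, hl⟩ := s2 H h hB hAx c
  rw [(hB' x hx).1] at hl
  exact ⟨l, by rw [hl, (hB' _ (hy_smul l hAx)).2]⟩

/-- S3: perpendicularity is kept. -/
theorem s3 (H : FH n F) (h : AfS R) (hA : R A z) {x x' : Vn n F} (hx : Hy x) (hx' : Hy x')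
    (e : hf x x' = 0) : hf (A x) (A x') = 0 := by
  have key : ∀ {x x' : Vn n F}, Hy x → Hy x' → hf x x' = 0 → hf (A x') z = 0 →
      hf (A x) (A x') = 0 := fun {x x'} hx hx' e hz => by
    by_cases x0 : x' = 0
    · rw [x0, a0 h hA, hf_zero_right]
    exact ((s1 H h hA hx' x0 hz).2 x hx).1 e
  by_cases hz : hf (A x) z = 0
  · rw [hf_comm]; exact key hx' hx (hf_symm e) hz
  obtain ⟨l, hl⟩ := s2 H h hA hx (hf (A x') z / hf (A x) z)
  have e1 : A (x' + l • x) = A x' + (hf (A x') z / hf (A x) z) • A x := by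
    rw [h.add A z hA _ _ hx' (hy_smul l hx), hl]
  have := key hx (hy_add hx' (hy_smul l hx)) (by
    rw [hf_add_right, hf_smul_right', e, hf_self, mul_zero, add_zero]) (by
    rw [e1, hf_add_left, hf_smul_left, div_mul_cancel₀ _ hz, CharTwo.add_self_eq_zero])
  rwa [e1, hf_add_right, hf_smul_right', hf_self, mul_zero, add_zero] at this

theorem la (H : FH n F) : LA n F := by
  intro R h A z hA z0
  have hz := h.hz A z hA
  obtain ⟨f, hf1, e1⟩ := H.sep1 z hz z0 1
  have e1' : hf z f = 1 := by rw [hf_comm, e1]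
  have f0 : f ≠ 0 := fun k => by rw [k] at e1; simp at e1
  obtain ⟨B, hB, hB'⟩ := h.inv A z hA
  have hx := h.hy _ _ hB f hf1
  have x0 := ane h hB hf1 f0
  have hC := h.comp _ _ _ _ hA (h.comp _ _ _ _ (h.sp _ (H.tt _ hx)) hB)
  rw [zero_add] at hC
  set C := A ∘ ac (TT (B f)) ∘ B with hCd
  have hC' : R C (z + C z) := hC
  have k1 : ∀ w, Hy w → C w = w + A (hf (B w) (B f) • B f) := fun w hw => by
    have hw' := h.hy _ _ hB w hw
    rw [hCd, Function.comp_apply, Function.comp_apply, ac_TT,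
      h.add A z hA _ _ hw' (hy_smul _ hx), (hB' w hw).2]
  have k2 : ∀ w, Hy w → ∃ a : F, C w = w + a • f := fun w hw => by
    obtain ⟨l, hl⟩ := s2' H h hA hx (hf (B w) (B f))
    exact ⟨l, by rw [k1 w hw, hl, (hB' f hf1).2]⟩
  have k3 : ∀ w, Hy w → hf w f = 0 → C w = w := fun w hw e => by
    rw [k1 w hw, s3 H h hB hw hf1 e, zero_smul, a0 h hA, add_zero]
  obtain ⟨a, ha⟩ := k2 z hz
  have a0' : a ≠ 0 := fun k => by
    have h1 := k1 z hz
    rw [ha, k, zero_smul, add_right_inj, ← a0 h hA] at h1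
    have h2 := (smul_eq_zero.1 (ainj h hA hy_zero (hy_smul _ hx) h1).symm).resolve_right x0
    have h3 := s3 H h hA (h.hy _ _ hB z hz) hx h2
    rw [(hB' z hz).2, (hB' f hf1).2, e1'] at h3
    exact one_ne_zero h3
  have k4 : ∀ l : F, C (l • z) = l • z + (l * a) • f := fun l => by
    obtain ⟨c, hc⟩ := s2' H h hC' hz l
    obtain ⟨d, hd⟩ := k2 _ (hy_smul l hz)
    have h1 := congrArg (fun v => hf v f) (hc.symm.trans hd)
    simp only [ha, hf_add_left, hf_smul_left, hf_self, mul_zero, add_zero, e1', mul_one] at h1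
    rw [hc, h1, ha, smul_add, smul_smul]
  have k5 : ∀ w, Hy w → C w = w + (hf w f * a) • f := fun w hw => by
    have h1 : w = hf w f • z + (w + hf w f • z) := by
      rw [add_left_comm, v_add_self, add_zero]
    have h2 : Hy (w + hf w f • z) := hy_add hw (hy_smul _ hz)
    conv_lhs => rw [h1]
    rw [h.add _ _ hC' _ _ (hy_smul _ hz) h2, k4, k3 _ h2 (by
      rw [hf_add_left, hf_smul_left, e1', mul_one, CharTwo.add_self_eq_zero]), add_right_comm, ← h1]
  have k6 : ∀ w, ac (TT (rt a • f)) w = w + (hf w f * a) • f := fun w => by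
    rw [ac_TT, hf_smul_right', smul_smul, mul_right_comm, ← pow_two, rt_sq, mul_comm]
  have hD := h.comp _ _ _ _ (h.sp _ (H.tt _ (hy_smul (rt a) hf1))) hC'
  refine ⟨_, _, hD, ?_, fun y hy => ?_⟩
  · rw [zero_add, ha, ← add_assoc, v_add_self, zero_add, k6, hf_smul_left, hf_self, mul_zero,
      zero_mul, zero_smul, add_zero]
    exact smul_ne_zero a0' f0
  · rw [Function.comp_apply, k5 y hy, k6, hf_add_left, hf_smul_left, hf_self, mul_zero, add_zero,
      add_assoc, v_add_self, add_zero]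

theorem jobLA : H86.SPG.JobLA := by
  intro n F _ _ _ _ _ _ _ H
  exact la H

end H94.SPG
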