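/- STD-SP (row S3129), type I fusion, slot KB (blueprints/STDSP_G.md). -/
import Cfsg.Agent.H54.P6.H71_SpKA

namespace H99 end H99
open H99
namespace H85.P6 end H85.P6
open H85.P6
namespace H85.P6.H99 end H85.P6.H99
open H85.P6.H99
namespace H85.P6.H99.SPGKB end H85.P6.H99.SPGKB
open H85.P6.H99.SPGKB
namespace H54.P6


set_option autoImplicit false
set_option linter.unusedSectionVars false

namespace H99.SPGKB

open H67.UA hiding Par
open H67.SP
open H86.SPI (hf_comm hf_self q0_add rt_add rt_zero)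
open H86.SPG
open H37.SP (t_ac t_sq t_cj)

universe u

variable {n : ℕ} {F : Type} [Field F] [StarRing F] [TrivialStar F] [CharP F 2] [Finite F]
  [Par n F] [Base n F] {G : Type u} [Group G]

/-- The hypotheses of the slot. -/
structure Cx (e : XU n F →* G) (t : G) (δ : F) (r : Vn n F → F → F → G) (h : G) : Prop where
  fh : FH n F
  aw : AW e t
  rm : RM e t δ r h
  nk : NK e t r
  ex : EX e t
  kb : KB e t r

/-- `ν = [T v, m]` for a translation `m` over a vector not perpendicular to `v`. -/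
def Nu (e : XU n F →* G) (t : G) (v : Vn n F) (ν : G) : Prop :=
  ∃ m f, Ov e t m f ∧ hf f v = 1 ∧ ν = e (TT v) * m * (e (TT v))⁻¹ * m⁻¹

variable {e : XU n F →* G} {t : G} {δ : F} {r : Vn n F → F → F → G} {h : G}
  {v w s : Vn n F} {ν ν' : G}

theorem T_sq (e : XU n F →* G) (v : Vn n F) : e (TT v) * e (TT v) = 1 := by
  rw [← map_mul, t_sq, map_one]

theorem T_inv (e : XU n F →* G) (v : Vn n F) : (e (TT v))⁻¹ = e (TT v) :=
  inv_eq_of_mul_eq_one_right (T_sq e v)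

theorem T_cj (e : XU n F →* G) (s v : Vn n F) :
    e (TT s) * e (TT v) * (e (TT s))⁻¹ = e (TT (v + hf v s • s)) := by
  rw [← map_inv, ← map_mul, ← map_mul, t_cj, t_ac]

theorem add3 (a : F) : a + a = 0 := CharTwo.add_self_eq_zero a

namespace Cx

variable (c : Cx e t δ r h)
include c

theorem f2 (x : F) : x = 0 ∨ x = 1 := by
  obtain ⟨y, -, hy⟩ := (Nat.card_eq_two_iff' (0 : F)).1 c.kb.two
  exact or_iff_not_imp_left.2 fun k => (hy x k).trans (hy 1 one_ne_zero).symm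

theorem li (h0 : v ≠ 0) (h1 : s ≠ 0) (h2 : s ≠ v) : Li s v := fun a b k => by
  rcases c.f2 a with rfl | rfl <;> rcases c.f2 b with rfl | rfl
  · exact ⟨rfl, rfl⟩
  · exact absurd (by simpa using k) h0
  · exact absurd (by simpa using k) h1
  · rw [one_smul, one_smul] at k
    exact absurd (by rw [← add_zero s, ← v_add_self v, ← add_assoc, k, zero_add]) h2

theorem rinv {y : Vn n F} (hy : Hy y) (a b : F) : (r y a b)⁻¹ = r y a b :=
  inv_eq_of_mul_eq_one_right (c.nk.sq y a b hy)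

/-- the action of a translation on `Q` -/
theorem act0 {g : G} {z y : Vn n F} (o : Ov e t g z) (hy : Hy y) (a : F) :
    g * r y a 0 * g⁻¹ = r y (a + hf y z) 0 := by
  obtain ⟨γ, k⟩ := c.kb.act g z o
  rw [k y a 0 hy, zero_smul, add_zero, mul_zero, add_zero]

theorem tt0 {y : Vn n F} (hv : Hy v) (hy : Hy y) (p : hf y v = 0) (a : F) :
    e (TT v) * r y a 0 * (e (TT v))⁻¹ = r y a 0 := by
  rw [c.rm.tt v y a 0 hv hy, p]; simp

theorem ovT {g : G} {z : Vn n F} (o : Ov e t g z) (hv : Hy v) :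
    Ov e t (e (TT v) * g * (e (TT v))⁻¹) (z + hf z v • v) :=
  t_ac v z ▸ c.nk.cj g z _ (c.fh.tt v hv) o

theorem ov (hv : Hy v) (k : Nu e t v ν) : Ov e t ν v := by
  obtain ⟨m, f, o, p, rfl⟩ := k
  have := c.nk.mul _ _ _ _ (c.ovT o hv) (c.nk.inv _ _ o)
  rwa [p, one_smul, add_right_comm, v_add_self, zero_add] at this

theorem exNu (hv : Hy v) (h0 : v ≠ 0) : ∃ ν, Nu e t v ν := by
  obtain ⟨f, hf', p⟩ := c.fh.sep1 v hv h0 1
  obtain ⟨m, o⟩ := c.ex f hf'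
  exact ⟨_, m, f, o, p, rfl⟩

theorem uq (hv : Hy v) (k : Nu e t v ν) (k' : Nu e t v ν') : ∃ a b : F, ν' = ν * r (b • v) a 0 := by
  obtain ⟨m, f, o, p, rfl⟩ := k
  obtain ⟨m', f', o', p', rfl⟩ := k'
  obtain ⟨a, b, q⟩ := c.kb.k0 _ _ v (c.nk.mul _ _ _ _ (c.nk.inv _ _ o) o') hv (by
    rw [hf_comm, hf_add_left, p, p', add3])
  refine ⟨a + hf (b • v) f, b, ?_⟩
  rw [← c.act0 o (hy_smul b hv), ← c.rinv (hy_smul b hv), eq_mul_inv_of_mul_eq q.symm]
  group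

theorem fixLi (hv : Hy v) (hs : Hy s) (p : hf s v = 0) (l : Li s v) (k : Nu e t v ν) :
    e (TT s) * ν * (e (TT s))⁻¹ = ν := by
  obtain ⟨f, hf', p1, p2⟩ := c.fh.sep2 s v hs hv l 0 1
  obtain ⟨m, o⟩ := c.ex f hf'
  have k0 : Nu e t v _ := ⟨m, f, o, p2, rfl⟩
  obtain ⟨a, b, rfl⟩ := c.uq hv k0 k
  obtain ⟨a', b', q⟩ := c.kb.k0 _ _ s o hs (by rw [hf_comm, p1])
  have hb := hy_smul b' hs
  have pb : hf (b' • s) v = 0 := by rw [hf_smul_left, p, mul_zero]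
  have e1 : e (TT s) * m * (e (TT s))⁻¹ = r (b' • s) a' 0 * m := by
    rw [← c.rinv hb, eq_mul_inv_of_mul_eq q.symm]; group
  have e2 : e (TT s) * e (TT v) * (e (TT s))⁻¹ = e (TT v) := by
    rw [T_cj, hf_comm, p, zero_smul, add_zero]
  have e3 := c.act0 (c.ov hv k0) hb a'
  rw [pb, add_zero] at e3
  rw [← conj_mul, c.tt0 hs (hy_smul b hv) (by rw [hf_smul_left, hf_comm, p, mul_zero]),
    ← conj_mul, ← conj_mul, ← conj_mul, conj_inv.symm, conj_inv.symm, e1, e2]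
  congr 1
  calc _ = (e (TT v) * r (b' • s) a' 0 * (e (TT v))⁻¹) * (e (TT v) * m * (e (TT v))⁻¹ * m⁻¹) *
        (r (b' • s) a' 0)⁻¹ := by group
    _ = _ := by
      rw [c.tt0 hv hb pb]
      conv_lhs => enter [1, 1]; rw [← e3]
      group

theorem trr {g : G} {z : Vn n F} (o : Ov e t g z) : ∃ a, g * t * g⁻¹ = t * r z a 0 := by
  obtain ⟨d, q⟩ := o.tr
  exact ⟨_, q.trans (by rw [c.nk.qr z d o.hz])⟩

omit c in
theorem Tnu (k : Nu e t v ν) : e (TT v) * ν * (e (TT v))⁻¹ = ν⁻¹ := by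
  obtain ⟨m, f, -, -, rfl⟩ := k
  calc _ = (e (TT v) * e (TT v)) * m * (e (TT v))⁻¹ * m⁻¹ * (e (TT v))⁻¹ := by group
    _ = m * e (TT v) * m⁻¹ * (e (TT v))⁻¹ := by rw [T_sq, one_mul, T_inv]
    _ = _ := by group

theorem s_sq : t * e (TT v) * (t * e (TT v)) = 1 := by
  rw [mul_assoc, ← mul_assoc (e _), ← c.aw.cen, mul_assoc, T_sq, mul_one, c.aw.tt]

theorem sact {y : Vn n F} (hy : Hy y) (a b : F) :
    t * e (TT (ev 1)) * r y a b * (t * e (TT (ev 1)))⁻¹ =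
      r (y + (hf y (ev 1) + b) • ev 1) (a + (hf y (ev 1) + b)) b := by
  rw [H71.SpKA.s_act c.rm c.fh.e1.1 hy, c.fh.e1.2.2, rt_zero]
  simp

theorem uact {m : G} {f y : Vn n F} (o : Ov e t m f) (p : hf f (ev 1) = 1) (hy : Hy y) (a b : F) :
    m * (t * e (TT (ev 1))) * m⁻¹ * r y a b * (m * (t * e (TT (ev 1))) * m⁻¹)⁻¹ =
      r (y + hf y (ev 1) • ev 1) a b := by
  obtain ⟨γ, q⟩ := c.kb.act m f o
  have h1 := hy_add hy (hy_smul b o.hz)
  have k : m⁻¹ * r y a b * m = r (y + b • f) (a + hf y f + γ * b) b := by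
    have := q _ (a + hf y f + γ * b) b h1
    rw [add_assoc y, v_add_self, add_zero, hf_add_left, hf_smul_left, hf_self, mul_zero, add_zero,
      show a + hf y f + γ * b + hf y f + γ * b = a by linear_combination (hf y f + γ * b) * two0 F] at this
    rw [← this]; group
  calc _ = m * (t * e (TT (ev 1)) * (m⁻¹ * r y a b * m) * (t * e (TT (ev 1)))⁻¹) * m⁻¹ := by group
    _ = _ := by
      rw [k, c.sact h1, q _ _ _ (hy_add h1 (hy_smul _ c.fh.e1.1))]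
      simp only [hf_add_left, hf_smul_left, hf_self, p, hf_comm (ev 1) f]
      congr 1
      · rw [mul_one, add_assoc (hf y (ev 1)), add3, add_zero, add_right_comm _ _ (b • f), add_assoc y,
          v_add_self, add_zero]
      · linear_combination (hf y f + γ * b + hf y (ev 1) + 2 * b) * two0 F

theorem kap {m : G} {f : Vn n F} (o : Ov e t m f) (p : hf f (ev 1) = 1) {S u : G}
    (hS : S = t * e (TT (ev 1))) (hu : u = m * S * m⁻¹)
    (hν : ν = e (TT (ev 1)) * m * (e (TT (ev 1)))⁻¹ * m⁻¹) :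
    ∃ x : F, S * u * S * u = r (x • ev 1) (1 + x) 0 ∧ S * u * S * u = r 0 1 0 * (ν * ν) := by
  have h1 := c.fh.e1.1
  have k : Nu e t (ev 1) ν := ⟨m, f, o, p, hν⟩
  have ov := c.ov h1 k
  have i : h⁻¹ = h := inv_eq_of_mul_eq_one_right c.rm.hh
  have S2 : S * S = 1 := hS ▸ c.s_sq
  have iS : S⁻¹ = S := inv_eq_of_mul_eq_one_right S2
  have iu : u⁻¹ = u := inv_eq_of_mul_eq_one_right (by rw [hu, conj_mul, S2]; simp)
  obtain ⟨α, k1⟩ := c.trr o
  obtain ⟨β, k2⟩ := c.trr ov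
  obtain ⟨a, b, k3⟩ := c.kb.k0 ν _ _ ov h1 (hf_self _)
  obtain ⟨y0, a0, hy0, p0, e1⟩ : ∃ y0 a0, Hy y0 ∧ hf y0 (ev 1) = 1 ∧ S * u = r y0 a0 0 * ν := by
    refine ⟨_, _, hy_add o.hz (hy_smul _ h1), ?_, Eq.trans ?_ (congrArg (· * ν) (c.rm.tt _ f α 0 h1 o.hz))⟩
    · rw [hf_add_left, hf_smul_left, hf_self, mul_zero, add_zero, p]
    · calc _ = t * e (TT (ev 1)) * (m * t * m⁻¹) * (m * e (TT (ev 1)) * m⁻¹) := by rw [hu, hS]; group
        _ = t * (e (TT (ev 1)) * t) * r f α 0 * (m * (e (TT (ev 1)))⁻¹ * m⁻¹) := by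
          rw [k1, T_inv]; group
        _ = _ := by rw [← c.aw.cen, ← mul_assoc t, c.aw.tt, hν]; group
  have e2 : S * u * S * u = r 0 1 0 * (ν * ν) := by
    calc _ = r y0 a0 0 * (ν * r y0 a0 0 * ν⁻¹) * (ν * ν) := by rw [mul_assoc (S * u), e1]; group
      _ = _ := by
        rw [c.act0 ov hy0, c.rm.mul _ _ _ _ _ _ hy0 hy0, v_add_self, p0, ← add_assoc, add3, zero_add,
          add_zero]
  have e3 : ν * ν = r (b • ev 1) a 0 := by
    calc _ = ν * e (TT (ev 1)) * ν⁻¹ * (e (TT (ev 1)))⁻¹ := by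
          have := congrArg (·⁻¹) (Tnu k)
          simp only [inv_inv] at this
          conv_lhs => rw [← this]
          rw [this]; conv_lhs => enter [2]; rw [← this]
          group
      _ = _ := by rw [k3, mul_inv_cancel_right]
  have hb := hy_smul b h1
  have e4 : S * u * S * u = r (b • ev 1) (1 + a) 0 := by
    rw [e2, e3, c.rm.mul _ _ _ _ _ _ hy_zero hb, zero_add, add_zero]
  have ua : ∀ y a b, Hy y → u * r y a b * u⁻¹ = r (y + hf y (ev 1) • ev 1) a b := fun y a b hy => by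
    rw [hu, hS]; exact c.uact o p hy a b
  have la : ∀ y a b, Hy y → h * u * h⁻¹ * r y a b * (h * u * h⁻¹)⁻¹ =
      r (y + hf y (ev 1) • ev 1) a b := fun y a b hy => by
    have h2 := hy_add hy (hy_smul (a + δ * hf y (ev 1)) h1)
    calc _ = h * (u * (h⁻¹ * r y a b * h⁻¹⁻¹) * u⁻¹) * h⁻¹ := by group
      _ = _ := by
        rw [show h⁻¹ * r y a b * h⁻¹⁻¹ = h * r y a b * h⁻¹ by rw [inv_inv, i], c.rm.hr y a b hy,
          ua _ _ _ h2,
          c.rm.hr _ _ _ (hy_add h2 (hy_smul _ h1))]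
        simp only [hf_add_left, hf_smul_left, hf_self, mul_zero, add_zero]
        rw [add_assoc b, add3, add_zero, add_right_comm _ (hf y (ev 1) • ev 1), add_assoc y, v_add_self,
          add_zero]
  have cen : ∀ y a b, Hy y → h * u * h⁻¹ * u * r y a b * (h * u * h⁻¹ * u)⁻¹ = r y a b :=
    fun y a b hy => by
      calc _ = h * u * h⁻¹ * (u * r y a b * u⁻¹) * (h * u * h⁻¹)⁻¹ := by group
        _ = _ := by
          rw [ua y a b hy, la _ _ _ (hy_add hy (hy_smul _ h1)), hf_add_left, hf_smul_left, hf_self,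
            mul_zero, add_zero, add_assoc, v_add_self, add_zero]
  have e5 : u * t * u⁻¹ = t * r (ev 1) β 0 := by
    have k4 := c.nk.rt' y0 a0 0 hy0
    rw [c.nk.one, mul_one] at k4
    have k5 := c.sact h1 β 0
    rw [hf_self, add_zero, zero_smul, add_zero, add_zero, ← hS] at k5
    have k6 : S * t * S⁻¹ = t := by rw [hS, mul_assoc t, ← c.aw.cen]; group
    calc _ = S⁻¹ * (S * u * t * (S * u)⁻¹) * S⁻¹⁻¹ := by group
      _ = S * (r y0 a0 0 * t * (r y0 a0 0)⁻¹ * (r y0 a0 0 * r (ev 1) β 0 * (r y0 a0 0)⁻¹)) * S⁻¹ := by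
        rw [e1, conj_mul, ← k2, show ∀ x, S⁻¹ * x * S⁻¹⁻¹ = S * x * S⁻¹ from fun x => by
          rw [inv_inv, iS]]
        group
      _ = _ := by
        rw [k4, c.rm.mul _ _ _ _ _ _ hy0 h1, add_comm y0, add_comm a0, ← c.rm.mul _ _ _ _ _ _ h1 hy0,
          mul_inv_cancel_right, ← conj_mul, k5, k6]
  have e6 : h * u * h⁻¹ * t * (h * u * h⁻¹)⁻¹ = t * r (b • ev 1 + (1 + a) • ev 1) (1 + a) 0 := by
    have k4 := c.rm.hr (b • ev 1) (1 + a) 0 hb
    rw [hf_smul_left, hf_self, mul_zero, mul_zero, add_zero, add_zero] at k4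
    have k5 : h⁻¹ * t * h = S := by rw [hS, ← c.rm.ht, i]
    calc _ = h * (u * (h⁻¹ * t * h) * u⁻¹) * h⁻¹ := by group
      _ = h * (S⁻¹ * (S * u * S * u)) * h⁻¹ := by rw [k5, iu]; group
      _ = _ := by rw [e4, iS, ← conj_mul, k4, ← k5]; group
  have hz := hy_add (hy_add hb (hy_smul (1 + a) h1)) h1
  have e7 : h * u * h⁻¹ * u * t * (h * u * h⁻¹ * u)⁻¹ =
      t * r (b • ev 1 + (1 + a) • ev 1 + ev 1) (1 + a + β) 0 := by
    calc _ = h * u * h⁻¹ * (u * t * u⁻¹) * (h * u * h⁻¹)⁻¹ := by group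
      _ = _ := by
        rw [e5, ← conj_mul, e6, la _ _ _ h1, hf_self, zero_smul, add_zero, mul_assoc,
          c.rm.mul _ _ _ _ _ _ (hy_add hb (hy_smul _ h1)) h1, add_zero]
  obtain ⟨γ, q⟩ := c.kb.act (h * u * h⁻¹ * u) _ ⟨hz, fun d => by
    rw [show Tc d (ev 0 : Vn n F) = EE (ev 0) 0 d from rfl, c.nk.qr 0 d hy_zero, cen _ _ _ hy_zero],
    fun y d hy => ⟨d, by rw [c.nk.qr y d hy, cen _ _ _ hy]⟩, _, by rw [e7, c.rm.q _ _ hz]⟩
  have k4 := q 0 0 1 hy_zero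
  rw [cen _ _ _ hy_zero] at k4
  have k5 := (c.nk.rinj _ _ _ _ _ _ hy_zero (hy_add hy_zero (hy_smul 1 hz)) k4).1
  have k6 : (b + a) • (ev 1 : Vn n F) = 0 := by
    rw [k5, zero_add, one_smul, add_smul 1, one_smul, add_smul, add_comm (ev 1), add_assoc, add_assoc,
      v_add_self, add_zero]
  have k7 : a = b := by
    linear_combination (smul_eq_zero.1 k6).resolve_right c.fh.e1.2.1 - b * two0 F
  exact ⟨b, k7 ▸ e4, e2⟩

theorem sq1 (k : Nu e t (ev 1) ν) : ν * ν = 1 := by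
  obtain ⟨m, f, o, p, hν⟩ := k
  have h1 := c.fh.e1.1
  obtain ⟨x, k1, k2⟩ := c.kap o p rfl rfl hν
  obtain ⟨x', k3, -⟩ := c.kap (c.nk.inv _ _ o) p rfl rfl rfl
  have i : (t * e (TT (ev 1 : Vn n F)))⁻¹ = t * e (TT (ev 1)) := inv_eq_of_mul_eq_one_right c.s_sq
  generalize t * e (TT (ev 1 : Vn n F)) = S at *
  have k4 := c.act0 o (hy_smul x' h1) (1 + x')
  rw [← k3, show m * (S * (m⁻¹ * S * m⁻¹⁻¹) * S * (m⁻¹ * S * m⁻¹⁻¹)) * m⁻¹ =
    (S⁻¹ * (m * S⁻¹ * m⁻¹) * S⁻¹ * (m * S⁻¹ * m⁻¹))⁻¹ by group, i, k1, c.rinv (hy_smul x h1),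
    hf_smul_left, hf_comm, p] at k4
  have k5 := (c.nk.rinj _ _ _ _ _ _ (hy_smul x h1) (hy_smul x' h1) k4).2.1
  have x0 : x = 0 := by linear_combination k5 + x' * two0 F
  rw [k1, x0, zero_smul, add_zero] at k2
  exact left_eq_mul.1 k2

theorem sq2 (hv : Hy v) (h0 : v ≠ 0) (k : Nu e t v ν) : ν * ν = 1 := by
  obtain ⟨g, g1, g2⟩ := c.fh.ts v _ hv c.fh.e1.1 h0 c.fh.e1.2.1
  obtain ⟨m, f, o, p, hν⟩ := k
  have := c.sq1 (ν := e g * ν * (e g)⁻¹) ⟨_, _, c.nk.cj m f g g1 o, by rw [← g2, hf_ac, p], by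
    rw [hν, ← g2, ← t_cj, map_mul, map_mul, map_inv]; group⟩
  rwa [conj_mul, conj_eq_one_iff] at this

theorem fix (hv : Hy v) (h0 : v ≠ 0) (k : Nu e t v ν) (hs : Hy s) (p : hf s v = 0) :
    e (TT s) * ν * (e (TT s))⁻¹ = ν := by
  by_cases s0 : s = 0
  · rw [s0, show (TT 0 : XU n F) = 1 from EE_zero_left _ _, map_one]; group
  by_cases sv : s = v
  swap
  · exact c.fixLi hv hs p (c.li h0 s0 sv) k
  subst sv
  rw [Tnu k, inv_eq_of_mul_eq_one_right (c.sq2 hv h0 k)]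

theorem inv (hv : Hy v) (h0 : v ≠ 0) (k : Nu e t v ν) : ν⁻¹ = ν := by
  rw [← c.fix hv h0 k hv (hf_self v)]
  conv_lhs => rw [c.fix hv h0 k hv (hf_self v)]
  obtain ⟨m, f, -, -, rfl⟩ := k
  calc _ = m * e (TT v) * m⁻¹ * (e (TT v))⁻¹ := by group
    _ = (e (TT v) * e (TT v)) * m * (e (TT v))⁻¹ * m⁻¹ * (e (TT v))⁻¹ := by
      rw [T_sq, one_mul, T_inv]
    _ = _ := by group

theorem act (hv : Hy v) (k : Nu e t v ν) {y : Vn n F} (hy : Hy y) (a b : F) :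
    ν * r y a b * ν⁻¹ = r (y + b • v) (a + hf y v + b) b := by
  obtain ⟨γ, q⟩ := c.kb.act ν v (c.ov hv k)
  suffices γ = 1 by rw [q y a b hy, this, one_mul]
  obtain ⟨m, f, o, p, rfl⟩ := k
  obtain ⟨g, q'⟩ := c.kb.act m f o
  have p' : hf v f = 1 := by rw [hf_comm, p]
  have e1 : m⁻¹ * r 0 0 1 * m = r f g 1 := by
    have := q' f g 1 o.hz
    rw [one_smul, v_add_self, hf_self, add_zero, mul_one, add3] at this
    rw [← this]; group
  have e0 := q 0 0 1 hy_zero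
  have e2 : e (TT v) * m * (e (TT v))⁻¹ * m⁻¹ * r 0 0 1 * (e (TT v) * m * (e (TT v))⁻¹ * m⁻¹)⁻¹ =
      e (TT v) * (m * (e (TT v) * (m⁻¹ * r 0 0 1 * m) * (e (TT v))⁻¹) * m⁻¹) * (e (TT v))⁻¹ := by
    rw [← (show ∀ x, (e (TT v))⁻¹ * x * e (TT v) = e (TT v) * x * (e (TT v))⁻¹ from
      fun x => by rw [T_inv]) (m⁻¹ * r 0 0 1 * m)]
    group
  have h1 := fun x : F => hy_add o.hz (hy_smul x hv)
  rw [e2, e1, c.rm.tt v f g 1 hv o.hz, q' _ _ _ (h1 _), c.rm.tt v _ _ _ hv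
    (hy_add (h1 _) (hy_smul _ o.hz))] at e0
  have := (c.nk.rinj _ _ _ _ _ _ (hy_add (hy_add (h1 _) (hy_smul _ o.hz)) (hy_smul _ hv))
    (hy_add hy_zero (hy_smul _ hv)) e0).2.1
  simp only [hf_add_left, hf_smul_left, hf_self, p, p', hf_zero_left] at this
  rcases c.f2 (rt (q0 v)) with k | k <;> rw [k] at this
  · linear_combination -this + (g + 2) * two0 F
  · linear_combination -this + (g + 7) * two0 F

/-- `π = ν_v ν_w ν_(v+w)` -/
theorem pi {μ : G} (hv : Hy v) (hw : Hy w) (v0 : v ≠ 0) (w0 : w ≠ 0) (vw : v + w ≠ 0)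
    (p : hf v w = 0) (k : Nu e t v ν) (k' : Nu e t w ν') (k'' : Nu e t (v + w) μ) :
    ∃ x a, Hy x ∧ ν * ν' * μ = t * r x a 0 := by
  have hu := hy_add hv hw
  have p' : hf w v = 0 := by rw [hf_comm, p]
  have o := c.nk.mul _ _ _ _ (c.nk.mul _ _ _ _ (c.ov hv k) (c.ov hw k')) (c.ov hu k'')
  rw [v_add_self] at o
  obtain ⟨x, a, b, hx, q | q⟩ := c.nk.zero _ o
  · exfalso
    have e1 : ν * ν' * μ * r 0 0 1 * (ν * ν' * μ)⁻¹ = ν * (ν' * (μ * r 0 0 1 * μ⁻¹) * ν'⁻¹) * ν⁻¹ := by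
      group
    have h1 := hy_add hy_zero (hy_smul 1 hu)
    have h2 := hy_add h1 (hy_smul 1 hw)
    rw [c.act hu k'' hy_zero, c.act hw k' h1, c.act hv k h2, q, c.rinv hx, c.rm.mul _ _ _ _ _ _ hx hy_zero,
      c.rm.mul _ _ _ _ _ _ (hy_add hx hy_zero) hx] at e1
    have := (c.nk.rinj _ _ _ _ _ _ (hy_add (hy_add hx hy_zero) hx) (hy_add h2 (hy_smul 1 hv)) e1).2.1
    simp only [hf_add_left, hf_smul_left, hf_self, p, p', hf_zero_left] at this
    exact one_ne_zero (α := F) (by linear_combination -this + (a - 1) * two0 F)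
  have key : ∀ s, Hy s → s ≠ 0 → hf s v = 0 → hf s w = 0 → hf x s + b * rt (q0 s) + b = 0 :=
    fun s hs s0 p1 p2 => by
      have e1 : e (TT s) * (ν * ν' * μ) * (e (TT s))⁻¹ = ν * ν' * μ := by
        rw [← conj_mul, ← conj_mul, c.fix hv v0 k hs p1, c.fix hw w0 k' hs p2,
          c.fix hu vw k'' hs (by rw [hf_add_right, p1, p2, add_zero])]
      rw [q, ← conj_mul, ← c.aw.cen, mul_inv_cancel_right, c.rm.tt s x a b hs hx] at e1
      have := (c.nk.rinj _ _ _ _ _ _ (hy_add hx (hy_smul _ hs)) hx (mul_left_cancel e1)).1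
      exact (smul_eq_zero.1 (add_eq_left.1 this)).resolve_right s0
  have k1 := key v hv v0 (hf_self v) p
  have k2 := key w hw w0 p' (hf_self w)
  have k3 := key _ hu vw (by rw [hf_add_left, hf_self, p', add_zero])
    (by rw [hf_add_left, hf_self, p, add_zero])
  rw [hf_add_right, q0_add, p, add_zero, rt_add] at k3
  have b0 : b = 0 := by linear_combination k1 + k2 - k3
  exact ⟨x, a, hx, b0 ▸ q⟩

/-- the commutator of two translations -/
theorem cm0 {g g' : G} {z z' : Vn n F} (o : Ov e t g z) (o' : Ov e t g' z') :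
    ∃ y a, Hy y ∧ g * g' * g⁻¹ * g'⁻¹ = r y a 0 := by
  obtain ⟨γ, q⟩ := c.kb.act g z o
  obtain ⟨γ', q'⟩ := c.kb.act g' z' o'
  have o2 := c.nk.mul _ _ _ _ (c.nk.mul _ _ _ _ (c.nk.mul _ _ _ _ o o') (c.nk.inv _ _ o))
    (c.nk.inv _ _ o')
  rw [add_right_comm z, v_add_self, zero_add, v_add_self] at o2
  have hz := o.hz
  have hz' := o'.hz
  obtain ⟨y, a, b, hy, k | k⟩ := c.nk.zero _ o2
  · obtain ⟨α, k1⟩ := c.trr o
    obtain ⟨α', k2⟩ := c.trr o'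
    have e1 : g * g' * t * (g * g')⁻¹ = t * r (z + z') (α + (α' + hf z' z)) 0 := by
      calc _ = g * (g' * t * g'⁻¹) * g⁻¹ := by group
        _ = _ := by
          rw [k2, ← conj_mul, k1, c.act0 o hz', mul_assoc, c.rm.mul _ _ _ _ _ _ hz hz', add_zero]
    have e2 : g' * g * t * (g' * g)⁻¹ = t * r (z + z') (α + (α' + hf z' z)) 0 := by
      calc _ = g' * (g * t * g⁻¹) * g'⁻¹ := by group
        _ = _ := by
          rw [k1, ← conj_mul, k2, c.act0 o' hz, mul_assoc, c.rm.mul _ _ _ _ _ _ hz' hz, add_zero,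
            add_comm z', hf_comm z, add_left_comm]
    have hu := hy_add hz hz'
    have e3 : g * g' * t * (g * g')⁻¹ = r y a b * (g' * g * t * (g' * g)⁻¹) * (r y a b)⁻¹ := by
      rw [← k]; group
    rw [e1, e2, ← conj_mul, c.nk.rt' y a b hy, c.rinv hy, c.rm.mul _ _ _ _ _ _ hy hu,
      c.rm.mul _ _ _ _ _ _ (hy_add hy hu) hy, mul_assoc,
      c.rm.mul _ _ _ _ _ _ hy_zero (hy_add (hy_add hy hu) hy)] at e3
    have := (c.nk.rinj _ _ _ _ _ _ hu (hy_add hy_zero (hy_add (hy_add hy hu) hy))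
      (mul_left_cancel e3)).2.1
    have b0 : b = 0 := by linear_combination -this - a * two0 F
    exact ⟨y, a, hy, b0 ▸ k⟩
  · exfalso
    have h1 := hy_add hy_zero (hy_smul 1 hz)
    have h2 := hy_add hy_zero (hy_smul 1 hz')
    have h3 := hy_add h1 (hy_smul 1 hz')
    have e1 : g * (g' * r 0 0 1 * g'⁻¹) * g⁻¹ =
        t * (r y a b * (g' * (g * r 0 0 1 * g⁻¹) * g'⁻¹) * (r y a b)⁻¹) * t⁻¹ := by
      calc _ = (g * g' * g⁻¹ * g'⁻¹) * (g' * (g * r 0 0 1 * g⁻¹) * g'⁻¹) *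
            (g * g' * g⁻¹ * g'⁻¹)⁻¹ := by group
        _ = _ := by rw [k]; group
    rw [q' _ _ _ hy_zero, q _ _ _ h2, q _ _ _ hy_zero, q' _ _ _ h1, c.rinv hy,
      c.rm.mul _ _ _ _ _ _ hy h3, c.rm.mul _ _ _ _ _ _ (hy_add hy h3) hy,
      c.rm.tc _ _ _ (hy_add (hy_add hy h3) hy)] at e1
    have := (c.nk.rinj _ _ _ _ _ _ (hy_add h2 (hy_smul 1 hz)) (hy_add (hy_add hy h3) hy) e1).2.1
    simp only [hf_add_left, hf_smul_left, hf_zero_left, hf_comm z z'] at this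
    exact one_ne_zero (α := F) (by linear_combination -this - (a + b) * two0 F)

theorem cmv (hv : Hy v) (hw : Hy w) (v0 : v ≠ 0) (w0 : w ≠ 0) (vw : v + w ≠ 0)
    (p : hf v w = 0) (k : Nu e t v ν) (k' : Nu e t w ν') :
    ∃ a, ν * ν' * ν⁻¹ * ν'⁻¹ = r (v + w) a 0 := by
  have hu := hy_add hv hw
  obtain ⟨μ, k''⟩ := c.exNu hu vw
  obtain ⟨x, a, hx, q⟩ := c.pi hv hw v0 w0 vw p k k' k''
  obtain ⟨α, q'⟩ := c.trr (c.ov hu k'')
  have i := c.inv hu vw k''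
  have e1 : ν * ν' = t * r x a 0 * μ := by rw [← q, mul_assoc _ μ, ← i, i, mul_eq_one_iff_inv_eq.2 i, mul_one]
  have ti : t⁻¹ = t := inv_eq_of_mul_eq_one_right c.aw.tt
  refine ⟨a + 0 + α + (a + hf x (v + w)), ?_⟩
  calc _ = ν * ν' * (ν * ν') := by rw [c.inv hv v0 k, c.inv hw w0 k']; group
    _ = t * r x a 0 * (μ * t * μ⁻¹) * (μ * r x a 0 * μ⁻¹) * (μ * μ) := by rw [e1]; group
    _ = (t * r x a 0 * t⁻¹) * r (v + w) α 0 * r x (a + hf x (v + w)) 0 := by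
      rw [q', c.act0 (c.ov hu k'') hx, mul_eq_one_iff_inv_eq.2 i, ti]; group
    _ = _ := by
      rw [c.rm.tc x a 0 hx, c.rm.mul _ _ _ _ _ _ hx hu, c.rm.mul _ _ _ _ _ _ (hy_add hx hu) hx,
        add_right_comm x, v_add_self, zero_add, add_zero, add_zero, add_zero]

theorem false : False := by
  obtain ⟨hs, s0, -⟩ := c.fh.e1
  obtain ⟨hv, p1, l⟩ := c.fh.e2
  generalize (ev 1 : Vn n F) = s at *
  generalize (ev 2 : Vn n F) = v at *
  obtain ⟨w, hw, p2, p3⟩ := c.fh.sep2 v s hv hs l 1 0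
  have p1' : hf s v = 0 := by rw [hf_comm, p1]
  have p3' : hf s w = 0 := by rw [hf_comm, p3]
  have ne : ∀ u : Vn n F, hf u v = 1 → u ≠ 0 := fun u k k' => by simp [k'] at k
  have v0 : v ≠ 0 := fun k => by simp [k] at p2
  have w0 := ne w p2
  have hu := hy_add hw hv
  have u1 : hf (w + v) v = 1 := by rw [hf_add_left, p2, hf_self, add_zero]
  obtain ⟨σ, ks⟩ := c.exNu hs s0
  obtain ⟨ν', kw⟩ := c.exNu hw w0
  have kv : Nu e t v _ := ⟨ν', w, c.ov hw kw, p2, rfl⟩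
  have ku : Nu e t (w + v) (e (TT v) * ν' * (e (TT v))⁻¹) := by
    obtain ⟨m, f, o, p, rfl⟩ := kw
    refine ⟨_, _, c.ovT o hv, ?_, ?_⟩
    · simp only [hf_add_left, hf_add_right, hf_smul_left, hf_self, p, hf_comm v w, p2]
      linear_combination (hf f v) * two0 F
    · have := T_cj e v w
      rw [p2, one_smul] at this
      rw [← this]; group
  obtain ⟨a1, q1⟩ := c.cmv hs hv s0 v0 (fun k => one_ne_zero (l 1 1 (by simpa [add_comm] using k)).1)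
    p1' ks kv
  obtain ⟨a2, q2⟩ := c.cmv hs hw s0 w0 (ne _ (by rw [hf_add_left, p1', p2, zero_add])) p3' ks kw
  obtain ⟨a3, q3⟩ := c.cmv hs hu s0 (ne _ u1) (ne _ (by rw [hf_add_left, p1', u1, zero_add]))
    (by rw [hf_add_right, p1', p3', add_zero]) ks ku
  have ov := c.ov hv kv
  generalize hν : e (TT v) * ν' * (e (TT v))⁻¹ * ν'⁻¹ = ν at q1 ov
  rw [eq_mul_of_mul_inv_eq hν, show σ * (ν * ν') * σ⁻¹ * (ν * ν')⁻¹ =
    σ * ν * σ⁻¹ * ν⁻¹ * (ν * (σ * ν' * σ⁻¹ * ν'⁻¹) * ν⁻¹) by group, q1, q2,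
    c.act0 ov (hy_add hs hw), c.rm.mul _ _ _ _ _ _ (hy_add hs hv) (hy_add hs hw)] at q3
  have := (c.nk.rinj _ _ _ _ _ _ (hy_add (hy_add hs hv) (hy_add hs hw)) (hy_add hs hu) q3).1
  exact s0 (by linear_combination (exp := 1) this)

end Cx

theorem jobKB : JobKB.{u} := by
  intro n F _ _ _ _ _ _ G _ _ e t b fc fh aw δ r h rm nk ex kb
  exact Cx.false ⟨fh, aw, rm, nk, ex, kb⟩

end H99.SPGKB
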