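import Cfsg.Agent.H54.P6.H64_YESpec

namespace H1 end H1
open H1
namespace H85.P6 end H85.P6
open H85.P6
namespace H85.P6.H1 end H85.P6.H1
open H85.P6.H1
namespace H85.P6.H1.YEHO end H85.P6.H1.YEHO
open H85.P6.H1.YEHO
namespace H54.P6


/-! STD-SP endgame, slot HO. -/

set_option autoImplicit false
set_option linter.unusedSectionVars false

namespace H1.YEHO

open H64.SG (Syl Cz Cs Ns Is2 Inv2 UF mem_Cz)
open Subgroup H67.UA H67.SP H64.YE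
open H59.SO (Ind AutOn)

universe u

section Kit

variable {Y : Type} [Group Y] [Finite Y] [QS Y] {G : Type u} [Group G] {Φ : Y →* G}
  (hk : Φ.ker ≤ center Y)
include hk

theorem exists_aut {A : Subgroup Y} (hA : IsPGroup 2 A) {g : G} (hg : g ∈ Ns (A.map Φ)) :
    ∃ θ : Y → Y, AutOn A θ ∧ ∀ a ∈ A, g * Φ a * g⁻¹ = Φ (θ a) := by
  classical
  have i2 := H64.SG.isPGroup_iff_is2.1 hA
  have hi : ∀ {a b}, a ∈ A → b ∈ A → Φ a = Φ b → a = b := fun ha hb h =>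
    inj2 hk (i2 _ ha) (i2 _ hb) h
  have h1 : ∀ a ∈ A, ∃ b ∈ A, g * Φ a * g⁻¹ = Φ b := fun a ha => by
    obtain ⟨b, hb, h⟩ := H98.conj_mem_of_mem_normalizer hg ⟨a, ha, rfl⟩
    exact ⟨b, hb, h.symm⟩
  choose! θ h2 h3 using h1
  refine ⟨θ, ⟨⟨h2, fun a ha b hb h => hi ha hb ?_, fun b hb => ?_⟩,
    fun a ha b hb => hi (h2 _ (mul_mem ha hb)) (mul_mem (h2 a ha) (h2 b hb)) ?_⟩, h3⟩
  · simpa using (h3 a ha).trans ((congrArg Φ h).trans (h3 b hb).symm)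
  · obtain ⟨a, ha, h⟩ := H98.conj_mem_of_mem_normalizer (inv_mem hg) ⟨b, hb, rfl⟩
    exact ⟨a, ha, hi (h2 a ha) hb (by rw [← h3 a ha, h]; group)⟩
  · rw [← h3 _ (mul_mem ha hb), map_mul, map_mul, ← h3 a ha, ← h3 b hb, conj_mul]

theorem root {r y y' : Y} (hr : Is2 r) (ra : ∀ α : MulAut Y, IsConj r (α r)) (rf : RF Φ r)
    (hy : IsConj r y) {g : G} (h : g * Φ y * g⁻¹ = Φ y') (h2 : Is2 y') : IsConj r y' := by
  obtain ⟨w, rfl⟩ := isConj_iff.1 hy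
  have h3 : g * Φ w * Φ r * (g * Φ w)⁻¹ = Φ y' := by
    rw [← h, map_mul, map_mul, map_inv]; group
  obtain ⟨m, hm, c, hc, e1⟩ := rf (g * Φ w) ⟨y', h3.symm⟩
  obtain ⟨β, hβ⟩ := exists_ind hk hm
  have h4 : m * Φ r * m⁻¹ = Φ y' := by
    rw [← h3, e1, mul_assoc m c, ← mem_Cz.1 hc]; group
  exact (ind_eq_iff hk hβ hr h2).1 h4 ▸ ra β

end Kit

theorem jobHO : JobHO.{u} := by
  intro n F _ _ _ _ _ _ G _ _ e t Y _ _ _ ι τ Gd Go U Φ K₀ h r Z Q R rd gd oh rf cr g hg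
  have hk := h.ker
  have hR : IsPGroup 2 R := h.syl.2.1.to_le gd.le
  have i2 := H64.SG.isPGroup_iff_is2.1 hR
  have r2 : Is2 r := H64.SG.is2_of_sq rd.inv.1
  obtain ⟨θ, hθ, h3⟩ := exists_aut hk hR hg
  obtain ⟨p, hp⟩ := oh θ hθ fun x hx => ⟨fun c => root hk r2 rd.ra rf c (h3 x hx)
    (i2 _ (hθ.bij.mapsTo hx)), fun c => root hk r2 rd.ra rf c (g := g⁻¹)
      (by rw [← h3 x hx]; group) (i2 _ hx)⟩
  have := h.nor
  have k1 : t⁻¹ * g * t * g⁻¹ ∈ K₀ := by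
    rcases h.top g with h4 | h4
    · simpa [mul_assoc] using mul_mem (this.conj_mem _ h4 t⁻¹) (inv_mem h4)
    · simpa [mul_assoc] using mul_mem (this.conj_mem _ h4 t⁻¹) (inv_mem h4)
  have k2 : t⁻¹ * (Φ p)⁻¹ * (g * t * g⁻¹) ∈ K₀ := by
    simpa [mul_assoc] using mul_mem (this.conj_mem _ (inv_mem (h.le ⟨p, rfl⟩)) t⁻¹) k1
  have k3 : t⁻¹ * (Φ p)⁻¹ * (g * t * g⁻¹) ∈ Cs (R.map Φ) := by
    refine H59.SO.mem_Cs_map.2 fun s hs => ?_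
    obtain ⟨x, hx, rfl⟩ := hθ.bij.surjOn hs
    have k4 := h3 _ ((gd.st x).1 hx)
    rw [hp x hx, map_mul, map_mul, map_inv, ← h.act, ← h.act, ← h3 x hx] at k4
    rw [← h3 x hx]
    calc g * Φ x * g⁻¹ * (t⁻¹ * (Φ p)⁻¹ * (g * t * g⁻¹))
        = t⁻¹ * (Φ p)⁻¹ * (Φ p * (t * (g * Φ x * g⁻¹) * t⁻¹) * (Φ p)⁻¹) * (g * t * g⁻¹) := by group
      _ = _ := by rw [← k4]; group
  obtain ⟨y, -, o, ho, e1⟩ := cr _ k2 k3
  have l : Φ.range ≤ Ns Φ.range := le_normalizer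
  refine h.uf.uf g ?_
  have k5 := mul_mem (mul_mem (l ⟨p, rfl⟩) h.uf.mem) (e1 ▸ mul_mem (l ⟨y, rfl⟩)
    (H64.SG.Cs_le_Ns _ ho) : t⁻¹ * (Φ p)⁻¹ * (g * t * g⁻¹) ∈ Ns Φ.range)
  simpa [mul_assoc] using k5

end H1.YEHO
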