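import Cfsg.Agent.H85.P6.H86_SPIFin
import Cfsg.Agent.H85.P6.H67_SPSpec

namespace H86 end H86
open H86
namespace H85.P6 end H85.P6
open H85.P6
namespace H85.P6.H86 end H85.P6.H86
open H85.P6.H86
namespace H85.P6.H86.SPG end H85.P6.H86.SPG
open H85.P6.H86.SPG
namespace H54.P6


/-! STD-SP (row S3129), type I: the fusion `T ∩ t L = t {1, b₁}`.  Part N: `t` is not conjugate to
`t a₂` (in the group with `CH`).  Part B: the other classes.  `H = ⟨e₀, e_n⟩^⊥` (`Hy`), `Q = QQ`.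
Notes: `blueprints/STDSP_G.md`. -/

set_option autoImplicit false
set_option linter.unusedSectionVars false

namespace H86.SPG

open H64.SG (Cz Cs Ns Inv2 IsO2 mem_Cz)
open H67.UA hiding Par
open H67.SP
open H67.SA (la cm)
open H59.SO (Ind B1 B0 CE AutOn)
open H86.SPI (RO X0)

universe u

section Facts

variable {n : ℕ} {F : Type} [Field F] [StarRing F] [TrivialStar F] [CharP F 2] [Finite F]

theorem hy_zero : Hy (0 : Vn n F) := ⟨by simp, by simp⟩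
theorem hy_add {y y' : Vn n F} (h : Hy y) (h' : Hy y') : Hy (y + y') :=
  ⟨by rw [hf_add_left, h.1, h'.1, add_zero], by rw [hf_add_left, h.2, h'.2, add_zero]⟩
theorem hy_smul (a : F) {y : Vn n F} (h : Hy y) : Hy (a • y) :=
  ⟨by rw [hf_smul_left, h.1, mul_zero], by rw [hf_smul_left, h.2, mul_zero]⟩

/-- `d` is the diagonal vector of `u`. -/
def Dg (u : XU n F) (d : Vn n F) : Prop := ∀ v, hf (ac u v) v = hf v d ^ 2

/-- `x` is an alternating involution with `[V, x] = W_l`. -/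
structure Nf (x : XU n F) (l : ℕ) : Prop where
  sq : x * x = 1
  alt : Alt x
  im : ∀ w, Wx x w ↔ Wk l w
  /-- preimages in the span of the last `l` basis vectors -/
  lift : ∀ w, Wk l w → ∃ y, (∀ i : Fin (n + 1), l ≤ i.rev.val → y i = 0) ∧ w = ac x y + y

/-- the alternating part of `m` is `1` or has rank `l` -/
def Sg (l : ℕ) (m : XU n F) : Prop := ∃ d, Dg m d ∧ (m * TT d = 1 ∨ rk (m * TT d) = l)

/-- A group of affine maps `y ↦ z + A y` of `H`. -/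
structure AfS (R : (Vn n F → Vn n F) → Vn n F → Prop) : Prop where
  hz : ∀ A z, R A z → Hy z
  hy : ∀ A z, R A z → ∀ y, Hy y → Hy (A y)
  add : ∀ A z, R A z → ∀ y y', Hy y → Hy y' → A (y + y') = A y + A y'
  comp : ∀ A z A' z', R A z → R A' z' → R (A ∘ A') (z + A z')
  inv : ∀ A z, R A z → ∃ B, R B (B z) ∧ ∀ y, Hy y → B (A y) = y ∧ A (B y) = y
  sp : ∀ p ∈ SS n F, R (ac p) 0
  k1 : ∀ A z v, R A z → Hy v → hf v z = 0 →
    ∃ p ∈ SS n F, ∀ y, Hy y → A (ac p y) = ac (TT v) (A y)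

variable (n F)

/-- Such a group contains a translation if it moves `0`. -/
def LA : Prop := ∀ R : (Vn n F → Vn n F) → Vn n F → Prop, AfS R → ∀ A z, R A z → z ≠ 0 →
  ∃ B z', R B z' ∧ z' ≠ 0 ∧ ∀ y, Hy y → B y = y

/-- Vectors of `H`. -/
structure FH : Prop where
  e1 : Hy (ev 1 : Vn n F) ∧ (ev 1 : Vn n F) ≠ 0 ∧ q0 (ev 1 : Vn n F) = 0
  e2 : Hy (ev 2 : Vn n F) ∧ hf (ev 2 : Vn n F) (ev 1) = 0 ∧ Li (ev 2 : Vn n F) (ev 1)
  tt : ∀ v : Vn n F, Hy v → TT v ∈ SS n F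
  ss : ∀ p ∈ SS n F, ∀ y, Hy y → Hy (ac p y)
  inj : ∀ (y y' : Vn n F) c c', Hy y → Hy y' → EE (ev 0) y c = EE (ev 0) y' c' → y = y' ∧ c = c'
  nd : ∀ x : Vn n F, Hy x → (∀ y, Hy y → hf y x = 0) → x = 0
  sep1 : ∀ z : Vn n F, Hy z → z ≠ 0 → ∀ a, ∃ y, Hy y ∧ hf y z = a
  sep2 : ∀ z z' : Vn n F, Hy z → Hy z' → Li z z' → ∀ a b, ∃ y, Hy y ∧ hf y z = a ∧ hf y z' = b
  du1 : ∀ x z : Vn n F, Hy x → Hy z → z ≠ 0 → (∀ v, Hy v → hf v z = 0 → hf v x = 0) →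
    ∃ a : F, x = a • z
  du2 : ∀ x z z' : Vn n F, Hy x → Hy z → Hy z' → Li z z' →
    (∀ v, Hy v → hf v z = 0 → hf v z' = 0 → hf v x = 0) → ∃ a b : F, x = a • z + b • z'
  ex : ∀ z z' : Vn n F, Hy z → Hy z' → ∃ y, Hy y ∧ y ≠ 0 ∧ hf y z = 0 ∧ hf y z' = 0
  exi : ∀ z : Vn n F, Hy z → z ≠ 0 → ∃ y, Hy y ∧ hf y z = 0 ∧ Li y z
  ts : ∀ z z' : Vn n F, Hy z → Hy z' → z ≠ 0 → z' ≠ 0 → ∃ p ∈ SS n F, ac p z = z'
  seven : ∀ v s s' : Vn n F, hf s v = 0 → hf s' v = 0 → hf s s' = 0 →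
    TT v = TT s * TT (s + v) * TT s' * TT (s' + v) * TT (s + s') * TT (s + s' + v)

/-- The centraliser of `c₂`. -/
structure FQ : Prop where
  zs : Cz (xc n F) ≤ Cs (ZS n F)
  cp : Cz (xc n F) ≤ PP n F
  lin2 : ∀ α : MulAut (XU n F), (∀ x ∈ ZS n F, α x = x) → ∃ g, α = MulAut.conj g
  ea : ∀ A : Subgroup (XU n F), A ≤ Cz (xc n F) → Cz (xc n F) ≤ Ns A → (∀ a ∈ A, a * a = 1) →
    A ≤ QQ n F ∨ A ≤ Qk n F 2
  nq : ¬ QQ n F ≤ Qk n F 2
  rt : ∀ x ∈ QQ n F, x = 1 ∨ Rt x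
  lq : ∀ x ∈ QQ n F, Lr x → x ∈ ZL n F
  tor : ∀ ξ : F, ξ ≠ 0 → ∃ k : XU n F, ac k (ev 0) = ξ • ev 0 ∧ ac k (ev 1) = ξ⁻¹ • ev 1

/-- Diagonal vectors; the groups `M_l`. -/
structure BD : Prop where
  ex : ∀ u : XU n F, u * u = 1 → ∃ d, Dg u d
  uq : ∀ (u : XU n F) d d', Dg u d → Dg u d' → d = d'
  alt : ∀ (u : XU n F) d, u * u = 1 → Dg u d →
    Alt (u * TT d) ∧ (u * TT d) * (u * TT d) = 1 ∧ Cz u ≤ Cz (TT d)
  mm : ∀ l, 2 * l ≤ n + 1 → ∀ m ∈ Mk n F l, m * m = 1 ∧ rk m ≤ l ∧ ∀ d, Dg m d → Wk l d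
  tt : ∀ l (d : Vn n F), Wk l d → TT d ∈ Mk n F l
  mq : ∀ l, 2 * l ≤ n + 1 → Mk n F l ≤ Qk n F l
  lt : ∀ l l', l < l' → 2 * l' ≤ n + 1 → Nat.card (Mk n F l) < Nat.card (Mk n F l')

/-- The normal form of the alternating involutions. -/
structure BN : Prop where
  nf : ∀ u : XU n F, u * u = 1 → Alt u → ∃ j g, 4 * j ≤ n + 1 ∧ u = g * al n F j * g⁻¹
  nfa : ∀ j, 4 * j ≤ n + 1 → Nf (al n F j) (2 * j) ∧ rk (al n F j) = 2 * j ∧ al n F j ∈ X0 n F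
  zero : al n F 0 = 1
  one : al n F 1 = xa n F

def BP : Prop := ∀ (x : XU n F) l, Nf x l → 4 ≤ l → 2 * l ≤ n + 1 → Qk n F l ≤ Pc (Cz x)

def BO : Prop := ∀ (x : XU n F) l, Nf x l → 4 ≤ l → 2 * l ≤ n + 1 → IsO2 (Qk n F l) (Pc (Cz x))

structure BC : Prop where
  cq : ∀ l, 4 ≤ l → 2 * l ≤ n + 1 → Cs (Qk n F l) = Mk n F l
  ca : ∀ (x : XU n F) l, Nf x l → 4 ≤ l → 2 * l ≤ n + 1 → ∀ α : MulAut (XU n F),
    (∀ y ∈ Pc (Cz x), α y = y) → ∃ m, α = MulAut.conj m ∧ (x * m = 1 ∨ IsConj x (x * m))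

/-- No affine map of `M_l` moves `1` to `x` and respects `Sg`. -/
def BM : Prop := ∀ (x : XU n F) l, Nf x l → rk x = l → 4 ≤ l → 2 * l ≤ n + 1 → ∀ θ,
  AutOn (Mk n F l) θ → ¬ ∀ m ∈ Mk n F l, Sg l m ↔ Sg l (x * θ m)

end Facts

/-- The minimum weight of the Reed-Muller code, for determinants. -/
def DG : Prop := ∀ (M : Type) [Group M] [Finite M] (F : Type) [Field F] [CharP F 2] [Finite F]
  (l : ℕ) (B B' : M → Matrix (Fin l) (Fin l) F) (c : Matrix (Fin l) (Fin l) F),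
  (∀ x y : M, x * y = y * x) → (∀ x y, B (x * y) = B x + B y) → (∀ x y, B' (x * y) = B' x + B' y) →
  ∀ S : Set M, (∀ x, x ∉ S → ((B x).det = 0 ↔ (c + B' x).det = 0)) →
    (∃ x, ¬ ((B x).det = 0 ↔ (c + B' x).det = 0)) → Nat.card M ≤ Nat.card F ^ l * S.ncard

section Amb

variable {n : ℕ} {F : Type} [Field F] [StarRing F] [TrivialStar F] [CharP F 2] [Finite F]
  {G : Type u} [Group G] (e : XU n F →* G) (t : G)

/-- What is used about `C(t)` (proved below: `aw`). -/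
structure AW : Prop where
  inj : Function.Injective e
  tt : t * t = 1
  cen : ∀ g, t * e g = e g * t
  ne : ∀ g, t ≠ e g
  p : ∀ g, g * t = t * g → (∀ c, g * e (Tc c (ev 0)) = e (Tc c (ev 0)) * g) →
    ∃ p ∈ PP n F, g = e p ∨ g = t * e p
  lr : ∀ g u, g * t = t * g → Lr u → ∃ u', Lr u' ∧ g * e u * g⁻¹ = e u'

/-- `r y a b = E(e₀, (y, a, b))` for `y ∈ H`, `h = E(e₁, w₁)`. -/
structure RM (δ : F) (r : Vn n F → F → F → G) (h : G) : Prop where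
  mul : ∀ y a b y' a' b', Hy y → Hy y' → r y a b * r y' a' b' = r (y + y') (a + a') (b + b')
  q : ∀ y a, Hy y → r y a 0 = e (EE (ev 0) y (q0 y + a ^ 2))
  tc : ∀ y a b, Hy y → t * r y a b * t⁻¹ = r y (a + b) b
  tt : ∀ v y a b, Hy v → Hy y → e (TT v) * r y a b * (e (TT v))⁻¹ =
    r (y + (hf y v + b * rt (q0 v) + b) • v)
      (a + (hf y v + b * rt (q0 v)) * (1 + rt (q0 v)) + b * rt (q0 v)) b
  hh : h * h = 1
  hr : ∀ y a b, Hy y → h * r y a b * h⁻¹ = r (y + (a + δ * hf y (ev 1)) • ev 1) a (b + hf y (ev 1))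
  ht : h * t * h⁻¹ = t * e (TT (ev 1))
  hv : ∀ v, Hy v → hf v (ev 1) = 0 →
    h * (t * e (TT v)) * h⁻¹ = t * e (TT (v + (1 + rt (q0 v)) • ev 1))

/-- `g` acts on `t Q / X_l` as `y ↦ z + A y`. -/
structure Af (g : G) (A : Vn n F → Vn n F) (z : Vn n F) : Prop where
  hz : Hy z
  q : ∀ y c, Hy y → Hy (A y) ∧ ∃ c', g * e (EE (ev 0) y c) * g⁻¹ = e (EE (ev 0) (A y) c')
  tr : ∃ c, g * t * g⁻¹ = t * e (EE (ev 0) z c)
  a0 : A 0 = 0

/-- `g` centralises `X_l` and acts on `t Q / X_l` as the translation by `z`. -/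
structure Ov (g : G) (z : Vn n F) : Prop where
  hz : Hy z
  zl : ∀ c, g * e (Tc c (ev 0)) * g⁻¹ = e (Tc c (ev 0))
  q : ∀ y c, Hy y → ∃ c', g * e (EE (ev 0) y c) * g⁻¹ = e (EE (ev 0) y c')
  tr : ∃ c, g * t * g⁻¹ = t * e (EE (ev 0) z c)

/-- All translations occur. -/
def EX : Prop := ∀ z, Hy z → ∃ g, Ov e t g z

/-- The result of `G2a`. -/
def GQ : Prop := ∃ g, g * t * g⁻¹ = t * e (xc n F) ∧ cjs g ((QQ n F).map e) = (QQ n F).map e ∧
  ∀ c, ∃ a b, g * e (Tc c (ev 0)) * g⁻¹ = e (zu a b)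

/-- The calculus of the translations. -/
structure NK (r : Vn n F → F → F → G) : Prop where
  one : r 0 0 0 = 1
  sq : ∀ y a b, Hy y → r y a b * r y a b = 1
  rinj : ∀ y a b y' a' b', Hy y → Hy y' → r y a b = r y' a' b' → y = y' ∧ a = a' ∧ b = b'
  /-- every element of `Q` is an `r y a 0` -/
  qr : ∀ y c, Hy y → e (EE (ev 0) y c) = r y (rt (q0 y + c)) 0
  rt' : ∀ y a b, Hy y → r y a b * t * (r y a b)⁻¹ = t * r 0 b 0
  mul : ∀ g z g' z', Ov e t g z → Ov e t g' z' → Ov e t (g * g') (z + z')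
  inv : ∀ g z, Ov e t g z → Ov e t g⁻¹ z
  cj : ∀ g z, ∀ p ∈ SS n F, Ov e t g z → Ov e t (e p * g * (e p)⁻¹) (ac p z)
  ot : Ov e t t 0
  or : ∀ y a b, Hy y → Ov e t (r y a b) 0
  uq : ∀ g z z', Ov e t g z → Ov e t g z' → z = z'
  zero : ∀ g, Ov e t g 0 → ∃ y a b, Hy y ∧ (g = r y a b ∨ g = t * r y a b)
  perp : ∀ g z y a, Ov e t g z → Hy y → hf y z = 0 → g * r y a 0 * g⁻¹ = r y a 0
  q : ∀ g z y, Ov e t g z → Hy y → ∃ d, ∀ a, g * r y a 0 * g⁻¹ = r y (a + d) 0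
  gz : ∀ g z b, Ov e t g z → z ≠ 0 → ∃ (μ a : F), g * r 0 0 b * g⁻¹ = r (μ • z) a b
  tv : ∀ g z v, Ov e t g z → Hy v → hf v z = 0 →
    ∃ y a, Hy y ∧ g * e (TT v) * g⁻¹ = r y a 0 * e (TT v)

/-- The action of a translation on `R` is linear. -/
def LS (r : Vn n F → F → F → G) : Prop := ∀ g z, Ov e t g z → hf z (ev 1) = 0 → Li z (ev 1) →
  ∃ l γ : F, (∀ y a b, Hy y →
      g * r y a b * g⁻¹ = r (y + (l * b) • z) (a + l * hf y z + γ * b) b) ∧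
    (Nat.card F = 2 → l = 1 → ∃ a c : F,
      g * e (TT (ev 1)) * g⁻¹ = r (c • ev 1) a 0 * e (TT (ev 1)))

/-- First case: translations that centralise `R`. -/
def KA (r : Vn n F → F → F → G) : Prop := ∀ v, Hy v → hf v (ev 1) = 0 →
  ∃ g, Ov e t g v ∧ ∀ y a b, Hy y → g * r y a b * g⁻¹ = r y a b

/-- Second case. -/
structure KB (r : Vn n F → F → F → G) : Prop where
  two : Nat.card F = 2
  act : ∀ g z, Ov e t g z → ∃ γ : F, ∀ y a b, Hy y →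
    g * r y a b * g⁻¹ = r (y + b • z) (a + hf y z + γ * b) b
  k0 : ∀ g z v, Ov e t g z → Hy v → hf v z = 0 →
    ∃ a c : F, g * e (TT v) * g⁻¹ = r (c • v) a 0 * e (TT v)

/-- Claim A. -/
def CAp : Prop := ∀ u d, u * u = 1 → Dg u d →
  ∃ w, w * e (u * TT d) = e (u * TT d) * w ∧ w * t * w⁻¹ = t * e (TT d)

variable [Finite G] {e t}

theorem aw [Base n F] (h : CH e t) : AW e t := by
  have key : ∀ g, g * t = t * g → ∃ β, Ind e g β := fun g hg =>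
    H59.SO.exists_ind h.inj (h.cz (mem_Cz.2 hg.symm))
  refine ⟨h.inj, h.inv.1, h.toB1.comm, fun g k => h.toB1.not_mem FA.ns ⟨g, k.symm⟩,
    fun g hg hc => ?_, fun g u hg hu => ?_⟩
  · obtain ⟨β, hβ⟩ := key g hg
    obtain ⟨p, rfl⟩ := FA.lin β (ev 0) (ev_ne 0) fun c => h.inj (by
      rw [← hβ, hc, mul_inv_cancel_right])
    have h1 := H59.SO.ind_conj_iff.1 hβ
    have h2 : p ∈ PP n F := by
      rw [← show Cz (Tc 1 (ev 0) : XU n F) = PP n F from FR.cz _ 1 (ev_ne 0) one_ne_zero, mem_Cz]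
      have := hβ (Tc 1 (ev 0))
      rw [hc, mul_inv_cancel_right] at this
      have h3 := h.inj this
      rw [MulAut.conj_apply, eq_mul_inv_iff_mul_eq] at h3
      exact h3
    refine ⟨p, h2, ?_⟩
    rcases h.ck _ (mul_mem (mem_Cz.2 hg.symm) (inv_mem (h.toB1.mem_Cz p))) h1 with k | k
    · exact Or.inl (mul_inv_eq_one.1 k)
    · exact Or.inr (mul_inv_eq_iff_eq_mul.1 k)
  · obtain ⟨β, hβ⟩ := key g hg
    exact ⟨β u, (FA.cls β u).1 hu, hβ u⟩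

end Amb

def JobFH : Prop := AllB fun n F _ _ _ _ _ => FH n F
def JobFQ : Prop := AllB fun n F _ _ _ _ _ => FC n F → FQ n F
def JobLA : Prop := AllB fun n F _ _ _ _ _ => FH n F → LA n F
def JobBD : Prop := AllB fun n F _ _ _ _ _ => BD n F
def JobBN : Prop := AllB fun n F _ _ _ _ _ => BN n F
def JobBP : Prop := AllB fun n F _ _ _ _ _ => BP n F
def JobBO : Prop := AllB fun n F _ _ _ _ _ => BP n F → BO n F
def JobBC : Prop := AllB fun n F _ _ _ _ _ => BP n F → BC n F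
def JobBM : Prop := DG → AllB fun n F _ _ _ _ _ => BD n F → BM n F

def JobRM : Prop := AllA.{u} fun _ _ _ _ _ _ _ _ _ e t => RO e t → ∃ δ r h, RM e t δ r h
def JobG2a : Prop := AllA.{u} fun n F _ _ _ _ _ _ _ e t => FQ n F → CH e t → Mv e t (xc n F) →
  Fu e t (xa n F) → Fu e t (xb n F) → GQ e t
def JobG2b : Prop := AllA.{u} fun n F _ _ _ _ _ _ _ e t => FH n F → FQ n F → AW e t →
  ∀ δ r h, RM e t δ r h → GQ e t → ∃ g A, Af e t g A (ev 1)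
def JobG4 : Prop := AllA.{u} fun n F _ _ _ _ _ _ _ e t => FH n F → LA n F → AW e t →
  (∃ g A, Af e t g A (ev 1)) → EX e t
def JobNK : Prop := AllA.{u} fun n F _ _ _ _ _ _ _ e t => FH n F → AW e t →
  ∀ δ r h, RM e t δ r h → NK e t r
def JobLS : Prop := AllA.{u} fun n F _ _ _ _ _ _ _ e t => FH n F → AW e t →
  ∀ δ r h, RM e t δ r h → NK e t r → EX e t → LS e t r
def JobAB : Prop := AllA.{u} fun n F _ _ _ _ _ _ _ e t => FH n F → AW e t →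
  ∀ δ r h, RM e t δ r h → NK e t r → EX e t → LS e t r → KA e t r ∨ KB e t r
def JobKA : Prop := AllA.{u} fun n F _ _ _ _ _ _ _ e t => FH n F → AW e t →
  ∀ δ r h, RM e t δ r h → NK e t r → ¬ KA e t r
def JobKB : Prop := AllA.{u} fun n F _ _ _ _ _ _ _ e t => FH n F → AW e t →
  ∀ δ r h, RM e t δ r h → NK e t r → EX e t → ¬ KB e t r
def JobCA : Prop := AllA.{u} fun n F _ _ _ _ _ _ _ e t => BD n F → BN n F → RO e t → CAp e t
def JobBA : Prop := AllA.{u} fun n F _ _ _ _ _ _ _ e t => BD n F → BN n F → BP n F → BO n F →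
  BC n F → B0 e t → CAp e t → (∀ z, Lr z → Mv e t z) → ∀ j, 2 ≤ j → 4 * j ≤ n + 1 →
    Fu e t (al n F j) → (∀ u, u * u = 1 → Alt u → Fu e t u → u = 1 ∨ 2 * j ≤ rk u) →
    ∃ g, g * t * g⁻¹ = t * e (al n F j) ∧
      cjs g ((Mk n F (2 * j)).map e) = (Mk n F (2 * j)).map e

end H86.SPG

namespace H37.SP

open Subgroup H67.UA H67.SP

variable {n : ℕ} {F : Type} [Field F] [StarRing F] [TrivialStar F] [CharP F 2] [Finite F] [FV n F]

theorem hs (x y : Vn n F) : hf x y = hf y x := by rw [← star_hf, star_trivial]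

theorem hsr (a : F) (x y : Vn n F) : hf x (a • y) = a * hf x y := by rw [hf_smul_right, star_trivial]

theorem h0 (x : Vn n F) : hf x x = 0 := FV.iso x

theorem t_ac (y v : Vn n F) : ac (TT y) v = v + hf v y • y := by
  rw [ac_Tc (FV.iso y) (star_one F), one_mul]

theorem t_sq (y : Vn n F) : TT y * TT y = 1 := Tc_mul_self (FV.iso y) (star_one F)

theorem t_inv (y : Vn n F) : (TT y)⁻¹ = TT y := inv_eq_of_mul_eq_one_right (t_sq y)

theorem t_cj (g : XU n F) (y : Vn n F) : g * TT y * g⁻¹ = TT (ac g y) :=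
  Tc_conj (FV.iso y) (star_one F) g

end H37.SP
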