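import Cfsg.Agent.H54.P6.H96_SPGCA
import Cfsg.Agent.H54.P6.H84_SpBD
import Cfsg.Agent.H54.P6.H9_SPGBN
import Cfsg.Agent.H85.P6.H89_SPMV

namespace H20 end H20
open H20
namespace H85.P6 end H85.P6
open H85.P6
namespace H85.P6.H20 end H85.P6.H20
open H85.P6.H20
namespace H85.P6.H20.SPGDI end H85.P6.H20.SPGDI
open H85.P6.H20.SPGDI
namespace H54.P6


/-! STD-SP type I: the fusion `T ∩ t L = t {1, b₁}` (assembly of part B). -/

set_option autoImplicit false
set_option linter.unusedSectionVars false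

namespace H20.SPGDI

open H64.SG (Cz Cs Ns Inv2 IsO2 mem_Cz)
open H67.UA hiding Par
open H67.SP H86.SPG Subgroup
open H59.SO (Ind B1 B0 CE AutOn)
open H86.SPI (RO)

universe u

theorem gdI : AllA.{u} fun n F _ _ _ _ _ _ _ e t => B0 e t → RO e t → ¬ Fu e t (xa n F) →
    ∀ u, Fu e t u → u = 1 ∨ Lr u := by
  intro n F _ _ _ _ _ p G _ _ e t b fc h ro nxa
  have bd := H84.SpBD.jobBD n F b
  have bn := H9.SPG.jobBN n F b
  have ca := H96.SPG.jobCA n F G e t b fc bd bn ro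
  have cm := h.toB1.comm
  have f1 : Fu e t 1 := by rw [Fu, map_one, mul_one]
  have fsq : ∀ u, Fu e t u → u * u = 1 := fun u hu => by
    obtain ⟨g, hg⟩ := isConj_iff.1 hu
    have h1 : t * e u * (t * e u) = 1 := by rw [← hg, conj_mul, h.inv.1]; simp
    rw [mul_assoc, ← mul_assoc (e u), ← cm, ← mul_assoc, ← mul_assoc, h.inv.1, one_mul,
      ← map_mul] at h1
    exact h.inj (h1.trans (map_one e).symm)
  have fcj : ∀ u v, IsConj u v → Fu e t u → Fu e t v := fun u v huv hu => by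
    obtain ⟨g, rfl⟩ := isConj_iff.1 huv
    refine hu.trans (isConj_iff.2 ⟨e g, ?_⟩)
    rw [← mul_assoc, ← cm, map_mul, map_mul, map_inv]
    simp only [mul_assoc]
  have tsq : ∀ d : Vn n F, TT d * TT d = 1 := fun d => ac_ext fun y => by
    rw [ac_mul, H86.SPI.ac_TT, H86.SPI.ac_TT, hf_add_left, hf_smul_left, H86.SPI.hf_self, mul_zero,
      add_zero, add_assoc, ← add_smul, CharTwo.add_self_eq_zero, zero_smul, add_zero, ac_one]
  have fd : ∀ u d, u * u = 1 → Dg u d → (Fu e t u ↔ Fu e t (u * TT d)) := fun u d hu hd => by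
    obtain ⟨w, w1, w2⟩ := ca u d hu hd
    have cT : TT d * u = u * TT d := mem_Cz.1 ((bd.alt u d hu hd).2.2 (mem_Cz.2 rfl))
    have k : IsConj (t * e (u * TT d)) (t * e u) := isConj_iff.2 ⟨w, by
      rw [← conj_mul, w2, w1, mul_inv_cancel_right, mul_assoc, ← map_mul, ← mul_assoc, cT,
        mul_assoc u, tsq, mul_one]⟩
    exact ⟨fun a => a.trans k.symm, fun a => a.trans k⟩
  have rkn : ∀ u, u * u = 1 → Alt u → ∃ j, 4 * j ≤ n + 1 ∧ rk u = 2 * j ∧ IsConj (al n F j) u :=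
    fun u hu ha => by
      obtain ⟨j, g, hj, rfl⟩ := bn.nf u hu ha
      have c : IsConj (al n F j) (g * al n F j * g⁻¹) := isConj_iff.2 ⟨g, rfl⟩
      exact ⟨j, hj, ((FW.rkc _ _ (bn.nfa j hj).1.sq hu).1 c).1.symm.trans (bn.nfa j hj).2.1, c⟩
  have claim : ∀ u, u * u = 1 → Alt u → Fu e t u → u = 1 := by
    by_contra hc
    push Not at hc
    obtain ⟨u, h1, h2, h3, h4⟩ := hc
    obtain ⟨j, hj, hr, c⟩ := rkn u h1 h2
    have fu := fcj _ _ c.symm h3
    have j0 : j ≠ 0 := by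
      rintro rfl
      rw [bn.zero] at c
      exact h4 (isConj_one_right.1 c)
    have j1 : j ≠ 1 := by
      rintro rfl
      rw [bn.one] at fu
      exact nxa fu
    have := p.six
    omega
  intro u hu
  have u1 := fsq u hu
  obtain ⟨d, hd⟩ := bd.ex u u1
  obtain ⟨alt, sq, -⟩ := bd.alt u d u1 hd
  have h0 := claim _ sq alt ((fd u d u1 hd).1 hu)
  have h1 : u = TT d := by rw [← mul_one u, ← tsq d, ← mul_assoc, h0, one_mul]
  by_cases d0 : d = 0
  · exact Or.inl (by rw [h1, d0, H86.SPI.TT_zero])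
  · exact Or.inr ⟨d, d0, h1⟩

end H20.SPGDI
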