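import Cfsg.Agent.H54.P6.H64_YEKit2
import Cfsg.Agent.H7.NPC

namespace H24 end H24
open H24
namespace H98 end H98
open H98
namespace H85.P6 end H85.P6
open H85.P6
namespace H85.P6.H24 end H85.P6.H24
open H85.P6.H24
namespace H85.P6.H24.YECO end H85.P6.H24.YECO
open H85.P6.H24.YECO
namespace H85.P6.H98 end H85.P6.H98
open H85.P6.H98
namespace H54.P6


/-! STD-SP endgame (row S3129), slot `CO`: the centraliser of `Φ R` in `K₀`. -/

set_option autoImplicit false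
set_option linter.unusedSectionVars false

namespace H24.YECO

open H64.SG (O2 Syl Cz Cs Ns Is2 mem_Cs isPGroup_iff_is2 syl_iff odd_orderOf_of_mem)
open Subgroup H98 H64.YE H67.UA H67.SP
open H59.SO (mem_Cs_map mem_Cs_range)

universe u

/-- Burnside's theorem. -/
theorem burnside {G : Type u} [Group G] [Finite G] {E C : Subgroup G} (hT : IsSyl 2 E C)
    (h : C ≤ Cs E) : Odd (Nat.card (O2 C)) := by
  obtain ⟨P, rfl⟩ := hT.exists_sylow_map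
  have h1 := H7.hasNPC_iff_not_dvd.1 ((H7.hasNPC_iff_sylow P).2 ⟨_, inferInstance,
    MonoidHom.ker_transferSylow_isComplement' P fun a _ b hb => Subtype.ext
      (h a.2 b ⟨b, hb, rfl⟩)⟩)
  rw [← res_subgroupOf, Nat.card_congr (subgroupOfEquivOfLe (res_le C)).toEquiv,
    ← H64.SG.O2_eq] at h1
  exact Nat.not_even_iff_odd.1 fun h => h1 (even_iff_two_dvd.1 h)

variable {n : ℕ} {F : Type} [Field F] [StarRing F] [TrivialStar F] [CharP F 2] [Finite F]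
  {Y : Type} [Group Y] [Finite Y] [QS Y] {G : Type u} [Group G] [Finite G] {ι : XU n F →* Y}
  {τ : MulAut Y} {Gd Go : XU n F → Prop} {U : Subgroup Y} {e : XU n F →* G} {t : G} {Φ : Y →* G}
  {K₀ : Subgroup G} {R : Subgroup Y}

theorem good (h : E1 ι τ Gd Go U e t Φ K₀) (g : Good τ U R) :
    Odd (Nat.card (O2 (K₀ ⊓ Cs (R.map Φ)))) ∧
    O2 (K₀ ⊓ Cs (R.map Φ)) ≤ Cs ((EG ι Go (Ns R)).map Φ) ∧
    ∀ x ∈ K₀ ⊓ Cs (R.map Φ), ∃ y ∈ R, ∃ o ∈ O2 (K₀ ⊓ Cs (R.map Φ)), x = Φ y * o := by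
  have := h.nor
  have n1 : Ns (R.map Φ) ≤ Ns (K₀ ⊓ Cs (R.map Φ)) :=
    le_normalizer_inf (normalizer_eq_top K₀ ▸ le_top) (normalizer_le_normalizer_centralizer _)
  have s := syl_iff.1 (syl_inf h.sylK inf_le_left ((map_le_normalizer_map Φ g.nr).trans n1))
  have r2 := isPGroup_iff_is2.1 (g.two h.m1)
  have l : U.map Φ ⊓ (K₀ ⊓ Cs (R.map Φ)) ≤ R.map Φ := by
    rintro _ ⟨⟨u, hu, rfl⟩, -, hc⟩
    exact mem_map_of_mem Φ (g.ce ⟨mem_Cs.2 fun a ha =>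
      ((e_comm_iff h.ker (r2 a ha)).1 (hc _ (mem_map_of_mem Φ ha)).symm).symm, hu⟩)
  have o := burnside s (inf_le_right.trans (centralizer_le l))
  have n2 := n1.trans (H64.SG.Ns_le_Ns_O2 _)
  refine ⟨o, h.oc o (n2 (h.act.mem_Ns_map g.st)) ((map_le_normalizer_map Φ le_rfl).trans n2)
    fun x hx => h.co (g.two h.m1) g.co hx.2 (odd_orderOf_of_mem o hx.1) (H64.SG.O2_le _ hx.1).2,
    fun x hx => ?_⟩
  obtain ⟨a, ha, b, hb, rfl⟩ := s.exists_mul_res hx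
  obtain ⟨y, hy, rfl⟩ := l ha
  exact ⟨y, hy, b, by rwa [H64.SG.O2_eq], rfl⟩

theorem cs_sup {O : Subgroup G} {A B : Subgroup Y} (ha : O ≤ Cs (A.map Φ)) (hb : O ≤ Cs (B.map Φ)) :
    O ≤ Cs ((A ⊔ B).map Φ) := by
  rw [Subgroup.map_sup, le_centralizer_iff, sup_le_iff]
  exact ⟨le_centralizer_iff.1 ha, le_centralizer_iff.1 hb⟩

theorem jobCO : JobCO.{u} := by
  intro n F _ _ _ _ _ _ G _ _ e t Y _ _ _ ι τ Gd Go U Φ K₀ h R ⟨g, hU, R', g', top⟩ x x1 x2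
  obtain ⟨o, c, d⟩ := good h g
  obtain ⟨-, c', -⟩ := good h g'
  have cU : O2 (K₀ ⊓ Cs (R.map Φ)) ≤ Cs (U.map Φ) :=
    (cs_sup c ((H64.SG.O2_le _).trans inf_le_right)).trans (centralizer_le (map_mono hU))
  have le : O2 (K₀ ⊓ Cs (R.map Φ)) ≤ O2 (K₀ ⊓ Cs (R'.map Φ)) := fun a ha => subset_closure
    ⟨⟨(H64.SG.O2_le _ ha).1, centralizer_le (map_mono g'.le) (cU ha)⟩, odd_orderOf_of_mem o ha⟩
  have := cs_sup (cs_sup c (le.trans c')) cU
  rw [top, ← MonoidHom.range_eq_map] at this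
  obtain ⟨y, hy, b, hb, e1⟩ := d x ⟨x1, x2⟩
  exact ⟨y, hy, b, this hb, e1⟩

end H24.YECO
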