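import Cfsg.Agent.H54.P6.H64_YESpec

namespace H24 end H24
open H24
namespace H98 end H98
open H98
namespace H85.P6 end H85.P6
open H85.P6
namespace H85.P6.H24 end H85.P6.H24
open H85.P6.H24
namespace H85.P6.H24.YELA end H85.P6.H24.YELA
open H85.P6.H24.YELA
namespace H85.P6.H98 end H85.P6.H98
open H85.P6.H98
namespace H54.P6


/-! STD-SP endgame (row S3129), slot `LA`: strong closure of `A` and `A'` in the linear models. -/

set_option autoImplicit false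
set_option linter.unusedSectionVars false

namespace H24.YELA

open H64.SG (Syl Cz Cs Ns cjs Is2 Inv2 mem_Cz mem_Cs isPGroup_iff_is2 is2_of_sq syl_iff)
open Subgroup H98 H64.YE H67.UA H67.SP
open H59.SO (Ind)

universe u

section Abs

variable {G : Type*} [Group G] [Finite G]

/-- The abstract configuration. -/
structure Hy (K W B B' : Subgroup G) (t ρ : G) : Prop where
  nor : K.Normal
  nt : t ∉ K
  top : ∀ g, g ∈ K ∨ g * t ∈ K
  t2 : t * t = 1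
  tρ : t ∈ Cz ρ
  tW : t ∈ Ns W
  sW : IsSyl 2 W K
  sS : IsSyl 2 (W ⊔ zpowers t) ⊤
  Wρ : W ≤ Cz ρ
  bw : B ≤ W
  bw' : B' ≤ W
  tb : cj t B = B'
  tb' : cj t B' = B
  wn : W ≤ Ns B
  wn' : W ≤ Ns B'
  cm : ∀ a ∈ B, ∀ b ∈ B, a * b = b * a
  cm' : ∀ a ∈ B', ∀ b ∈ B', a * b = b * a
  inf : ∀ z ∈ B, z ∈ B' → z = 1 ∨ z = ρ
  rb : ρ ∈ B
  rb' : ρ ∈ B'
  star : ∀ x, x ∈ B ∨ x ∈ B' → ∀ h ∈ K ⊓ Cz ρ, h * x * h⁻¹ ∈ W →
    h * x * h⁻¹ ∈ B ∨ h * x * h⁻¹ ∈ B'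

variable {K W B B' : Subgroup G} {t ρ : G}

theorem Hy.symm (h : Hy K W B B' t ρ) : Hy K W B' B t ρ :=
  { h with
    bw := h.bw', bw' := h.bw, tb := h.tb', tb' := h.tb, wn := h.wn', wn' := h.wn, cm := h.cm'
    cm' := h.cm, inf := fun z a b => h.inf z b a, rb := h.rb', rb' := h.rb
    star := fun x hx k hk hw => (h.star x hx.symm k hk hw).symm }

theorem le_or_le {D : Subgroup G} (h : ∀ x ∈ D, x ∈ B ∨ x ∈ B') : D ≤ B ∨ D ≤ B' := by
  by_contra hn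
  rw [not_or, SetLike.not_le_iff_exists, SetLike.not_le_iff_exists] at hn
  obtain ⟨⟨a, ha, ha'⟩, b, hb, hb'⟩ := hn
  rcases h _ (mul_mem ha hb) with k | k
  · exact ha' ((mul_mem_cancel_right ((h b hb).resolve_right hb')).1 k)
  · exact hb' ((mul_mem_cancel_left ((h a ha).resolve_left ha')).1 k)

theorem Hy.card (h : Hy K W B B' t ρ) : Nat.card B' = Nat.card B := by rw [← h.tb, card_cj]

/-- A conjugate of `B` under `H` inside `W` is `B` or `B'`. -/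
theorem Hy.two (h : Hy K W B B' t ρ) {k : G} (hk : k ∈ K ⊓ Cz ρ) (hw : cj k B ≤ W) :
    cj k B = B ∨ cj k B = B' := by
  have : ∀ x ∈ cj k B, x ∈ B ∨ x ∈ B' := by
    rintro _ ⟨x, hx, rfl⟩
    exact h.star x (.inl hx) k hk (hw (conj_mem_cj hx))
  exact (le_or_le this).imp (fun a => eq_of_le_of_card_ge a (card_cj k B).ge)
    fun a => eq_of_le_of_card_ge a (h.card.trans (card_cj k B).symm).le

theorem Hy.inf_eq (h : Hy K W B B' t ρ) {S : Subgroup G} (hS : IsPGroup 2 S) (hw : W ≤ S) :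
    S ⊓ K = W := h.sW.eq_of_le (hS.to_le inf_le_left) (le_inf hw h.sW.le) inf_le_right

theorem Hy.odd (h : Hy K W B B' t ρ) {g : G} (hg : Odd (orderOf g)) : g ∈ K := by
  have := h.nor
  have h2 : g * g ∈ K := by
    rcases h.top g with a | a
    · exact mul_mem a a
    · have := mul_mem a (h.nor.conj_mem _ a t)
      rwa [show g * t * (t * (g * t) * t⁻¹) = g * (t * t) * g by group, h.t2, mul_one] at this
  obtain ⟨m, hm⟩ := hg
  have : g = (g * g) ^ (m + 1) := by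
    rw [← sq, ← pow_mul, mul_add, mul_one, show 2 * m + 2 = orderOf g + 1 by omega, pow_succ,
      pow_orderOf_eq_one, one_mul]
  exact this ▸ pow_mem h2 _

/-- No element of `C(ρ)` outside `K` normalises `B`. -/
theorem Hy.eq (h : Hy K W B B' t ρ) {g : G} (g1 : g ∈ Ns B ⊓ Cz ρ) (g2 : g ∉ K) : B = B' := by
  have := h.nor
  obtain ⟨i, j, e, h2, h3⟩ := H64.SG.exists_two_odd g
  have g3 : g ^ i ∉ K := fun a => g2 (e ▸ mul_mem a (h.odd h3))
  obtain ⟨S', hS', wS'⟩ := exists_isSyl_le h.sW.isPGroup (le_inf h.wn h.Wρ)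
  obtain ⟨m, hm, h4⟩ := hS'.exists_cj_le h2.zpowers (zpowers_le.2 (pow_mem g1 i))
  obtain ⟨s, s1, s2⟩ : ∃ s ∈ S', s ∉ K := ⟨_, h4 (conj_mem_cj (mem_zpowers _)), fun a => g3 (by
    simpa [mul_assoc] using h.nor.conj_mem _ a m⁻¹)⟩
  have s3 : s ∈ Ns W ⊓ Cz ρ := by
    refine ⟨?_, (hS'.le s1).2⟩
    rw [← h.inf_eq hS'.isPGroup wS']
    exact le_normalizer_inf (H := S') le_normalizer (normalizer_eq_top K ▸ le_top) s1
  have hS : IsSyl 2 (W ⊔ zpowers t) (Ns W ⊓ Cz ρ) := h.sS.of_le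
    (sup_le (le_inf le_normalizer h.Wρ) (zpowers_le.2 ⟨h.tW, h.tρ⟩)) le_top
  obtain ⟨k, hk, h5⟩ := hS.exists_cj_le (isPGroup_iff_is2.1 hS'.isPGroup s s1).zpowers
    (zpowers_le.2 s3)
  have h6 : k * s * k⁻¹ ∈ W ⊔ zpowers t := h5 (conj_mem_cj (mem_zpowers _))
  have h7 : k * s * k⁻¹ * t ∈ W := by
    rw [← h.inf_eq hS.isPGroup le_sup_left]
    exact ⟨mul_mem h6 (mem_sup_right (mem_zpowers t)), (h.top _).resolve_left fun a => s2 (by
      simpa [mul_assoc] using h.nor.conj_mem _ a k⁻¹)⟩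
  have h8 : k * s * k⁻¹ ∈ Ns (cj k B) := by
    rw [Ns, ← cj_normalizer]; exact conj_mem_cj (hS'.le s1).1
  have h9 : cj k B ≤ W := cj_le_of_le h.bw hk.1
  have hD : cj k B = B ∨ cj k B = B' := by
    rcases h.top k with a | a
    · exact h.two ⟨a, hk.2⟩ h9
    · have e1 : cj (k * t) B' = cj k B := by rw [← cj_cj, h.tb']
      rw [← e1] at h9 ⊢
      exact (h.symm.two ⟨a, mul_mem hk.2 h.tρ⟩ h9).symm
  rcases hD with a | a <;> rw [a] at h8
  · rw [← h.tb, cj_eq_self ((mul_mem_cancel_left h8).1 (h.wn h7))]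
  · rw [← h.tb', cj_eq_self ((mul_mem_cancel_left h8).1 (h.wn' h7))]

theorem Hy.main (h : Hy K W B B' t ρ) {x k : G} (hx : x ∈ B) (hk : k ∈ K ⊓ Cz ρ)
    (hw : k * x * k⁻¹ ∈ W) : k * x * k⁻¹ ∈ B := by
  by_contra hn
  have hu := (h.star x (.inl hx) k hk hw).resolve_left hn
  have wH : W ≤ K ⊓ Cz ρ := le_inf h.sW.le h.Wρ
  have c1 : B' ≤ K ⊓ Cz ρ ⊓ Cz (k * x * k⁻¹) :=
    le_inf (h.bw'.trans wH) fun b hb => mem_Cz.2 (h.cm' _ hu b hb)
  have c2 : cj k B ≤ K ⊓ Cz ρ ⊓ Cz (k * x * k⁻¹) := by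
    refine le_inf (cj_le_of_le_of_mem (h.bw.trans wH) hk) ?_
    rintro _ ⟨b, hb, rfl⟩
    refine mem_Cz.2 ?_
    change k * x * k⁻¹ * (k * b * k⁻¹) = k * b * k⁻¹ * (k * x * k⁻¹)
    rw [show k * x * k⁻¹ * (k * b * k⁻¹) = k * (x * b) * k⁻¹ by group, h.cm x hx b hb]; group
  obtain ⟨P, hP, p1⟩ := exists_isSyl_le (h.sW.isPGroup.to_le h.bw') c1
  obtain ⟨c, hc, p2⟩ := hP.exists_cj_le (isPGroup_cj k (h.sW.isPGroup.to_le h.bw)) c2
  obtain ⟨m, hm, p3⟩ := (h.sW.of_le wH inf_le_left).exists_cj_le hP.isPGroup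
    (hP.le.trans inf_le_left)
  have v1 : m * (k * x * k⁻¹) * m⁻¹ ∈ cj (m * (c * k)) B := by
    have : m * (k * x * k⁻¹) * m⁻¹ = m * (c * k) * x * (m * (c * k))⁻¹ := by
      rw [show m * (c * k) * x * (m * (c * k))⁻¹ = m * (c * (k * x * k⁻¹)) * c⁻¹ * m⁻¹ by group,
        ← mem_Cz.1 hc.2]; group
    exact this ▸ conj_mem_cj hx
  have v2 : m * (k * x * k⁻¹) * m⁻¹ ∈ cj m B' := conj_mem_cj hu
  have v3 : m * (k * x * k⁻¹) * m⁻¹ ∈ B → m * (k * x * k⁻¹) * m⁻¹ ∉ B' := fun a b => by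
    rcases h.inf _ a b with e | e
    · rw [conj_eq_one_iff] at e; exact hn (e ▸ one_mem B)
    · rw [mul_inv_eq_iff_eq_mul, mem_Cz.1 hm.2, mul_left_cancel_iff] at e
      exact hn (e ▸ h.rb)
  have d1 := h.two (mul_mem hm (mul_mem hc.1 hk))
    (by rw [← cj_cj, ← cj_cj]; exact (cj_mono m p2).trans p3)
  have d2 := h.symm.two hm ((cj_mono m p1).trans p3)
  have d3 : cj (m * (c * k)) B = cj m B' := by
    rcases d1 with a | a <;> rcases d2 with b | b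
    · exact absurd (b ▸ v2) (v3 (a ▸ v1))
    · rw [a, b]
    · rw [a, b]
    · exact absurd (a ▸ v1) (v3 (b ▸ v2))
  rw [← cj_cj, cj_inj] at d3
  have ck := mul_mem hc.1 hk
  have d4 : cj (t * (c * k)) B = B := by rw [← cj_cj, d3, h.tb']
  have d5 : c * k ∈ K := ck.1
  have d6 : t * (c * k) ∈ Cz ρ := mul_mem h.tρ ck.2
  exact hn (h.eq (g := t * (c * k)) ⟨H98.cj_eq_self_iff.1 d4, d6⟩
    (fun a => h.nt ((mul_mem_cancel_right d5).1 a)) ▸ hu)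

end Abs

section Amb

variable {n : ℕ} {F : Type} [Field F] [StarRing F] [TrivialStar F] [CharP F 2] [Finite F]
  {Y : Type} [Group Y] [Finite Y] [QS Y] {G : Type u} [Group G] [Finite G] {ι : XU n F →* Y}
  {τ : MulAut Y} {Go : XU n F → Prop} {U : Subgroup Y} {Φ : Y →* G} {r : Y} {Z Q : Subgroup Y}

theorem root (hk : Φ.ker ≤ center Y) (d : RD ι τ Go U r Z Q) (rf : RF Φ r) {y : Y}
    (hy : IsConj r y) {g : G} (hg : g * Φ y * g⁻¹ ∈ Φ.range) :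
    ∃ y', IsConj r y' ∧ g * Φ y * g⁻¹ = Φ y' := by
  obtain ⟨w, rfl⟩ := isConj_iff.1 hy
  have e : g * Φ (w * r * w⁻¹) * g⁻¹ = g * Φ w * Φ r * (g * Φ w)⁻¹ := by simp [mul_assoc]
  rw [e] at hg ⊢
  obtain ⟨m, hm, c, hc, e1⟩ := rf _ hg
  obtain ⟨β, hβ⟩ := exists_ind hk hm
  refine ⟨β r, d.ra β, ?_⟩
  rw [← hβ, e1, show m * c * Φ r * (m * c)⁻¹ = m * (c * Φ r) * c⁻¹ * m⁻¹ by group,
    ← mem_Cz.1 hc]; group

theorem sq_root (d : RD ι τ Go U r Z Q) {y : Y} (hy : IsConj r y) : y * y = 1 := by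
  obtain ⟨w, rfl⟩ := isConj_iff.1 hy
  rw [show w * r * w⁻¹ * (w * r * w⁻¹) = w * (r * r) * w⁻¹ by group, d.inv.1]; group

theorem star (hk : Φ.ker ≤ center Y) (d : RD ι τ Go U r Z Q) (rf : RF Φ r) {D : Subgroup Y}
    (rD : r ∈ D) (rt : ∀ a ∈ D, a ≠ 1 → IsConj r a) {a : Y} (ha : a ∈ D) {g : G}
    (hg : g ∈ Cz (Φ r)) (cr : a * r = r * a) (h1 : g * Φ a * g⁻¹ ∈ Φ.range) :
    g * Φ a * g⁻¹ = 1 ∨ ∃ u, IsConj r u ∧ u * r = r * u ∧ (u * r = 1 ∨ IsConj r (u * r)) ∧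
      g * Φ a * g⁻¹ = Φ u := by
  by_cases a1 : a = 1
  · left; simp [a1]
  obtain ⟨u, u1, u2⟩ := root hk d rf (rt a ha a1) h1
  have e1 : g * Φ r * g⁻¹ = Φ r := by rw [← mem_Cz.1 hg]; group
  have e2 : g * Φ (a * r) * g⁻¹ = Φ (u * r) := by
    rw [map_mul, map_mul, ← u2]; conv_rhs => rw [← e1]
    group
  have u3 : u * r = r * u := by
    rw [← e_comm_iff hk (is2_of_sq d.inv.1), ← map_mul, ← e2, cr, map_mul, ← u2]
    conv_rhs => rw [← e1]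
    group
  have u4 : Is2 (u * r) := (is2_of_sq (sq_root d u1)).mul (is2_of_sq d.inv.1) u3
  refine .inr ⟨u, u1, u3, ?_, u2⟩
  by_cases a2 : a * r = 1
  · left; exact eq_one2 hk u4 (by rw [← e2, a2]; simp)
  obtain ⟨v, v1, v2⟩ := root hk d rf (rt _ (mul_mem ha rD) a2) (g := g) ⟨_, e2.symm⟩
  right
  rwa [inj2 hk u4 (is2_of_sq (sq_root d v1)) (e2.symm.trans v2)]

end Amb

theorem jobLA : JobLA.{u} := by
  intro n F _ _ _ _ _ _ G _ _ e t Y _ _ _ ι τ Gd Go U Φ K₀ h r Z Q A A' d l rf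
  have hk := h.ker
  have tt : ∀ y, τ (τ y) = y := fun y => by rw [← MulAut.mul_apply, h.t2]; rfl
  have sw' : ∀ y, y ∈ A' ↔ τ y ∈ A := fun y => by rw [l.sw, tt]
  have m1 : A.map τ.toMonoidHom = A' := le_antisymm (by rintro _ ⟨a, ha, rfl⟩; exact (l.sw a).1 ha)
    fun a ha => ⟨τ a, (sw' a).1 ha, tt a⟩
  have m2 : A'.map τ.toMonoidHom = A := le_antisymm (by rintro _ ⟨a, ha, rfl⟩; exact (sw' a).1 ha)
    fun a ha => ⟨τ a, (l.sw a).1 ha, tt a⟩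
  have aU : A ≤ U := (le_sup_left.trans l.sup.le).trans d.qu
  have aU' : A' ≤ U := (le_sup_right.trans l.sup.le).trans d.qu
  have rA : r ∈ A ⊓ A' := l.inf ▸ d.rz
  have U2 : IsPGroup 2 U := h.syl.2.1
  have cA : ∀ a ∈ A, ∀ b ∈ A, a * b = b * a := fun a ha b hb => by
    have i : ∀ c ∈ A, c⁻¹ = c := fun c hc => inv_eq_of_mul_eq_one_right (l.el c hc)
    rw [← i _ (mul_mem ha hb), mul_inv_rev, i a ha, i b hb]
  have cA' : ∀ a ∈ A', ∀ b ∈ A', a * b = b * a := fun a ha b hb => τ.injective (by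
    rw [map_mul, map_mul, cA _ ((sw' a).1 ha) _ ((sw' b).1 hb)])
  have rt' : ∀ a ∈ A', a ≠ 1 → IsConj r a := fun a ha a1 => by
    have := τ.toMonoidHom.map_isConj (l.rt _ ((sw' a).1 ha) (by simpa using a1))
    simpa [d.tr, tt] using this
  have tb : cj t (A.map Φ) = A'.map Φ := by rw [← m1]; exact h.act.cjs_map A
  have tb' : cj t (A'.map Φ) = A.map Φ := by
    conv_rhs => rw [← m2]
    exact h.act.cjs_map A'
  have tW : t ∈ Ns (U.map Φ) := h.act.mem_Ns_map h.stU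
  have wn : U.map Φ ≤ Ns (A.map Φ) := map_le_normalizer_map Φ (d.uz.trans l.nr)
  have H : Hy K₀ (U.map Φ) (A.map Φ) (A'.map Φ) t (Φ r) :=
    { nor := h.nor, nt := h.nt, top := h.top, t2 := h.inv.1
      tρ := mem_Cz.2 (h.act.comm d.tr).symm
      tW := tW, sW := syl_iff.1 h.sylK, sS := syl_iff.1 h.sylS
      Wρ := by
        rintro _ ⟨u, hu, rfl⟩
        rw [mem_Cz, ← map_mul, ← map_mul, d.uz hu r d.rz]
      bw := map_mono aU, bw' := map_mono aU', tb := tb, tb' := tb', wn := wn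
      wn' := by rw [← tb, Ns, ← cj_normalizer, ← cj_eq_self tW]; exact cj_mono t wn
      cm := by
        rintro _ ⟨a, ha, rfl⟩ _ ⟨b, hb, rfl⟩; rw [← map_mul, ← map_mul, cA a ha b hb]
      cm' := by
        rintro _ ⟨a, ha, rfl⟩ _ ⟨b, hb, rfl⟩; rw [← map_mul, ← map_mul, cA' a ha b hb]
      inf := fun z z1 z2 => by
        have : z ∈ (A ⊓ A').map Φ := by
          rw [map_inf2 hk (U2.to_le aU) (U2.to_le aU')]; exact ⟨z1, z2⟩
        obtain ⟨y, hy, rfl⟩ := this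
        rcases l.z y (l.inf ▸ hy) with a | a <;> simp [a]
      rb := mem_map_of_mem Φ rA.1, rb' := mem_map_of_mem Φ rA.2
      star := fun x hx g hg hw => by
        have key : g * x * g⁻¹ = 1 ∨ ∃ u, IsConj r u ∧ u * r = r * u ∧
            (u * r = 1 ∨ IsConj r (u * r)) ∧ g * x * g⁻¹ = Φ u := by
          rcases hx with ⟨a, ha, rfl⟩ | ⟨a, ha, rfl⟩
          · exact star hk d rf rA.1 l.rt ha hg.2 (cA a ha r rA.1) (map_le_range Φ U hw)
          · exact star hk d rf rA.2 rt' ha hg.2 (cA' a ha r rA.2) (map_le_range Φ U hw)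
        rcases key with a | ⟨u, u1, u2, u3, a⟩ <;> rw [a]
        · exact .inl (one_mem _)
        · exact (l.pat u u1 u2 u3).imp (mem_map_of_mem Φ) (mem_map_of_mem Φ) }
  have cz : ∀ g ∈ Cs (Z.map Φ), g ∈ Cz (Φ r) := fun g hg => mem_Cz.2 (hg _ (mem_map_of_mem Φ d.rz))
  exact ⟨fun x hx g g1 g2 hw => H.main (mem_map_of_mem Φ hx) ⟨g1, cz g g2⟩ hw,
    fun x hx g g1 g2 hw => H.symm.main (mem_map_of_mem Φ hx) ⟨g1, cz g g2⟩ hw⟩

end H24.YELA
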