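import Cfsg.Agent.H54.P6.H64_YESpec

namespace H37 end H37
open H37
namespace H85.P6 end H85.P6
open H85.P6
namespace H85.P6.H37 end H85.P6.H37
open H85.P6.H37
namespace H85.P6.H37.YECQ end H85.P6.H37.YECQ
open H85.P6.H37.YECQ
namespace H54.P6


/-! STD-SP (row S3129), endgame, slot CQ. -/

set_option autoImplicit false
set_option linter.unusedSectionVars false

namespace H37.YECQ

open H64.SG (Syl Cz Cs Ns cjs Is2 mem_Cs syl_iff exists_two_odd isPGroup_iff_is2 Cs_le_Ns)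
open Subgroup H64.YE
open H67.SA (cm)

universe u

section Gen

variable {G : Type*} [Group G]

/-- The elements of `H` that act trivially on `Q / Z`. -/
def DD (H Z Q : Subgroup G) (h : H ≤ Cs Z) : Subgroup G where
  carrier := {g | g ∈ H ∧ ∀ x ∈ Q, cm g x ∈ Z}
  one_mem' := ⟨one_mem _, fun x _ => by simp [cm]⟩
  mul_mem' {a b} ha hb := ⟨mul_mem ha.1 hb.1, fun x hx => by
    rw [show cm (a * b) x = a * cm b x * a⁻¹ * cm a x by simp only [cm]; group,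
      ← h ha.1 _ (hb.2 x hx), mul_inv_cancel_right]
    exact mul_mem (hb.2 x hx) (ha.2 x hx)⟩
  inv_mem' {a} ha := ⟨inv_mem ha.1, fun x hx => by
    rw [show cm a⁻¹ x = a⁻¹ * ((cm a x)⁻¹ * a) by simp only [cm]; group,
      h ha.1 _ (inv_mem (ha.2 x hx)), inv_mul_cancel_left]
    exact inv_mem (ha.2 x hx)⟩

theorem split [Finite G] {H U Z Q : Subgroup G} (h : H ≤ Cs Z) (h' : H ≤ Ns Q) (hU : Syl U H)
    (z2 : ∀ z ∈ Z, z * z = 1) (ce : ∀ u ∈ U, (∀ x ∈ Q, cm u x ∈ Z) → u ∈ Q) {g : G} (hg : g ∈ H)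
    (hq : ∀ x ∈ Q, cm g x ∈ Z) : ∃ y ∈ Q, ∃ o ∈ H, o ∈ Cs Q ∧ g = y * o := by
  obtain ⟨i, j, e, h1, h2⟩ := exists_two_odd g
  have g1 := pow_mem (show g ∈ DD H Z Q h from ⟨hg, hq⟩) i
  have g2 := pow_mem (show g ∈ DD H Z Q h from ⟨hg, hq⟩) j
  generalize g ^ i = a at *
  generalize g ^ j = o at *
  refine ⟨a, ?_, o, g2.1, ?_, e⟩
  · obtain ⟨d, hd, h3⟩ := (syl_iff.1 hU).exists_cj_le h1.zpowers (zpowers_le.2 g1.1)
    refine (mem_normalizer_iff.1 (h' hd) a).2 (ce _ (h3 ⟨a, mem_zpowers a, rfl⟩) fun x hx => ?_)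
    have h4 := g1.2 _ (H98.conj_mem_of_mem_normalizer' (h' hd) hx)
    rw [show cm (d * a * d⁻¹) x = d * cm a (d⁻¹ * x * d) * d⁻¹ by simp only [cm]; group,
      ← h hd _ h4, mul_inv_cancel_right]
    exact h4
  · have h3 : o ^ 2 ∈ Cs Q := fun x hx => by
      have h4 := g2.2 x hx
      have h5 : cm (o * o) x = 1 := by
        rw [show cm (o * o) x = o * cm o x * o⁻¹ * cm o x by simp only [cm]; group,
          ← h g2.1 _ h4, mul_inv_cancel_right, z2 _ h4]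
      rw [pow_two, eq_comm, ← mul_inv_eq_one, ← h5, cm]
      group
    obtain ⟨k, hk⟩ := exists_pow_eq_self_of_coprime (Nat.coprime_two_left.2 h2)
    exact hk ▸ pow_mem h3 k

end Gen

theorem jobCQ : JobCQ.{u} := by
  intro n F _ _ _ _ _ _ G _ _ e t Y _ _ _ ι τ Gd Go U Φ K₀ h r Z Q d cr g g1 g2 g3 g4
  have u2 := h.syl.2.1
  have zu := d.zq.trans d.qu
  have nq : U ≤ Ns Q := fun u hu => H67.SA.conj_mem_St.1
    (d.stq _ (H67.SA.conj_mem_St.2 (Cs_le_Ns Z (d.uz hu))))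
  obtain ⟨_, ⟨y, hy, rfl⟩, o, ho, ho', rfl⟩ := split (H := K₀ ⊓ Cs (Z.map Φ) ⊓ Ns (Q.map Φ))
    (U := U.map Φ) (Z := Z.map Φ) (Q := Q.map Φ) (fun _ h => h.1.2) inf_le_right
    (syl_iff.2 ((syl_iff.1 h.sylK).of_le (le_inf (le_inf h.sylK.1 (by
      rintro _ ⟨u, hu, rfl⟩ _ ⟨z, hz, rfl⟩
      rw [← map_mul, d.uz hu z hz, map_mul])) (H98.map_le_normalizer_map Φ nq))
      fun _ h => h.1.1))
    (by rintro _ ⟨z, hz, rfl⟩; rw [← map_mul, d.z2 z hz, map_one])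
    (by
      rintro _ ⟨u, hu, rfl⟩ k
      refine ⟨u, d.ce u hu fun x hx => (mem_map2 h.ker (u2.to_le zu) (isPGroup_iff_is2.1 u2 _
        (mul_mem (mul_mem (mul_mem hu (d.qu hx)) (inv_mem hu)) (inv_mem (d.qu hx))))).1 ?_, rfl⟩
      simpa [cm] using k _ ⟨x, hx, rfl⟩)
    (g := g) ⟨⟨g1, g2⟩, g3⟩ (by rintro _ ⟨x, hx, rfl⟩; exact g4 x hx)
  obtain ⟨y', hy', o', h1, rfl⟩ := cr o ho.1.1 ho'
  exact ⟨y * y', mul_mem hy hy', o', h1, by rw [map_mul, mul_assoc]⟩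

end H37.YECQ
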