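import Cfsg.Agent.H54.P6.H64_YESpec
import Cfsg.Agent.H9.UfK1

namespace H43 end H43
open H43
namespace H85.P6 end H85.P6
open H85.P6
namespace H85.P6.H43 end H85.P6.H43
open H85.P6.H43
namespace H85.P6.H43.YERO end H85.P6.H43.YERO
open H85.P6.H43.YERO
namespace H54.P6


/-! STD-SP endgame (row S3129), slot RO: fusion of the root involution in the orthogonal models. -/

set_option autoImplicit false
set_option linter.unusedSectionVars false

namespace H43.YERO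

open H64.SG (Syl Cz Cs Ns cjs Is2 Inv2 UF mem_Cs mem_Cz is2_of_sq)
open H64.YE Subgroup H67.UA H67.SP
open H59.SO (Ind ind_conj)

universe u

section Gen

variable {G : Type u} [Group G]

theorem mem_four {a b x : G} (ha : a * a = 1) (hb : b * b = 1) (c : a * b = b * a)
    (hx : x ∈ closure {a, b}) : x = 1 ∨ x = a ∨ x = b ∨ x = a * b := by
  have h1 : a * (a * b) = b := by rw [← mul_assoc, ha, one_mul]
  have h2 : b * (a * b) = a := by rw [c, ← mul_assoc, hb, one_mul]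
  have h3 : a * b * a = b := by rw [c, mul_assoc, ha, mul_one]
  have h4 : a * b * b = a := by rw [mul_assoc, hb, mul_one]
  have h5 : a * b * (a * b) = 1 := by rw [mul_assoc, h2, ha]
  induction hx using closure_induction with
  | mem x hx =>
    rcases hx with hx | hx
    · exact Or.inr (Or.inl hx)
    · exact Or.inr (Or.inr (Or.inl hx))
  | one => exact Or.inl rfl
  | mul x y _ _ i j =>
    rcases i with i | i | i | i <;> rcases j with j | j | j | j <;> rw [i, j] <;>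
      simp only [mul_one, one_mul, ha, hb, h1, h2, h3, h4, h5, ← c, true_or, or_true]
  | inv x _ i =>
    rcases i with i | i | i | i <;> rw [i]
    · exact Or.inl inv_one
    · exact Or.inr (Or.inl (inv_eq_of_mul_eq_one_right ha))
    · exact Or.inr (Or.inr (Or.inl (inv_eq_of_mul_eq_one_right hb)))
    · exact Or.inr (Or.inr (Or.inr (inv_eq_of_mul_eq_one_right h5)))

/-- Fusion of a four-group normalised by an element of `T ∩ M`. -/
theorem fus [Finite G] {M : Subgroup G} {t s s' a b g : G} (h : UF M t) (hs : IsConj t s)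
    (sM : s ∈ M) (hs' : IsConj t s') (sM' : s' ∈ M) (ha : a * a = 1) (hb : b * b = 1)
    (c : a * b = b * a) (na : s * a * s⁻¹ ∈ closure {a, b}) (nb : s * b * s⁻¹ ∈ closure {a, b})
    (ca : s' * (g * a * g⁻¹) = g * a * g⁻¹ * s') (cb : s' * (g * b * g⁻¹) = g * b * g⁻¹ * s') :
    ∃ m ∈ M, ∃ n, g = m * n ∧
      (n * a * n⁻¹ = 1 ∨ n * a * n⁻¹ = a ∨ n * a * n⁻¹ = b ∨ n * a * n⁻¹ = a * b) := by
  have h1 : s ∈ Ns (closure {a, b}) := by
    refine H98.mem_normalizer_of_cj_le ?_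
    rintro _ ⟨x, hx, rfl⟩
    change s * x * s⁻¹ ∈ _
    rcases mem_four ha hb c hx with i | i | i | i <;> rw [i]
    · simp
    · exact na
    · exact nb
    · rw [← conj_mul]; exact mul_mem na nb
  have h2 : s' ∈ Ns (cjs g (closure {a, b})) := by
    refine centralizer_le_normalizer _ (mem_Cs.2 ?_)
    rintro _ ⟨x, hx, rfl⟩
    change g * x * g⁻¹ * s' = s' * (g * x * g⁻¹)
    rcases mem_four ha hb c hx with i | i | i | i <;> rw [i]
    · simp
    · exact ca.symm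
    · exact cb.symm
    · rw [← conj_mul]; exact (Commute.mul_right ca cb).eq.symm
  obtain ⟨m, hm, n, hn, e⟩ := (H9.UF.jobK2 h hs sM).2 _ g s' h1 hs' sM' h2
  exact ⟨m, hm, n, e, mem_four ha hb c
    (H98.conj_mem_of_mem_normalizer hn (subset_closure (Or.inl rfl)))⟩

end Gen

section Amb

variable {n : ℕ} {F : Type} [Field F] [StarRing F] [TrivialStar F] [CharP F 2] [Finite F]
  {Y : Type} [Group Y] [Finite Y] [QS Y] {G : Type u} [Group G] [Finite G] {ι : XU n F →* Y}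
  {τ : MulAut Y} {Gd Go : XU n F → Prop} {U : Subgroup Y} {e : XU n F →* G} {t : G} {Φ : Y →* G}
  {K₀ : Subgroup G} (h : E1 ι τ Gd Go U e t Φ K₀)

include h

theorem ind_tt (w : Y) : Ind Φ (Φ w * t * (Φ w)⁻¹) (tw τ w) := (ind_conj w).conj h.act

theorem mi_fix {y : Y} (hy : MI ι y) : ∃ w, tw τ w y = y := by
  obtain ⟨w, u, rfl⟩ := hy
  refine ⟨w, ?_⟩
  have := (h.fix (ι u)).2 ⟨u, rfl⟩
  simp [tw, mul_assoc, this]

theorem mi_of_fix {y : Y} (hy : τ y = y) : MI ι y := by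
  obtain ⟨u, rfl⟩ := (h.fix y).1 hy
  exact ⟨1, u, by simp⟩

/-- An element of `M` acts as an automorphism. -/
theorem ac_of_M {y y' : Y} (hy : y * y = 1) (hy' : y' * y' = 1) {m : G} (hm : m ∈ Ns Φ.range)
    (e1 : m * Φ y * m⁻¹ = Φ y') : Ac y y' := by
  obtain ⟨β, hβ⟩ := exists_ind h.ker hm
  exact ⟨β, (ind_eq_iff h.ker hβ (is2_of_sq hy) (is2_of_sq hy')).1 e1⟩

/-- `M` controls the fusion of the involutions that are conjugate into `X`. -/
theorem fu2 {y y' : Y} (hy : y * y = 1) (hy' : y' * y' = 1) (m1 : MI ι y) (m2 : MI ι y') {g : G}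
    (hg : g * Φ y * g⁻¹ = Φ y') :
    (∃ m ∈ Ns Φ.range, ∃ c ∈ Cz (Φ y), g = m * c) ∧ Ac y y' := by
  obtain ⟨w, hw⟩ := mi_fix h m1
  obtain ⟨w', hw'⟩ := mi_fix h m2
  have c1 := (ind_tt h w).comm hw
  have c2 := (ind_tt h w').comm hw'
  have q : Φ y * Φ y = 1 := by rw [← map_mul, hy, map_one]
  obtain ⟨m, hm, c, rfl, hc⟩ := fus (a := Φ y) (b := 1) (g := g) h.uf (isConj_iff.2 ⟨Φ w, rfl⟩)
    (ind_tt h w).mem_Ns (isConj_iff.2 ⟨Φ w', rfl⟩) (ind_tt h w').mem_Ns q (mul_one 1) (by simp)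
    (by rw [c1, mul_inv_cancel_right]; exact subset_closure (Or.inl rfl)) (by simp)
    (by rw [hg]; exact c2) (by simp)
  have hc' : c * Φ y * c⁻¹ = Φ y := by
    rcases hc with i | i | i | i
    · rw [conj_eq_one_iff.1 i]; simp
    · exact i
    · rw [conj_eq_one_iff.1 i]; simp
    · rw [i, mul_one]
  refine ⟨⟨m, hm, c, mem_Cz.2 (mul_inv_eq_iff_eq_mul.1 hc').symm, rfl⟩, ac_of_M h hy hy' hm ?_⟩
  rw [← hg]
  conv_lhs => rw [← hc']
  group

theorem ro {r c : Y} {Z Q : Subgroup Y} (d : RD ι τ Go U r Z Q) (o : OB ι τ r c) : RF Φ r := by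
  intro g hg
  have qr : Φ r * Φ r = 1 := by rw [← map_mul, d.inv.1, map_one]
  have mr := mi_of_fix h d.tr
  have mc := mi_of_fix h o.tc
  obtain ⟨y, hy, ey⟩ := exists_sq_range h.ker hg (by rw [conj_mul, qr]; simp)
  by_cases my : MI ι y
  · exact (fu2 h d.inv.1 hy mr my ey.symm).1
  exfalso
  obtain ⟨ny, w, cy, hc⟩ := o.b1 y hy my
  have nrc : ∀ k : G, k * Φ r * k⁻¹ ≠ Φ c := fun k hk => by
    obtain ⟨β, hβ⟩ := (fu2 h d.inv.1 o.inv.1 mr mc hk).2
    exact o.ncr (hβ ▸ d.ra β)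
  set y' := tw τ w y with hy'
  have qy' : y' * y' = 1 := by rw [hy', ← map_mul, hy, map_one]
  have qy : Φ y * Φ y = 1 := by rw [← map_mul, hy, map_one]
  have qy2 : Φ y' * Φ y' = 1 := by rw [← map_mul, qy', map_one]
  have cy2 : Φ y * Φ y' = Φ y' * Φ y := by rw [← map_mul, cy, map_mul]
  have qyy : y * y' * (y * y') = 1 := by
    rw [mul_assoc, ← mul_assoc y', ← cy, mul_assoc, qy', mul_one, hy]
  -- move `g⁻¹ Φ y' g` into `Φ U`
  have sy : H98.IsSyl 2 (U.map Φ) (K₀ ⊓ Cz (Φ r)) := by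
    refine (H64.SG.syl_iff.1 h.sylK).of_le (le_inf h.sylK.1 ?_) inf_le_left
    rintro _ ⟨x, hx, rfl⟩
    exact mem_Cz.2 (by rw [← map_mul, mem_Cs.1 (d.uz hx) r d.rz, map_mul])
  have x2 : Is2 (g⁻¹ * Φ y' * g⁻¹⁻¹) := (is2_of_sq qy2).conj _
  have er : Φ r = g⁻¹ * Φ y * g⁻¹⁻¹ := by rw [ey]; group
  obtain ⟨k, hk, hle⟩ := sy.exists_cj_le x2.zpowers ((zpowers_le).2 ⟨h.nor.conj_mem _
    (h.le ⟨y', rfl⟩) _, mem_Cz.2 (by rw [er, conj_mul, conj_mul, cy2])⟩)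
  have m1 : k * g⁻¹ * Φ y' * (k * g⁻¹)⁻¹ ∈ Φ.range := by
    have : k * (g⁻¹ * Φ y' * g⁻¹⁻¹) * k⁻¹ ∈ U.map Φ := hle ⟨_, mem_zpowers _, rfl⟩
    have e2 : k * g⁻¹ * Φ y' * (k * g⁻¹)⁻¹ = k * (g⁻¹ * Φ y' * g⁻¹⁻¹) * k⁻¹ := by group
    exact e2 ▸ map_le_range _ _ this
  have e1 : k * g⁻¹ * Φ y * (k * g⁻¹)⁻¹ = Φ r := by
    have e2 : k * g⁻¹ * Φ y * (k * g⁻¹)⁻¹ = k * (g⁻¹ * Φ y * g⁻¹⁻¹) * k⁻¹ := by group
    rw [e2, ← er, ← mem_Cz.1 hk.2, mul_inv_cancel_right]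
  generalize k * g⁻¹ = f at m1 e1
  obtain ⟨c₂, q2, e2⟩ := exists_sq_range (g := f * Φ (y * y') * f⁻¹) h.ker
    (by rw [map_mul, ← conj_mul, e1]; exact mul_mem ⟨r, rfl⟩ m1)
    (by rw [conj_mul, ← map_mul, qyy]; simp)
  obtain ⟨v, hv⟩ := isConj_iff.1 hc
  have e3 : f * Φ v * Φ c * (f * Φ v)⁻¹ = Φ c₂ := by
    rw [e2, ← hv]; simp only [map_mul, map_inv]; group
  by_cases m2 : MI ι c₂
  · have a2 := (fu2 h o.inv.1 q2 mc m2 e3).2
    have c2 : r * c₂ = c₂ * r := by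
      refine (e_comm_iff h.ker (is2_of_sq q2)).1 ?_
      rw [e2, ← e1, conj_mul, conj_mul, map_mul, mul_assoc (Φ y), ← cy2]
    obtain ⟨w', f1, f2⟩ := o.b3 r c₂ (IsConj.refl r) a2 m2 c2
    have g1 := (ind_tt h w').comm f1
    have g2 := (ind_tt h w').comm f2
    have e4 : f * Φ y' * f⁻¹ = Φ r * Φ c₂ := by
      rw [e2, ← e1, conj_mul, map_mul, ← mul_assoc (Φ y), qy, one_mul]
    have t2 : tw τ w y' = y := by
      have : tw τ w * tw τ w = 1 := by
        unfold tw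
        rw [conj_mul, h.t2]; simp
      rw [hy', ← MulAut.mul_apply, this, MulAut.one_apply]
    obtain ⟨m, hm, p, rfl, hp⟩ := fus (a := Φ y) (b := Φ y') (g := f) h.uf
      (isConj_iff.2 ⟨Φ w, rfl⟩) (ind_tt h w).mem_Ns (isConj_iff.2 ⟨Φ w', rfl⟩)
      (ind_tt h w').mem_Ns qy qy2 cy2
      (by rw [ind_tt h w y]; exact subset_closure (Or.inr rfl))
      (by rw [ind_tt h w y', t2]; exact subset_closure (Or.inl rfl))
      (by rw [e1]; exact g1) (by rw [e4]; exact (Commute.mul_right g1 g2).eq)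
    have key : ∀ x, x * x = 1 → p * Φ y * p⁻¹ = Φ x → ∀ α : MulAut Y, IsConj r (α x) :=
      fun x hx ex α => by
        obtain ⟨β, hβ⟩ := ac_of_M h hx d.inv.1 hm (by rw [← ex, ← e1]; group)
        have := d.ra (α * β⁻¹)
        rwa [← hβ, MulAut.mul_apply, MulAut.inv_apply_self, hβ] at this
    rcases hp with i | i | i | i
    · have := key 1 (mul_one 1) (by rw [i, map_one]) 1
      exact d.inv.2 (isConj_one_left.1 (by simpa using this))
    · exact ny (key y hy i 1)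
    · exact ny (t2 ▸ key y' qy' i (tw τ w))
    · exact o.ncr ((key (y * y') qyy (by rw [i, map_mul]) 1).trans hc.symm)
  · have : ∃ j : G, j * Φ y * j⁻¹ = Φ c₂ := by
      rcases o.b2 y c₂ hy q2 my m2 with i | i
      · obtain ⟨j, hj⟩ := isConj_iff.1 i
        exact ⟨Φ j, by rw [← hj]; simp⟩
      · obtain ⟨j, hj⟩ := isConj_iff.1 i
        refine ⟨t⁻¹ * Φ j, ?_⟩
        have := h.act c₂
        rw [← hj] at this
        simp only [map_mul, map_inv] at this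
        calc t⁻¹ * Φ j * Φ y * (t⁻¹ * Φ j)⁻¹ = t⁻¹ * (Φ j * Φ y * (Φ j)⁻¹) * t := by group
          _ = Φ c₂ := by rw [← this]; group
    obtain ⟨j, hj⟩ := this
    refine nrc ((f * Φ v)⁻¹ * j * f⁻¹) ?_
    calc (f * Φ v)⁻¹ * j * f⁻¹ * Φ r * ((f * Φ v)⁻¹ * j * f⁻¹)⁻¹
        = (f * Φ v)⁻¹ * (j * Φ y * j⁻¹) * (f * Φ v) := by rw [← e1]; group
      _ = Φ c := by rw [hj, ← e3]; group

end Amb

theorem jobRO : JobRO.{u} :=
  fun _ _ _ _ _ _ _ _ _ _ _ _ _ _ _ _ _ _ _ _ _ _ _ _ h _ _ _ _ d o => ro h d o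

end H43.YERO
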