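import Cfsg.Agent.H54.P6.H64_YESpec2
import Cfsg.Agent.H9.UfK1

namespace H64 end H64
open H64
namespace H98 end H98
open H98
namespace H85.P6 end H85.P6
open H85.P6
namespace H85.P6.H64 end H85.P6.H64
open H85.P6.H64
namespace H85.P6.H64.YE end H85.P6.H64.YE
open H85.P6.H64.YE
namespace H85.P6.H98 end H85.P6.H98
open H85.P6.H98
namespace H54.P6


/-! STD-SP endgame (row S3129), kit 2: fusion and four-group lemmas. -/

set_option autoImplicit false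
set_option linter.unusedSectionVars false

namespace H64.YE

open H64.SG (O2 Syl Cz Cs Ns cjs Is2 Inv2 UF mem_Cs mem_Cz is2_of_sq isPGroup_iff_is2 syl_iff)
open Subgroup H67.UA H67.SP H98
open H67.SA (cm conj_mem_St)
open H59.SO (Ind AutOn ind_conj map_mem_Ns map_mem_Cs mem_Cs_map mem_Cs_range)

universe u

section Gen

variable {G : Type*} [Group G] [Finite G] {M H A P K D : Subgroup G} {a d g m : G}

theorem Fx.of_uf (h : UF M a) : Fx M a := h.uf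

theorem Fx.conj (h : Fx M a) (hm : m ∈ M) : Fx M (m * a * m⁻¹) := fun g hg =>
  (mul_mem_cancel_right hm).1 (h (g * m) (by convert hg using 1; group))

theorem Fx.cz (h : Fx M a) (ha : a ∈ M) : Cz a ≤ M := fun g hg =>
  h g (by rw [← mem_Cz.1 hg, mul_inv_cancel_right]; exact ha)

theorem Fx.two_le (ha : a ∈ M) (h : Fx M a) (hP : IsPGroup 2 P) (hp : a ∈ P) : P ≤ M := by
  by_contra hn
  obtain ⟨n, h1, h2⟩ := SetLike.exists_of_lt (lt_inf_normalizer hP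
    (lt_of_le_of_ne (inf_le_left : P ⊓ M ≤ P) fun e => hn (inf_eq_left.1 e)))
  exact h2 ⟨h1.1, h n (conj_mem_of_mem_normalizer h1.2 ⟨hp, ha⟩).2⟩

/-- The fusion lemma. -/
theorem fl (fa : Fx M a) (fd : Fx M d) (a2 : Is2 a) (d2 : Is2 d) (dM : d ∈ M) (aA : a ∈ Ns A)
    (dA : d ∈ Ns (cjs g A)) (aH : a ∈ H) (dH : d ∈ H) (gH : g ∈ H) :
    ∃ m ∈ M ⊓ H, ∃ n ∈ Ns A ⊓ H, g = m * n := by
  obtain ⟨P, hP, h1⟩ := exists_isSyl_le (H := Ns (cjs g A) ⊓ H) d2.zpowers (zpowers_le.2 ⟨dA, dH⟩)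
  obtain ⟨k, hk, h2⟩ := hP.exists_cj_le (a2.conj g).zpowers (zpowers_le.2 (mem_inf.2
    ⟨H64.SG.cj_Ns g A ▸ conj_mem_cj aA, mul_mem (mul_mem gH aH) (inv_mem gH)⟩))
  obtain ⟨k1, k2⟩ := mem_inf.1 hk
  have h3 := Fx.two_le dM fd hP.isPGroup (h1 (mem_zpowers d)) (h2 (conj_mem_cj (mem_zpowers _)))
  refine ⟨k * g, mem_inf.2 ⟨fa _ (by convert h3 using 1; group), mul_mem k2 gH⟩, g⁻¹ * k⁻¹ * g,
    mem_inf.2 ⟨mem_cj.1 (H64.SG.cj_Ns g A ▸ inv_mem k1 : k⁻¹ ∈ cjs g (Ns A)),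
      mul_mem (mul_mem (inv_mem gH) (inv_mem k2)) gH⟩, by group⟩

theorem syl_inf (h : Syl P K) (h1 : D ≤ K) (h2 : P ≤ Ns D) : Syl (P ⊓ D) D := by
  exact syl_iff.2 ((syl_iff.1 h).inf_of_le_normalizer h1 h2)

theorem mem_Ns_zp (h : a * g = g * a) : a ∈ Ns (zpowers g) :=
  H64.SG.Cs_le_Ns _ (mem_Cs.2 fun b hb => by
    obtain ⟨k, rfl⟩ := mem_zpowers_iff.1 hb
    exact (Commute.zpow_left (Commute.symm h) k : _))

/-- An element of odd group `O` that normalises a `2`-group normalising `O` centralises it. -/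
theorem cs_of_odd {O Q : Subgroup G} (hO : Odd (Nat.card O)) (hQ : IsPGroup 2 Q) (h1 : Q ≤ Ns O)
    {o : G} (ho : o ∈ O) (h2 : o ∈ Ns Q) : o ∈ Cs Q := mem_Cs.2 fun x hx => by
  have k1 : o * x * o⁻¹ * x⁻¹ ∈ Q := mul_mem (conj_mem_of_mem_normalizer h2 hx) (inv_mem hx)
  have k2 : o * (x * o⁻¹ * x⁻¹) ∈ O := mul_mem ho (conj_mem_of_mem_normalizer (h1 hx) (inv_mem ho))
  have := (isPGroup_iff_is2.1 hQ _ k1).eq_one (H64.SG.odd_orderOf_of_mem hO (by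
    simpa only [mul_assoc] using k2))
  exact (H67.SA.cm_eq_one.1 this).symm

theorem Ac.refl (a : G) : Ac a a := ⟨1, rfl⟩
theorem Ac.symm (h : Ac a d) : Ac d a := let ⟨β, e⟩ := h; ⟨β⁻¹, by rw [← e]; simp⟩
theorem Ac.trans (h : Ac a d) (h' : Ac d g) : Ac a g :=
  let ⟨β, e⟩ := h; let ⟨γ, e'⟩ := h'; ⟨γ * β, by rw [MulAut.mul_apply, e, e']⟩
theorem Ac.of_conj (h : IsConj a d) : Ac a d :=
  let ⟨c, e⟩ := isConj_iff.1 h; ⟨MulAut.conj c, e⟩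

end Gen

section Amb

variable {n : ℕ} {F : Type} [Field F] [StarRing F] [TrivialStar F] [CharP F 2] [Finite F]
  {Y : Type} [Group Y] [Finite Y] [QS Y] {G : Type u} [Group G] [Finite G] {ι : XU n F →* Y}
  {τ : MulAut Y} {Gd Go : XU n F → Prop} {U : Subgroup Y} {e : XU n F →* G} {t : G} {Φ : Y →* G}
  {K₀ : Subgroup G} {r y y' : Y} {Z Q R A B : Subgroup Y} {g m : G}

/-- `t ^ (Φ w)` -/
abbrev tt (Φ : Y →* G) (t : G) (w : Y) : G := Φ w * t * (Φ w)⁻¹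

theorem ind_tw (h : Ind Φ t τ) (w : Y) : Ind Φ (tt Φ t w) (tw τ w) := (ind_conj w).conj h

theorem Φ_mem (w : Y) : Φ w ∈ Ns Φ.range := le_normalizer (⟨w, rfl⟩ : Φ w ∈ Φ.range)

theorem exists_aut (hk : Φ.ker ≤ center Y) (hA : IsPGroup 2 A) (hg : g ∈ Ns (A.map Φ)) :
    ∃ θ, AutOn A θ ∧ ∀ x ∈ A, g * Φ x * g⁻¹ = Φ (θ x) := by
  have k : ∀ x, ∃ z, x ∈ A → z ∈ A ∧ Φ z = g * Φ x * g⁻¹ := fun x => by
    by_cases hx : x ∈ A
    · obtain ⟨z, h1, h2⟩ := conj_mem_of_mem_normalizer hg (mem_map_of_mem Φ hx)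
      exact ⟨z, fun _ => ⟨h1, h2⟩⟩
    · exact ⟨1, fun h => absurd h hx⟩
  choose θ hθ using k
  have a2 := isPGroup_iff_is2.1 hA
  refine ⟨θ, ⟨⟨fun x hx => (hθ x hx).1, fun x hx x' hx' e1 => inj2 hk (a2 _ hx) (a2 _ hx') ?_,
    fun z hz => ?_⟩, fun a ha b hb => inj2 hk (a2 _ (hθ _ (mul_mem ha hb)).1)
      (a2 _ (mul_mem (hθ a ha).1 (hθ b hb).1)) ?_⟩, fun x hx => (hθ x hx).2.symm⟩
  · have := (hθ x hx).2.symm.trans (e1 ▸ (hθ x' hx').2)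
    simpa using this
  · obtain ⟨x, hx, e1⟩ := conj_mem_of_mem_normalizer' hg (mem_map_of_mem Φ hz)
    exact ⟨x, hx, inj2 hk (a2 _ (hθ x hx).1) (a2 _ hz) (by rw [(hθ x hx).2, e1]; group)⟩
  · rw [map_mul, (hθ _ (mul_mem ha hb)).2, (hθ a ha).2, (hθ b hb).2, map_mul, conj_mul]

theorem MI.of_tw (h : M1 ι τ U) {w : Y} (hy : tw τ w y = y) : MI ι y := by
  obtain ⟨u, hu⟩ := (h.fix (w⁻¹ * y * w)).1 (by
    have : w * τ (w⁻¹ * y * w) * w⁻¹ = y := by simpa [tw] using hy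
    conv_rhs => rw [← this]
    group)
  exact ⟨w, u, by rw [hu]; group⟩

theorem MI.tw (h : M1 ι τ U) (hy : MI ι y) : ∃ w, tw τ w y = y := by
  obtain ⟨w, u, rfl⟩ := hy
  exact ⟨w, by simp [YE.tw, mul_assoc, (h.fix (ι u)).2 ⟨u, rfl⟩]⟩

theorem MI.of_fix (h : M1 ι τ U) (hy : τ y = y) : MI ι y :=
  let ⟨u, hu⟩ := (h.fix y).1 hy; ⟨1, u, by simp [hu]⟩

theorem Good.two (h : M1 ι τ U) (g : Good τ U R) : IsPGroup 2 R := h.syl.2.1.to_le g.le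
theorem RD.twoQ (h : M1 ι τ U) (d : RD ι τ Go U r Z Q) : IsPGroup 2 Q := h.syl.2.1.to_le d.qu
theorem RD.twoZ (h : M1 ι τ U) (d : RD ι τ Go U r Z Q) : IsPGroup 2 Z := (d.twoQ h).to_le d.zq
theorem RD.qc (d : RD ι τ Go U r Z Q) : Q ≤ Cs Z := d.qu.trans d.uz
theorem RD.cn (d : RD ι τ Go U r Z Q) : Cs Z ≤ Ns Q := fun _ hp =>
  conj_mem_St.1 (d.stq _ (conj_mem_St.2 (H64.SG.Cs_le_Ns _ hp)))
theorem RD.stZ (d : RD ι τ Go U r Z Q) : τ ∈ H67.SA.St Z := d.str τ d.tr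
theorem RD.stQ (d : RD ι τ Go U r Z Q) : τ ∈ H67.SA.St Q := d.stq τ d.stZ
theorem RD.root_aut (d : RD ι τ Go U r Z Q) (hy : IsConj r y) (α : MulAut Y) : IsConj r (α y) :=
  (d.ra α).trans (α.toMonoidHom.map_isConj hy)

namespace E1

variable (h : E1 ι τ Gd Go U e t Φ K₀)
include h

theorem m1 : M1 ι τ U := h.toM1
theorem tM : t ∈ Ns Φ.range := h.act.mem_Ns
theorem fx : Fx (Ns Φ.range) t := h.uf.uf

theorem fxt (w : Y) : tt Φ t w ∈ Ns Φ.range ∧ Fx (Ns Φ.range) (tt Φ t w) ∧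
    tt Φ t w * tt Φ t w = 1 :=
  ⟨(ind_tw h.act w).mem_Ns, h.fx.conj (Φ_mem w), by rw [conj_mul, h.inv.1]; group⟩

theorem tt_comm {w : Y} (hy : tw τ w y = y) : tt Φ t w * Φ y = Φ y * tt Φ t w :=
  (ind_tw h.act w).comm hy

theorem pre2 (h1 : m ∈ Ns Φ.range) (h2 : Is2 m) (h3 : m ∈ K₀) : ∃ y, Is2 y ∧ Φ y = m :=
  exists_is2_range (h.two2 m h1 h2 h3) h2

theorem conjK (hm : m ∈ K₀) (g : G) : g * m * g⁻¹ ∈ K₀ := h.nor.conj_mem m hm g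

theorem ΦK (y : Y) : Φ y ∈ K₀ := h.le ⟨y, rfl⟩

/-- Fusion of elements that are conjugate into `X`. -/
theorem fu (y2 : Is2 y) (y2' : Is2 y') (h1 : MI ι y) (h2 : MI ι y') (hg : g * Φ y * g⁻¹ = Φ y') :
    (∃ m ∈ Ns Φ.range, ∃ c ∈ Cz (Φ y), g = m * c) ∧ Ac y y' := by
  obtain ⟨w, hw⟩ := h1.tw h.m1
  obtain ⟨w', hw'⟩ := h2.tw h.m1
  obtain ⟨a1, a2, a3⟩ := h.fxt w
  obtain ⟨d1, d2, d3⟩ := h.fxt w'
  have k : cjs g (Cz (Φ y)) = Cz (Φ y') := by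
    ext a
    rw [mem_cj, mem_Cz, mem_Cz, ← hg]
    constructor <;> intro e1
    · calc _ = g * (Φ y * (g⁻¹ * a * g)) * g⁻¹ := by group
        _ = _ := by rw [e1]; group
    · calc _ = g⁻¹ * (g * Φ y * g⁻¹ * a) * g := by group
        _ = _ := by rw [e1]; group
  obtain ⟨P, hP, p1⟩ := exists_isSyl_le (H := Cz (Φ y')) (is2_of_sq d3).zpowers
    (zpowers_le.2 (mem_Cz.2 (h.tt_comm hw').symm))
  obtain ⟨k, k1, k2⟩ := hP.exists_cj_le ((is2_of_sq a3).conj g).zpowers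
    (zpowers_le.2 (k ▸ conj_mem_cj (mem_Cz.2 (h.tt_comm hw).symm)))
  have h3 := Fx.two_le d1 d2 hP.isPGroup (p1 (mem_zpowers _)) (k2 (conj_mem_cj (mem_zpowers _)))
  have h4 : k * g ∈ Ns Φ.range := a2 _ (by convert h3 using 1; group)
  have h5 : k * g * Φ y * (k * g)⁻¹ = Φ y' := by
    calc _ = k * (g * Φ y * g⁻¹) * k⁻¹ := by group
      _ = _ := by rw [hg, ← mem_Cz.1 k1, mul_inv_cancel_right]
  obtain ⟨β, hβ⟩ := exists_ind h.ker h4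
  refine ⟨⟨k * g, h4, (k * g)⁻¹ * g, mem_Cz.2 ?_, by group⟩, β, (ind_eq_iff h.ker hβ y2 y2').1 h5⟩
  calc _ = (k * g)⁻¹ * (k * g * Φ y * (k * g)⁻¹) * g := by group
    _ = _ := by rw [h5, ← hg]; group

theorem rf (hm : MIa ι) (hr : r * r = 1) : RF Φ r := fun g hg => by
  obtain ⟨y, h1, h2⟩ := exists_sq_range h.ker hg (by rw [conj_mul, ← map_mul, hr]; simp)
  exact (h.fu (is2_of_sq hr) (is2_of_sq h1) (hm r hr) (hm y h1) h2.symm).1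

theorem root (d : RD ι τ Go U r Z Q) (f : RF Φ r) (hy : IsConj r y) (hg : g * Φ y * g⁻¹ ∈ Φ.range) :
    ∃ y', IsConj r y' ∧ g * Φ y * g⁻¹ = Φ y' := by
  obtain ⟨w, rfl⟩ := isConj_iff.1 hy
  have e1 : g * Φ (w * r * w⁻¹) * g⁻¹ = g * Φ w * Φ r * (g * Φ w)⁻¹ := by simp [mul_assoc]
  rw [e1] at hg ⊢
  obtain ⟨m, h1, c, h2, e2⟩ := f _ hg
  obtain ⟨β, hβ⟩ := exists_ind h.ker h1
  refine ⟨β r, d.ra β, ?_⟩
  rw [e2, ← hβ]
  calc _ = m * (c * Φ r * c⁻¹) * m⁻¹ := by group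
    _ = _ := by rw [← mem_Cz.1 h2, mul_inv_cancel_right]

/-- The same for `2`-elements: `y'` is the unique preimage. -/
theorem root' (d : RD ι τ Go U r Z Q) (f : RF Φ r) (hy : IsConj r y) (y2 : Is2 y')
    (hg : g * Φ y * g⁻¹ = Φ y') : IsConj r y' := by
  obtain ⟨y₁, h1, h2⟩ := h.root d f hy (g := g) ⟨y', hg.symm⟩
  obtain ⟨w, rfl⟩ := isConj_iff.1 h1
  rwa [inj2 h.ker y2 ((is2_of_sq d.inv.1).conj w) (hg.symm.trans h2)]

theorem co (hR : IsPGroup 2 R) (c : Co R) {o : G} (h1 : o ∈ Ns Φ.range) (h2 : Odd (orderOf o))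
    (h3 : o ∈ Cs (R.map Φ)) : o ∈ Cs Φ.range := by
  obtain ⟨β, hβ⟩ := exists_ind h.ker h1
  exact (ind_eq_one_iff h.ker hβ).1 (c β (ind_fix h.ker hβ hR h3) (ind_odd h.ker hβ h2))

/-- The four-group lemma. -/
theorem oc {O : Subgroup G} (hO : Odd (Nat.card O)) (h1 : t ∈ Ns O) (h2 : B.map Φ ≤ Ns O)
    (h3 : O ⊓ Ns Φ.range ≤ Cs Φ.range) : O ≤ Cs ((EG ι Go B).map Φ) := by
  have key : ∀ v, v * v = 1 → Go v → ι v ∈ B → O ≤ Cz (Φ (ι v)) := fun v v2 g hv => by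
    rw [h.res]
    by_cases v1 : e v = 1
    · exact fun x _ => mem_Cz.2 (by rw [v1, mul_one, one_mul])
    have c := h.toB1.comm v
    have ee : e v * e v = 1 := by rw [← map_mul, v2, map_one]
    have k : O ⊓ Ns Φ.range ≤ Cz (e v) := fun x hx => mem_Cz.2 (h3 hx _ ⟨ι v, h.res v⟩)
    have n1 : t * e v ≠ 1 := fun e1 =>
      h.nt (eq_inv_of_mul_eq_one_left e1 ▸ inv_mem (h.res v ▸ h.ΦK (ι v)))
    refine H14.le_of_four (a := t) (b := t * e v)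
      (orderOf_eq_prime (by rw [pow_two, h.inv.1]) h.inv.2)
      (orderOf_eq_prime (by
        rw [pow_two, mul_assoc, ← mul_assoc (e v), ← c, mul_assoc, ee, mul_one, h.inv.1]) n1)
      (by rw [mul_assoc, ← c]) (fun e1 => v1 (left_eq_mul.1 e1)) (Nat.coprime_two_right.2 hO) h1
      (mul_mem h1 (h.res v ▸ h2 (mem_map_of_mem Φ hv))) ((inf_le_inf_left O h.ct).trans k)
      ((inf_le_inf_left O (h.go v v2 g)).trans k) ?_
    rw [← mul_assoc, h.inv.1, one_mul]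
    exact inf_le_right
  intro o ho
  have : EG ι Go B ≤ (Cz o).comap Φ := (closure_le _).2 (by
    rintro _ ⟨b, hb, v, v2, g, hv, rfl⟩
    have := mem_Cz.1 (key v v2 g hv (conj_mem_of_mem_normalizer' (h2 (mem_map_of_mem Φ hb)) ho))
    refine mem_Cz.2 ?_
    simp only [map_mul, map_inv]
    calc _ = Φ b * ((Φ b)⁻¹ * o * Φ b * Φ (ι v)) * (Φ b)⁻¹ := by group
      _ = _ := by rw [← this]; group)
  exact mem_Cs_map.2 fun s hs => (mem_Cz.1 (this hs)).symm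

theorem mz (d : RD ι τ Go U r Z Q) (h1 : m ∈ Ns Φ.range) (h2 : m ∈ Ns (Z.map Φ)) :
    m ∈ Ns (Q.map Φ) := by
  obtain ⟨β, hβ⟩ := exists_ind h.ker h1
  exact hβ.mem_Ns_map (d.stq β (ind_st h.ker hβ (d.twoZ h.m1) h2))

theorem mr (d : RD ι τ Go U r Z Q) (h1 : m ∈ Ns Φ.range) (h2 : m ∈ Cz (Φ r)) :
    m ∈ Ns (Z.map Φ) := by
  obtain ⟨β, hβ⟩ := exists_ind h.ker h1
  exact hβ.mem_Ns_map (d.str β ((ind_comm_iff h.ker hβ (is2_of_sq d.inv.1)).1 (mem_Cz.1 h2).symm))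

/-- The first case of `JobGC`. -/
theorem case1 (d : RD ι τ Go U r Z Q) {O : Subgroup G} (hO : Odd (Nat.card O)) (h1 : t ∈ Ns O)
    (h2 : (Cs Z).map Φ ≤ Ns O) (h3 : O ⊓ Ns Φ.range ≤ Ns (Q.map Φ)) : O ≤ Cs (Q.map Φ) :=
  (h.oc hO h1 h2 fun _ ho => h.co (d.twoQ h.m1) d.co ho.2 (H64.SG.odd_orderOf_of_mem hO ho.1)
    (cs_of_odd hO ((d.twoQ h.m1).map Φ) ((map_mono d.qc).trans h2) ho.1 (h3 ho))).trans
      (centralizer_le (map_mono d.gq))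

theorem sylZ (d : RD ι τ Go U r Z Q) : Syl (U.map Φ) (K₀ ⊓ Cs (Z.map Φ)) :=
  syl_iff.2 ((syl_iff.1 h.sylK).of_le (le_inf h.sylK.1 (by
    rintro _ ⟨u, hu, rfl⟩; exact map_mem_Cs (d.uz hu))) inf_le_left)

theorem inf_K : (U.map Φ ⊔ zpowers t) ⊓ K₀ = U.map Φ :=
  (syl_iff.1 h.sylK).eq_of_le (h.sylS.2.1.to_le inf_le_left) (le_inf le_sup_left h.sylK.1)
    inf_le_right

end E1

end Amb

end H64.YE
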