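import Cfsg.Agent.H54.P6.H64_YEKit2

namespace H46 end H46
open H46
namespace H85.P6 end H85.P6
open H85.P6
namespace H85.P6.H46 end H85.P6.H46
open H85.P6.H46
namespace H85.P6.H46.YECB end H85.P6.H46.YECB
open H85.P6.H46.YECB
namespace H54.P6


/-! STD-SP endgame (row S3129): `JobCB`, `C_K(Z)` normalises `Q` in the symplectic model. -/

set_option autoImplicit false

open H64.SG (O2 Syl Cz Cs Ns cjs Is2 Inv2 UF mem_Cs mem_Cz is2_of_sq isPGroup_iff_is2 Cs_le_Ns)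
open Subgroup H64.YE
open H67.SA (cm conj_mem_St mem_St_of_finite)
open H59.SO (Ind map_mem_Ns map_mem_Cs mem_Cs_map)

namespace H46.YECB

universe u

theorem cj_mem {G : Type*} [Group G] {A : Subgroup G} {g a : G} (hg : g ∈ Ns A) (ha : a ∈ A) :
    g * a * g⁻¹ ∈ A := (mem_normalizer_iff.1 hg a).1 ha

theorem ns_of {G : Type*} [Group G] [Finite G] {A : Subgroup G} {g : G}
    (h : ∀ a ∈ A, g * a * g⁻¹ ∈ A) : g ∈ Ns A := conj_mem_St.1 (mem_St_of_finite h)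

/-- The elements of `C(Z)` that map into `N Φ(Z)`. -/
def pre {Y G : Type*} [Group Y] [Group G] (Φ : Y →* G) (Z : Subgroup Y) (N : Subgroup G) :
    Subgroup Y where
  carrier := {p | p ∈ Cs Z ∧ ∃ z ∈ Z, Φ (p * z) ∈ N}
  one_mem' := ⟨one_mem _, 1, one_mem _, by simp⟩
  mul_mem' := by
    rintro p q ⟨h1, z, hz, h2⟩ ⟨h3, w, hw, h4⟩
    refine ⟨mul_mem h1 h3, z * w, mul_mem hz hw, ?_⟩
    have e : p * q * (z * w) = p * z * (q * w) := by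
      rw [mul_assoc p q, ← mul_assoc q, ← h3 z hz]; group
    rw [e, map_mul]; exact mul_mem h2 h4
  inv_mem' := by
    rintro p ⟨h1, z, hz, h2⟩
    refine ⟨inv_mem h1, z⁻¹, inv_mem hz, ?_⟩
    rw [← mul_inv_rev, h1 z hz, map_inv]; exact inv_mem h2

theorem jobCB : JobCB.{u} := by
  intro gc n F _ _ _ _ _ _ G _ _ e t Y _ _ _ ι τ Gd Go U Φ K₀ h r Z Q d b sc hM
  have hk := h.ker
  have q2 := d.twoQ h.m1
  have z2 := d.twoZ h.m1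
  have iQ : ∀ x ∈ Q, Is2 x := isPGroup_iff_is2.1 q2
  have hH : ∀ p ∈ Cs Z, Φ p ∈ K₀ ⊓ Cs (Z.map Φ) := fun p hp => ⟨h.ΦK p, map_mem_Cs hp⟩
  have hHQ : ∀ p ∈ Cs Z, Φ p ∈ (K₀ ⊓ Cs (Z.map Φ)) ⊓ Ns (Q.map Φ) := fun p hp =>
    ⟨hH p hp, map_mem_Ns (d.cn hp)⟩
  have hMH : Ns Φ.range ⊓ (K₀ ⊓ Cs (Z.map Φ)) ≤ Ns (Q.map Φ) := fun m hm =>
    h.mz d hm.1 (Cs_le_Ns _ hm.2.2)
  rcases gc G (Ns Φ.range) (K₀ ⊓ Cs (Z.map Φ)) (U.map Φ) (Z.map Φ) (Q.map Φ) (h.sylZ d)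
    (map_mono d.zq) (map_mono d.qu) inf_le_right
    (by rintro _ ⟨x, hx, rfl⟩; rw [← map_mul]; exact mem_map_of_mem Φ (d.sq x hx))
    (by rintro _ ⟨x, hx, rfl⟩ g hg; exact sc x hx g hg.1 hg.2) hMH with
    ⟨O, o1, o2, o3, o4⟩ | ⟨N, B, g⟩
  · have ht : t ∈ Ns (K₀ ⊓ Cs (Z.map Φ)) := ns_of fun a ha => ⟨h.conjK ha.1 t, fun v hv => by
      have h1 := ha.2 _ (cj_mem (inv_mem (h.act.mem_Ns_map d.stZ)) hv)
      calc v * (t * a * t⁻¹) = t * (t⁻¹ * v * t⁻¹⁻¹ * a) * t⁻¹ := by group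
        _ = _ := by rw [h1]; group⟩
    have hc := h.case1 d o2 (o3 ht) (by
      rintro _ ⟨p, hp, rfl⟩; exact o3 (le_normalizer (hH p hp)))
      fun o ho => hMH ⟨ho.2, o1 ho.1⟩
    intro a ha
    obtain ⟨o, ho, m, hm, rfl⟩ := o4 a ha
    exact mul_mem (Cs_le_Ns _ (hc ho)) hm.2
  exfalso
  have vb : ∀ z ∈ Z, Φ z ∈ B := fun z hz => g.vb (mem_map_of_mem Φ hz)
  obtain ⟨a, ha, aN, aB⟩ : ∃ a ∈ Q, Φ a ∈ N ∧ Φ a ∉ B := by
    obtain ⟨x, hx, -, -, h1, -⟩ := g.four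
    obtain ⟨_, ⟨⟨a, ha, rfl⟩, h2⟩, c, hc, rfl⟩ := g.dec x hx
    exact ⟨a, ha, h2, fun h3 => h1 (mul_mem h3 hc)⟩
  have aZ : a ∉ Z := fun h1 => aB (vb a h1)
  have cj : ∀ p ∈ Cs Z, Φ p ∈ Ns N ∧ Φ p ∈ Ns B ∨
      ∀ x ∈ Q, Φ x ∈ N → Φ (p * x * p⁻¹) ∈ B := fun p hp =>
    (g.cj _ (hHQ p hp)).imp_right fun h1 x hx xN => by
      rw [map_mul, map_mul, map_inv]
      exact h1 ⟨_, ⟨mem_map_of_mem Φ hx, xN⟩, rfl⟩
  have s1 : ∀ y ∈ Q, Φ y ∈ B → y ∈ pre Φ Z N := fun y hy yB => by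
    by_cases yZ : y ∈ Z
    · exact ⟨d.qc hy, y⁻¹, inv_mem yZ, by simp⟩
    have h1 : a * y ∉ Z := fun h1 => aB ((mul_mem_cancel_right yB).1 (map_mul Φ a y ▸ vb _ h1))
    obtain ⟨p, hp, h2⟩ := b.tr a ha (a * y) (mul_mem ha hy) aZ h1
    rcases cj p hp with ⟨h3, -⟩ | h3
    · refine ⟨d.qc hy, _, h2, ?_⟩
      have e : y * (p * a * p⁻¹ * (a * y)⁻¹) = a⁻¹ * (p * a * p⁻¹) := by
        have h4 := d.qc (mul_mem ha hy) _ h2
        rw [eq_inv_mul_iff_mul_eq, ← mul_assoc, ← h4]; group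
      rw [e, map_mul, map_inv, map_mul, map_mul, map_inv]
      exact mul_mem (inv_mem aN) (cj_mem h3 aN)
    · have h4 := mul_mem (inv_mem (vb _ h2)) (h3 a ha aN)
      rw [← map_inv, ← map_mul, show (p * a * p⁻¹ * (a * y)⁻¹)⁻¹ * (p * a * p⁻¹) = a * y by group,
        map_mul] at h4
      exact absurd ((mul_mem_cancel_right yB).1 h4) aB
  have s2 : Q ≤ pre Φ Z N := fun x hx => by
    obtain ⟨_, ⟨⟨a', ha', rfl⟩, h2⟩, c, hc, e⟩ := g.dec _ (mem_map_of_mem Φ hx)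
    obtain ⟨y, hy, rfl⟩ := g.bq hc
    rw [inj2 hk (iQ x hx) (iQ _ (mul_mem ha' hy)) (e.trans (map_mul Φ a' y).symm)]
    exact mul_mem ⟨d.qc ha', 1, one_mem _, by simpa using h2⟩ (s1 y hy hc)
  have s3 : ∀ y ∈ Q, Φ y ∈ B → y ∈ Z := fun y hy yB => by
    by_contra yZ
    obtain ⟨p, hp, h2⟩ := b.tr a ha y hy aZ yZ
    rcases cj p hp with ⟨-, h3⟩ | h3
    · have h4 := mul_mem (vb _ h2) yB
      rw [← map_mul, inv_mul_cancel_right, map_mul, map_mul, map_inv] at h4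
      exact aB ((mem_normalizer_iff.1 h3 _).2 h4)
    · have h4 : p⁻¹ * a * p⁻¹⁻¹ ∈ Q := cj_mem (inv_mem (d.cn hp)) ha
      obtain ⟨-, z, hz, h5⟩ := s2 h4
      have h6 := h3 _ (mul_mem h4 (d.zq hz)) h5
      rw [show p * (p⁻¹ * a * p⁻¹⁻¹ * z) * p⁻¹ = a * (p * z * p⁻¹) by group, ← hp z hz,
        mul_inv_cancel_right, map_mul] at h6
      exact aB ((mul_mem_cancel_right (vb z hz)).1 h6)
  have s4 : ∀ p ∈ Cs Z, Φ p ∈ Ns N := fun p hp => by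
    refine ((cj p hp).resolve_right fun h3 => aZ ?_).1
    have h4 := s3 _ (cj_mem (d.cn hp) ha) (h3 a ha aN)
    exact (mem_normalizer_iff.1 (Cs_le_Ns _ hp) a).2 h4
  rcases b.nb (pre Φ Z N) s2 (fun _ hp => hp.1) (fun c hc => ns_of (by
    rintro p ⟨hp, z, hz, h1⟩
    refine ⟨mul_mem (mul_mem hc hp) (inv_mem hc), z, hz, ?_⟩
    rw [show c * p * c⁻¹ * z = c * (p * z) * c⁻¹ by
      rw [mul_assoc _ c⁻¹, ← inv_mem hc z hz]; group, map_mul, map_mul _ c, map_inv]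
    exact cj_mem (s4 c hc) h1)) with h1 | h1
  · obtain ⟨p, hp, x, hx, y, hy, xZ, h2, h3⟩ := b.mv
    have yZ : y ∉ Z := fun h4 => h3 (by rw [cm, ← hp y h4]; simp)
    obtain ⟨k, kN, kQ, -, h4⟩ := g.tr _ (mem_map_of_mem Φ hx) _ (mem_map_of_mem Φ hy)
      (fun h5 => xZ (s3 x hx h5)) fun h5 => yZ (s3 y hy h5)
    obtain ⟨β, hβ⟩ := exists_ind hk (hM ⟨g.nh kN, kQ⟩)
    have bZ := ind_fix hk hβ z2 (g.nh kN).2
    have bx : β x ∈ Q := (ind_st hk hβ q2 kQ x).1 hx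
    have h5 : β x * y⁻¹ ∈ Z := s3 _ (mul_mem bx (inv_mem hy)) (by rwa [map_mul, map_inv, ← hβ])
    have bp : β p ∈ Cs Z := fun z hz => by
      conv_lhs => rw [← bZ z hz, ← map_mul, hp z hz, map_mul, bZ z hz]
    have hw : β p * p⁻¹ ∈ Q := h1 ⟨mul_mem bp (inv_mem hp), 1, one_mem _, by
      rw [mul_one, map_mul, map_inv, ← hβ, show k * Φ p * k⁻¹ * (Φ p)⁻¹ =
        k * (Φ p * k⁻¹ * (Φ p)⁻¹) by group]
      exact mul_mem kN (cj_mem (s4 p hp) (inv_mem kN))⟩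
    have cQ : ∀ u ∈ Q, ∀ v ∈ Q, u * v = v * u := fun u hu v hv => by
      have i : ∀ u ∈ Q, u⁻¹ = u := fun u hu => inv_eq_of_mul_eq_one_right (b.el u hu)
      rw [← i _ (mul_mem hu hv), mul_inv_rev, i u hu, i v hv]
    have h6 : β (cm p x) ∈ Z := by rwa [bZ _ h2]
    obtain ⟨z, hz, e1⟩ : ∃ z ∈ Z, β x = z * y := ⟨_, h5, by group⟩
    obtain ⟨w, hw, e2⟩ : ∃ w ∈ Q, β p = w * p := ⟨_, hw, by group⟩
    have e3 : β (cm p x) = cm p y := by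
      simp only [cm, map_mul, map_inv, e1, e2]
      have k1 := cQ w hw _ (cj_mem (d.cn hp) (mul_mem (d.zq hz) hy))
      have k2 := cQ z (d.zq hz) _ (mul_mem (cj_mem (d.cn hp) hy) (inv_mem hy))
      calc w * p * (z * y) * (w * p)⁻¹ * (z * y)⁻¹
          = w * (p * (z * y) * p⁻¹) * w⁻¹ * (z * y)⁻¹ := by group
        _ = p * z * y * p⁻¹ * y⁻¹ * z⁻¹ := by rw [k1]; group
        _ = z * (p * y * p⁻¹ * y⁻¹) * z⁻¹ := by rw [← hp z hz]; group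
        _ = _ := by rw [k2]; group
    exact h3 (e3 ▸ h6)
  · obtain ⟨u, hu, u2, uQ⟩ := b.ex
    obtain ⟨hc, z, hz, h2⟩ := h1 (d.uz hu)
    have h3 : u * z * (u * z) = 1 := by
      rw [mul_assoc, ← mul_assoc z, hc z hz, mul_assoc, d.z2 z hz, mul_one, u2]
    have h4 := g.om _ ⟨mem_map_of_mem Φ (mul_mem hu (d.qu (d.zq hz))), h2⟩
      (by rw [← map_mul, h3, map_one]; exact one_mem _)
    exact uQ ((mul_mem_cancel_right (d.zq hz)).1 ((mem_map2 hk q2 (is2_of_sq h3)).1 h4))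

end H46.YECB
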