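import Cfsg.Agent.H54.P6.H64_YESpec
import Cfsg.Agent.S2901

namespace H46 end H46
open H46
namespace H85.P6 end H85.P6
open H85.P6
namespace H85.P6.H46 end H85.P6.H46
open H85.P6.H46
namespace H85.P6.H46.YEHT end H85.P6.H46.YEHT
open H85.P6.H46.YEHT
namespace H54.P6


/-! STD-SP endgame (row S3129): `JobHT`, Holt's theorem in `K₀`. -/

set_option autoImplicit false

open H64.SG (O2 Syl Cz Cs Ns cjs Is2 Inv2 UF IsO2 fx mem_Cz)
open Subgroup H64.YE
open H59.SO (Ind)

namespace H46.YEHT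

universe u

theorem hom_one {Y : Type} [Group Y] [Finite Y] [QS Y] {A : Type*} [Group A] [Group.IsSolvable A]
    (f : Y →* A) (y : Y) : f y = 1 := by
  by_contra h
  have h1 : f.range ≠ ⊥ := fun e => h (by
    have : f y ∈ f.range := ⟨y, rfl⟩
    rwa [e, mem_bot] at this)
  have h2 : f.range ≤ ⁅f.range, f.range⁆ := by
    rw [MonoidHom.range_eq_map, ← map_commutator]
    exact map_mono (H64.YE.perfect).ge
  exact (Group.IsSolvable.commutator_lt_of_ne_bot h1).not_ge h2

theorem hom_a4 {Y : Type} [Group Y] [Finite Y] [QS Y] (f : Y →* alternatingGroup (Fin 4)) (y : Y) :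
    f y = 1 := by
  have h4 : Nat.card (Fin 4) = 4 := by simp
  have h2 : ∀ a, f a ∈ alternatingGroup.kleinFour (Fin 4) := fun a => by
    rw [alternatingGroup.kleinFour_eq_commutator h4]
    have : a ∈ commutator Y := (H64.YE.perfect (X := Y)).symm ▸ mem_top a
    have h := mem_map_of_mem f this
    rw [commutator_def, map_commutator] at h
    exact commutator_mono le_top le_top h
  have := alternatingGroup.kleinFour_isKleinFour h4
  refine hom_eq_one f (fun a b => ?_) y
  have hc := (IsKleinFour.isMulCommutative (G := alternatingGroup.kleinFour (Fin 4))).is_comm.comm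
    ⟨_, h2 a⟩ ⟨_, h2 b⟩
  exact congrArg Subtype.val hc

theorem jobHT : JobHT.{u} := by
  intro n F _ _ _ _ _ _ G _ _ e t Y _ _ _ ι τ Gd Go U Φ K₀ h r Z Q hr hs hna hrf hc
  have hk := h.ker
  have r1 : Inv2 (Φ r) := inv2_e hk hr.inv
  have hM : ∀ y, Φ y ∈ Ns Φ.range := fun y => le_normalizer ⟨y, rfl⟩
  have hK : ∀ y, Φ y ∈ K₀ := fun y => h.le ⟨y, rfl⟩
  by_contra hn
  let φ : Y →* K₀ := Φ.codRestrict K₀ hK
  have hφ : ∀ y, (φ y : G) = Φ y := fun _ => rfl
  have φ1 : φ r ≠ 1 := fun e => r1.2 (congrArg Subtype.val e)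
  have r2 : Is2 (φ r) := (H64.SG.is2_of_sq hr.inv.1).map φ
  have hP : ∀ y, φ y ∈ (Ns Φ.range).subgroupOf K₀ := fun y => hM y
  rcases Cfsg.Agent.S2901.result (K := K₀)
    (fun hc => φ1 (hom_eq_one φ (fun a b => hc.is_comm.comm _ _) r))
    ((Ns Φ.range).subgroupOf K₀) (fun e => hn (subgroupOf_eq_top.1 e)) (φ r) (hP r)
    ⟨orderOf_eq_prime (by rw [sq, ← map_mul, hr.inv.1, map_one]) φ1,
      (h.sylK.2.1.comap_subtype (K := K₀)).toSylow h.sylK.2.2.not_two_dvd_nat,
      (mem_map_of_mem Φ (hr.qu (hr.zq hr.rz)) :), fun x hx => by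
        obtain ⟨u, hu, e⟩ : (x : G) ∈ U.map Φ := hx
        refine Subtype.ext ?_
        change (x : G) * Φ r = Φ r * x
        rw [← e, ← map_mul, ← map_mul, hr.uz hu r hr.rz]⟩
    (fun g hg => hc ⟨g.2, mem_centralizer_singleton_iff.2
      (congrArg Subtype.val (mem_centralizer_singleton_iff.1 hg))⟩)
    (fun g hg => by
      have h1 : (g : G) * Φ r * (g : G)⁻¹ ∈ Φ.range := h.two2 _ hg
        (((H64.SG.is2_of_sq r1.1).map (MulAut.conj (g : G)).toMonoidHom :)) (g * φ r * g⁻¹).2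
      obtain ⟨m, hm, c, hc, e⟩ := hrf _ h1
      obtain ⟨β, hβ⟩ := exists_ind hk hm
      obtain ⟨y, hy⟩ := isConj_iff.1 (hr.ra β)
      refine ⟨φ y, hP y, Subtype.ext ?_⟩
      change Φ y * Φ r * (Φ y)⁻¹ = (g : G) * Φ r * (g : G)⁻¹
      rw [← map_inv, ← map_mul, ← map_mul, hy, ← hβ, e, mul_assoc m c,
        mem_centralizer_singleton_iff.1 hc]
      group) with ⟨-, S, hS⟩ | ⟨m, hm, -, ⟨ε⟩⟩
  · have hN : ∀ y, φ y ∈ normalizer ((S : Subgroup K₀) : Set K₀) := fun y => hS ▸ hP y
    have : ((S : Subgroup K₀).comap φ).Normal := ⟨fun a ha b => by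
      rw [mem_comap, map_mul, map_mul, map_inv]
      exact (mem_normalizer_iff.1 (hN b) _).1 ha⟩
    have hrS : φ r ∈ (S : Subgroup K₀) := by
      have := r2.zpowers.inf_normalizer_sylow S
      exact (this.le ⟨mem_zpowers _, hN r⟩).2
    rcases normal_le_center_or ((S : Subgroup K₀).comap φ) with h1 | h1
    · exact hr.inv.2 (eq_one_of_center (h1 hrS) (H64.SG.is2_of_sq hr.inv.1))
    · have : Group.IsNilpotent (S : Subgroup K₀) := S.isPGroup'.isNilpotent
      have h2 := hom_one (φ.codRestrict (S : Subgroup K₀) fun y => (h1 ▸ mem_top y :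
        y ∈ (S : Subgroup K₀).comap φ)) r
      exact φ1 (congrArg Subtype.val h2)
  · let ψ : Y →* (Ns Φ.range).subgroupOf K₀ := φ.codRestrict _ hP
    let f : Y →* alternatingGroup (Fin (m - 1)) := ε.toMonoidHom.comp ψ
    have hf : ∀ y, f y = 1 ↔ Φ y = 1 := fun y =>
      ⟨fun e => congrArg (fun a => (a.1.1 : G)) (ε.map_eq_one_iff.1 e),
        fun e => ε.map_eq_one_iff.2 (Subtype.ext (Subtype.ext e))⟩
    have f1 : f r ≠ 1 := fun e => r1.2 ((hf r).1 e)
    rcases Nat.lt_or_ge m 6 with h6 | h6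
    · obtain rfl : m = 5 := by omega
      exact f1 (hom_a4 f r)
    have := alternatingGroup.isSimpleGroup (α := Fin (m - 1)) (by simp; omega)
    have hn : f.range.Normal := ⟨by
      rintro _ ⟨y, rfl⟩ g
      obtain ⟨g, rfl⟩ := ε.surjective g
      obtain ⟨β, hβ⟩ := exists_ind hk g.2
      refine ⟨β y, ?_⟩
      change ε (ψ (β y)) = ε g * ε (ψ y) * (ε g)⁻¹
      rw [← map_inv, ← map_mul, ← map_mul]
      exact congrArg ε (Subtype.ext (Subtype.ext (hβ y).symm))⟩
    have hs : Function.Surjective f := MonoidHom.range_eq_top.1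
      (hn.eq_bot_or_eq_top.resolve_left fun e => f1 (by
        have : f r ∈ f.range := ⟨r, rfl⟩
        rwa [e, mem_bot] at this))
    have hz : f.ker = center Y := by
      refine le_antisymm (fun y hy => hk ((hf y).1 hy)) ?_
      rcases ((inferInstance : (center Y).Normal).map f hs).eq_bot_or_eq_top with e | e
      · exact (Subgroup.map_eq_bot_iff _).1 e
      · refine absurd (hom_eq_one f (fun a b => ?_) r) f1
        obtain ⟨c, hc, e'⟩ : f b ∈ (center Y).map f := e ▸ mem_top _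
        rw [← e', ← map_mul, ← map_mul, mem_center_iff.1 hc a]
    exact (hna (m - 1)).false ((QuotientGroup.quotientMulEquivOfEq hz.symm).trans
      (QuotientGroup.quotientKerEquivOfSurjective f hs))

end H46.YEHT
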