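import Cfsg.Agent.H54.P6.H64_YESpec
import Cfsg.Agent.H64.SGK89
import Cfsg.Agent.H9.UfK1
import Cfsg.Agent.H14.Std

namespace H4 end H4
open H4
namespace H85.P6 end H85.P6
open H85.P6
namespace H85.P6.H4 end H85.P6.H4
open H85.P6.H4
namespace H85.P6.H4.YEC3 end H85.P6.H4.YEC3
open H85.P6.H4.YEC3
namespace H54.P6


/-! STD-SP endgame, slot C3: `C(Φ c) ≤ M` in the orthogonal models. -/

set_option autoImplicit false
set_option linter.unusedSectionVars false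

namespace H4.YEC3

open H64.SG (Syl Cz Cs Ns cjs Is2 UF mem_Cz mem_Cs is2_of_sq isPGroup_iff_is2 Cs_le_Ns
  odd_orderOf_of_mem odd_card_sup syl_iff)
open Subgroup H67.UA H67.SP H64.YE
open H67.SA (St conj_mem_St mem_St)
open H59.SO (Ind ind_conj mem_Cs_map mem_Cs_range)

universe u

variable {n : ℕ} {F : Type} [Field F] [StarRing F] [TrivialStar F] [CharP F 2] [Finite F]
  {Y : Type} [Group Y] [Finite Y] [QS Y] {G : Type u} [Group G] [Finite G] {ι : XU n F →* Y}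
  {τ : MulAut Y} {Gd Go : XU n F → Prop} {U : Subgroup Y} {e : XU n F →* G} {t : G} {Φ : Y →* G}
  {K₀ : Subgroup G} (h : E1 ι τ Gd Go U e t Φ K₀) {c : Y} {R R₀ R₁ : Subgroup Y}

theorem cm_one {O Q : Subgroup G} (hO : Odd (Nat.card O)) (hQ : IsPGroup 2 Q) (h1 : Q ≤ Ns O)
    {o : G} (ho : o ∈ O) (h2 : o ∈ Ns Q) : o ∈ Cs Q := fun x hx => by
  have k1 : o * x * o⁻¹ * x⁻¹ ∈ Q := mul_mem (H98.conj_mem_of_mem_normalizer h2 hx) (inv_mem hx)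
  have k2 : o * x * o⁻¹ * x⁻¹ ∈ O := by
    simpa only [mul_assoc] using mul_mem ho (H98.conj_mem_of_mem_normalizer (h1 hx) (inv_mem ho))
  have := (isPGroup_iff_is2.1 hQ _ k1).eq_one (odd_orderOf_of_mem hO k2)
  rw [mul_inv_eq_one, mul_inv_eq_iff_eq_mul] at this
  exact this.symm

theorem Phi_mem (y : Y) : Φ y ∈ Ns Φ.range := le_normalizer ⟨y, rfl⟩

include h

theorem co {A : Subgroup Y} (hA : IsPGroup 2 A) (k : Co A) {o : G} (hm : o ∈ Ns Φ.range)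
    (ho : Odd (orderOf o)) (hc : o ∈ Cs (A.map Φ)) : o ∈ Cs Φ.range := by
  obtain ⟨β, hβ⟩ := exists_ind h.ker hm
  exact (H64.YE.ind_eq_one_iff h.ker hβ).1 (k β (ind_fix h.ker hβ hA hc) (ind_odd h.ker hβ ho))

theorem oc {O : Subgroup G} {B : Subgroup Y} (hO : Odd (Nat.card O)) (ht : t ∈ Ns O)
    (hB : B.map Φ ≤ Ns O) (hM : O ⊓ Ns Φ.range ≤ Cs Φ.range) : O ≤ Cs ((EG ι Go B).map Φ) := by
  have key : ∀ v, v * v = 1 → Go v → ι v ∈ B → O ≤ Cz (Φ (ι v)) := fun v v2 gv hv => by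
    by_cases v1 : Φ (ι v) = 1
    · exact fun x _ => mem_Cz.2 (by rw [v1, mul_one, one_mul])
    have k : ∀ a : G, Cz a ≤ Ns Φ.range → O ⊓ Cz a ≤ Cz (Φ (ι v)) := fun a ha x hx =>
      mem_Cz.2 (hM ⟨hx.1, ha hx.2⟩ _ ⟨_, rfl⟩)
    refine H14.le_of_four (a := t) (b := Φ (ι v)) (orderOf_eq_prime (by rw [sq, h.uf.inv.1]) h.uf.inv.2)
      (orderOf_eq_prime (by rw [sq, ← map_mul, ← map_mul, v2, map_one, map_one]) v1)
      (h.act.comm ((h.fix _).2 ⟨v, rfl⟩)) (fun k => h.nt (k ▸ h.le ⟨_, rfl⟩))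
      (Nat.coprime_two_right.2 hO) ht (hB ⟨_, hv, rfl⟩) (k _ h.ct) inf_le_right (k _ ?_)
    rw [h.res]; exact h.go v v2 gv
  intro o ho
  refine mem_Cs_map.2 fun s hs => ?_
  refine (mem_Cz.1 ((closure_le (K := (Cz o).comap Φ)).2 ?_ hs : Φ s ∈ Cz o)).symm
  rintro _ ⟨b, hb, v, v2, gv, hv, rfl⟩
  have := mem_Cz.1 (key v v2 gv hv (H98.conj_mem_of_mem_normalizer' (hB ⟨b, hb, rfl⟩) ho))
  refine mem_Cz.2 ?_
  simp only [map_mul, map_inv]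
  calc _ = Φ b * ((Φ b)⁻¹ * o * Φ b * Φ (ι v)) * (Φ b)⁻¹ := by group
    _ = _ := by rw [← this]; group

variable (tc : τ c = c) (gR : Good τ U R) (os : OS ι τ c R) (k : OC ι τ Go c R R₀ R₁)
  (nr : Ns (R.map Φ) ≤ Ns Φ.range)

omit h in
theorem twoR (os : OS ι τ c R) : IsPGroup 2 R := isPGroup_iff_is2.2 fun x hx => is2_of_sq (os.el x hx)

omit h in
theorem commR (os : OS ι τ c R) {x y : Y} (hx : x ∈ R) (hy : y ∈ R) : x * y = y * x := by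
  rw [← inv_eq_of_mul_eq_one_right (os.el _ (mul_mem hx hy)), mul_inv_rev,
    inv_eq_of_mul_eq_one_right (os.el _ hx), inv_eq_of_mul_eq_one_right (os.el _ hy)]

include os in
theorem ind_c {m : G} (hm : m ∈ Ns Φ.range) (hc : m ∈ Cz (Φ c)) : ∃ β, Ind Φ m β ∧ β c = c := by
  obtain ⟨β, hβ⟩ := exists_ind h.ker hm
  exact ⟨β, hβ, (ind_comm_iff h.ker hβ (is2_of_sq (os.el c os.cr))).1 (mem_Cz.1 hc).symm⟩

include os in
theorem mq : Ns Φ.range ⊓ Cz (Φ c) ≤ Ns (R.map Φ) := fun _ hm => by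
  obtain ⟨β, hβ, e⟩ := ind_c h os hm.1 hm.2
  exact hβ.mem_Ns_map (os.st β e)

omit h in
theorem qh (os : OS ι τ c R) : R.map Φ ≤ Cz (Φ c) := by
  rintro _ ⟨x, hx, rfl⟩
  exact mem_Cz.2 (by rw [← map_mul, ← map_mul, commR os os.cr hx])

include tc gR os k nr

theorem case1 {O : Subgroup G} (hl : O ≤ Cz (Φ c)) (hO : Odd (Nat.card O))
    (hN : Ns (Cz (Φ c)) ≤ Ns O)
    (hd : ∀ x ∈ Cz (Φ c), ∃ o ∈ O, ∃ m ∈ Cz (Φ c) ⊓ Ns (R.map Φ), x = o * m) :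
    Cz (Φ c) ≤ Ns Φ.range := by
  have hH : Cz (Φ c) ≤ Ns O := le_normalizer.trans hN
  have h1 : O ⊓ Ns Φ.range ≤ Cs Φ.range := fun o ho => co h (twoR os) gR.co ho.2
    (odd_orderOf_of_mem hO ho.1) (cm_one hO ((twoR os).map Φ) ((qh os).trans hH) ho.1
      (mq h os ⟨ho.2, hl ho.1⟩))
  have h2 : O ≤ Cs (R₀.map Φ) := (oc h (B := Cz c) hO (hH (mem_Cz.2 (h.act.comm tc).symm)) (by
    rintro _ ⟨p, hp, rfl⟩
    exact hH (mem_Cz.2 (by rw [← map_mul, ← map_mul, mem_Cz.1 hp]))) h1).trans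
      (centralizer_le (map_mono k.gr))
  obtain ⟨g, -, g1, g2, g3⟩ := k.two
  have h3 : O ≤ Ns Φ.range := fun o ho => by
    have a1 : Φ g * o * (Φ g)⁻¹ ∈ Cs ((cjs g R₀).map Φ) := mem_Cs_map.2 (by
      rintro _ ⟨x, hx, rfl⟩
      have := h2 ho _ ⟨x, hx, rfl⟩
      simp only [MulEquiv.coe_toMonoidHom, MulAut.conj_apply, map_mul, map_inv]
      calc _ = Φ g * (Φ x * o) * (Φ g)⁻¹ := by group
        _ = _ := by rw [this]; group)
    have a2 : Φ g * o * (Φ g)⁻¹ ∈ Cz (Φ c) := mem_Cz.2 (a1 _ ⟨c, g1, rfl⟩)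
    have a3 : Odd (orderOf (Φ g * o * (Φ g)⁻¹)) :=
      (odd_orderOf_of_mem hO ho).of_dvd_nat (orderOf_map_dvd (MulAut.conj (Φ g)).toMonoidHom o)
    obtain ⟨o₁, ho₁, m, hm, e⟩ := hd _ a2
    have e' : m = o₁⁻¹ * (Φ g * o * (Φ g)⁻¹) := by rw [e, inv_mul_cancel_left]
    have a4 : Odd (orderOf m) := odd_orderOf_of_mem
      (odd_card_sup hO (by rwa [Nat.card_zpowers]) (zpowers_le.2 (hH a2)))
      (e' ▸ mul_mem (mem_sup_left (inv_mem ho₁)) (mem_sup_right (mem_zpowers _)))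
    have a5 : m ∈ Cs Φ.range := co h ((twoR os).to_le (inf_le_left.trans k.l0)) g3 (nr hm.2) a4
      (e' ▸ mul_mem (centralizer_le (map_mono inf_le_left) (inv_mem (h2 ho₁)))
        (centralizer_le (map_mono inf_le_right) a1))
    have a6 : Φ g * o * (Φ g)⁻¹ ∈ Cs (R₀.map Φ) :=
      e ▸ mul_mem (h2 ho₁) (centralizer_le (map_le_range Φ R₀) a5)
    have a7 : Φ g * o * (Φ g)⁻¹ ∈ Cs (R.map Φ) := fun x hx => by
      have : (R₀ ⊔ cjs g R₀).map Φ ≤ Cz (Φ g * o * (Φ g)⁻¹) := by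
        rw [Subgroup.map_sup]
        exact sup_le (fun y hy => mem_Cz.2 (a6 y hy).symm) fun y hy => mem_Cz.2 (a1 y hy).symm
      exact (mem_Cz.1 (this (map_mono g2 hx))).symm
    have := nr (Cs_le_Ns _ a7)
    rwa [mul_mem_cancel_right (inv_mem (Phi_mem g)), mul_mem_cancel_left (Phi_mem g)] at this
  intro x hx
  obtain ⟨o, ho, m, hm, rfl⟩ := hd x hx
  exact mul_mem (h3 ho) (nr hm.2)

theorem case2 {T N B : Subgroup G}
    (d : GD (Ns Φ.range) (Cz (Φ c)) T (zpowers (Φ c)) (R.map Φ) N B) : False := by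
  have th : t ∈ Cz (Φ c) := mem_Cz.2 (h.act.comm tc).symm
  have t2 := h.uf.inv.1
  have act : ∀ a ∈ R, ∀ a' ∈ R, Φ a ∉ B → Φ a' ∉ B → ∃ (m : G) (β : MulAut Y), Ind Φ m β ∧ β c = c ∧
      m ∈ Cs B ∧ Φ (β a * a'⁻¹) ∈ B := fun a ha a' ha' b b' => by
    obtain ⟨m, -, m1, m2, m3⟩ := d.tr _ ⟨a, ha, rfl⟩ _ ⟨a', ha', rfl⟩ b b'
    obtain ⟨β, hβ, e⟩ := ind_c h os (nr m1) (mem_Cz.2 (m2 _ (d.vb (mem_zpowers _))))
    exact ⟨m, β, hβ, e, m2, by rwa [map_mul, map_inv, ← hβ]⟩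
  rcases k.irr (R ⊓ B.comap Φ) inf_le_left (fun p hp => by
    have p1 : Φ p ∈ Cz (Φ c) := mem_Cz.2 (by rw [← map_mul, ← map_mul, mem_Cz.1 hp])
    have s1 := (d.inv t th t2 h.ct).2
    have s2 := (d.inv (Φ p * t * (Φ p)⁻¹) (mul_mem (mul_mem p1 th) (inv_mem p1)) (by
      rw [conj_mul, t2, mul_one, mul_inv_cancel]) fun g hg => by
        have : (Φ p)⁻¹ * g * Φ p ∈ Cz t := mem_Cz.2 (by
          calc _ = (Φ p)⁻¹ * (Φ p * t * (Φ p)⁻¹ * g) * Φ p := by group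
            _ = _ := by rw [mem_Cz.1 hg]; group)
        have := h.ct this
        rwa [mul_mem_cancel_right (Phi_mem p), mul_mem_cancel_left (inv_mem (Phi_mem p))] at this).2
    have s3 : Φ (p * (τ p)⁻¹) ∈ Ns B := by
      have := mul_mem s2 (inv_mem s1)
      rwa [map_mul, map_inv, ← h.act p, show Φ p * (t * Φ p * t⁻¹)⁻¹ = Φ p * t * (Φ p)⁻¹ * t⁻¹ by group]
    have s4 : p * (τ p)⁻¹ ∈ Cz c := mul_mem hp (inv_mem (mem_Cz.2 (by
      rw [← tc, ← map_mul, ← map_mul, mem_Cz.1 hp])))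
    refine inf_normalizer_le_normalizer_inf ⟨conj_mem_St.1 (os.st _ ?_), le_normalizer_comap Φ s3⟩
    rw [MulAut.conj_apply, ← mem_Cz.1 s4, mul_inv_cancel_right]) with k1 | k1
  · obtain ⟨a, ha, ha1⟩ := SetLike.not_le_iff_exists.1 k.n1
    obtain ⟨a', ha', ha0⟩ := SetLike.not_le_iff_exists.1 k.n0
    obtain ⟨m, β, -, e, -, m3⟩ := act a (k.l0 ha) a' ha' (fun b => ha1 (k1 ⟨k.l0 ha, b⟩))
      fun b => ha0 (k.l1 (k1 ⟨ha', b⟩))
    have b0 := (k.st β e a).1 ha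
    have := k.l1 (k1 (mem_inf.2 ⟨mul_mem (k.l0 b0) (inv_mem ha'), m3⟩))
    rw [mul_mem_cancel_left b0, inv_mem_iff] at this
    exact ha0 this
  · obtain ⟨_, ⟨x, hx, rfl⟩, _, ⟨y, hy, rfl⟩, b1, b2, b3⟩ := d.four
    obtain ⟨m, β, hβ, e, m2, m3⟩ := act x hx y hy b1 b2
    have m4 : Φ (β x * x⁻¹) ∈ B := (k1 (k.tv β (os.st β e) (ind_fix h.ker hβ
      ((twoR os).to_le k.l0) (centralizer_le (by rintro _ ⟨z, hz, rfl⟩; exact (k1 hz).2) m2)) x hx)).2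
    have := mul_mem (inv_mem m4) m3
    rw [← map_inv, ← map_mul, show (β x * x⁻¹)⁻¹ * (β x * y⁻¹) = x * y⁻¹ by group,
      inv_eq_of_mul_eq_one_right (os.el y hy), ← inv_eq_of_mul_eq_one_right (os.el x hx), map_mul,
      map_inv] at this
    exact b3 this

end H4.YEC3

namespace H4.YEC3

open H64.SG (Syl Cz Cs Ns cjs Is2 UF mem_Cz is2_of_sq isPGroup_iff_is2 syl_iff)
open Subgroup H64.YE

universe u

theorem jobC3 : JobC3.{u} := by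
  intro gc n F _ _ _ _ _ _ G _ _ e t Y _ _ _ ι τ Gd Go U Φ K₀ h c R R₀ R₁ tc gR os k sr nr
  have th : t ∈ Cz (Φ c) := mem_Cz.2 (h.act.comm tc).symm
  obtain ⟨T, hT, hle⟩ := H98.exists_isSyl_le (IsPGroup.to_sup_of_normal_left' ((twoR os).map Φ)
    (is2_of_sq h.uf.inv.1).zpowers (zpowers_le.2 (h.act.mem_Ns_map gR.st)))
    (sup_le (qh os) (zpowers_le.2 th))
  have tm : T ≤ Ns Φ.range := (H9.UF.jobK1 h.uf (IsConj.refl t) h.uf.mem).2 T hT.2.1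
    (hle (mem_sup_right (mem_zpowers t)))
  rcases gc G (Ns Φ.range) (Cz (Φ c)) T (zpowers (Φ c)) (R.map Φ) (syl_iff.2 hT)
    (zpowers_le.2 ⟨c, os.cr, rfl⟩) (le_sup_left.trans hle)
    (fun g hg => H64.SG.mem_Cs_zpowers.2 (mem_Cz.1 hg))
    (by rintro _ ⟨x, hx, rfl⟩; rw [← map_mul, os.el x hx, map_one]; exact one_mem _)
    (by
      rintro _ ⟨x, hx, rfl⟩ g hg hm
      exact sr x hx g hg (h.two2 _ (tm hm) (isPGroup_iff_is2.1 hT.2.1 _ hm)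
        (h.nor.conj_mem _ (h.le ⟨x, rfl⟩) g)))
    (mq h os) with ⟨O, h1, h2, h3, h4⟩ | ⟨N, B, d⟩
  · exact case1 h tc gR os k nr h1 h2 h3 h4
  · exact (case2 h tc gR os k nr d).elim

end H4.YEC3
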