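import Cfsg.Agent.H54.P6.H64_YESpec
import Cfsg.Agent.H9.UfK4

namespace H5 end H5
open H5
namespace H85.P6 end H85.P6
open H85.P6
namespace H85.P6.H5 end H85.P6.H5
open H85.P6.H5
namespace H85.P6.H5.YEEI end H85.P6.H5.YEEI
open H85.P6.H5.YEEI
namespace H54.P6


/-! STD-SP endgame (row S3129), slot EI: the centraliser of `t e z` lies in `N(G₁)`. -/

set_option autoImplicit false
set_option linter.unusedSectionVars false

namespace H5.YEEI

open H64.SG (O2 Syl Cz Cs Ns cjs Is2 Inv2 UF IsO2 fx mem_Cz mem_Cs is2_of_sq isPGroup_iff_is2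
  odd_orderOf_of_mem)
open Subgroup H67.UA H67.SP H64.YE
open H67.SA (cm mem_cjs)
open H59.SO (Ind CE ind_conj)

universe u

/-- An automorphism that fixes `z` fixes `O₂(C z)`. -/
theorem isO2_map {X : Type} [Group X] {A : Subgroup X} {z : X} (h : IsO2 A (Cz z))
    {ψ : MulAut X} (hz : ψ z = z) {v : X} (hv : v ∈ A) : ψ v ∈ A := by
  have hc : ∀ (φ : MulAut X), φ z = z → ∀ a ∈ Cz z, φ a ∈ Cz z := fun φ hφ a ha => by
    rw [mem_Cz] at ha ⊢
    have := congrArg φ ha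
    rwa [map_mul, map_mul, hφ] at this
  have hz' : ψ⁻¹ z = z := by
    conv_lhs => rw [← hz]
    simp
  refine h.2.2.2 (A.map ψ.toMonoidHom) ?_ ?_ (h.2.2.1.map _) ⟨v, hv, rfl⟩
  · rintro _ ⟨a, ha, rfl⟩
    exact hc ψ hz a (h.1 ha)
  · intro c hc'
    have h1 := h.2.1 (hc _ hz' c hc')
    rw [mem_normalizer_iff] at h1 ⊢
    intro x
    constructor
    · rintro ⟨a, ha, rfl⟩
      exact ⟨_, (h1 a).1 ha, by simp⟩
    · rintro ⟨a, ha, e⟩
      refine ⟨ψ⁻¹ x, (h1 _).2 ?_, by simp⟩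
      have : ψ⁻¹ c * ψ⁻¹ x * (ψ⁻¹ c)⁻¹ = a := by
        rw [← map_inv, ← map_mul, ← map_mul, ← e]; simp
      rw [this]
      exact ha

theorem jobEI : JobEI.{u} := by
  intro n F _ _ _ _ _ _ G _ _ e t _ _ _ Y _ _ _ ι τ Gd U Φ h ea uf Ge me z hz
  obtain ⟨hz2, A, hA, hzA⟩ := me.zp z hz
  have hk := h.ker
  have hτ : ∀ x, τ (ι x) = ι x := fun x => (h.fix _).2 ⟨x, rfl⟩
  have hte : ∀ x, t * e x = e x * t := fun x => h.toCE.toB1.comm x
  have heM : ∀ x, e x ∈ Ns Φ.range := fun x => le_normalizer ⟨ι x, h.res x⟩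
  have hd : Ind Φ (t * e z) (MulAut.conj (ι z) * τ) := by
    rw [hte, ← h.res]; exact (ind_conj _).mul h.act
  -- elements of `M ∩ C(d)` induce automorphisms that commute with `τ`
  have key : ∀ m ∈ Cz (t * e z), m ∈ Ns Φ.range → ∃ α, Ind Φ m α ∧ α * τ = τ * α ∧
      α (ι z) = ι z := fun m hm hM => by
    obtain ⟨α, hα⟩ := exists_ind hk hM
    have h1 := ind_comm_of_comm hk hα hd (mem_Cz.1 hm).symm
    have h2 := me.mz z hz α h1
    refine ⟨α, hα, h2, ?_⟩
    have h3 : α * MulAut.conj (ι z) = MulAut.conj (ι z) * α := by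
      apply mul_right_cancel (b := τ)
      rw [mul_assoc, h1, mul_assoc, mul_assoc, h2]
    have h4 : Is2 (ι z) := (is2_of_sq hz2.1).map ι
    refine conj_inj (h4.map α.toMonoidHom) h4 (MulEquiv.ext fun y => ?_)
    have := DFunLike.congr_fun h3 (α⁻¹ y)
    simpa using this
  have htH : t ∈ Cz (t * e z) := mem_Cz.2 (by rw [mul_assoc, ← hte])
  obtain ⟨O, hOH, hHO, hO, hdec⟩ := H9.UF.jobK5 uf (IsConj.refl t) uf.mem (Cz (t * e z)) ⊥ htH
    bot_le (fun g _ => le_normalizer_of_normal (mem_top g)) IsPGroup.of_bot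
    (fun g _ _ a ha => by rw [mem_bot.1 ha]; simp) (fun m hm hM h2 => by
      obtain ⟨α, hα, h1, -⟩ := key m hm hM
      have h3 : cm m t ∈ Cs Φ.range := (ind_eq_one_iff hk (hα.cm h.act)).1 (H67.SA.cm_eq_one.2 h1)
      exact mem_bot.2 (h2.eq_one (odd_orderOf_of_mem ea.odd h3)))
  have hOz : O ≤ Cz (e z) := by
    have : closure {v | v ∈ A ∧ v * v = 1 ∧ Gd v} ≤ (Cs O).comap e := by
      refine (closure_le _).2 fun v ⟨hv, hv2, hg⟩ => ?_
      obtain ⟨w, hw⟩ := ea.tx v hv2 hg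
      have hvH : e v ∈ Cz (t * e z) := mem_Cz.2 (by
        rw [mul_assoc, ← map_mul, mem_Cz.1 (hA.1 hv), map_mul, ← mul_assoc, hte, mul_assoc])
      have h5 := H9.UF.jobK6 uf (IsConj.refl t) uf.mem (isConj_iff.2 ⟨Φ w, hw.symm⟩) (heM v)
        (by rw [← map_mul, hv2, map_one]) (hte v) O hO (hHO htH) (hHO hvH) (fun o ⟨ho, hM⟩ => by
          obtain ⟨α, hα, h1, h2⟩ := key o (hOH ho) hM
          have h3 : ∀ x, ∃ y, o * e x * o⁻¹ = e y := fun x => by
            obtain ⟨y, hy⟩ := (h.fix (α (ι x))).1 (by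
              have := DFunLike.congr_fun h1 (ι x)
              rw [MulAut.mul_apply, MulAut.mul_apply, hτ] at this
              exact this.symm)
            exact ⟨y, by rw [← h.res, hα, ← hy, h.res]⟩
          have h4 : o ∈ Ns e.range := mem_normalizer_fintype (by
            rintro _ ⟨x, rfl⟩
            obtain ⟨y, hy⟩ := h3 x
            exact ⟨y, hy.symm⟩)
          obtain ⟨ψ, hψ⟩ := H59.SO.exists_ind h.inj h4
          have h6 : ψ z = z := h.inj (by rw [← hψ, ← h.res, hα, h2])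
          have h7 : cm o (e v) ∈ O := by
            have := H98.conj_mem_of_mem_normalizer (hHO hvH) (inv_mem ho)
            have h8 := mul_mem ho this
            rwa [← mul_assoc, ← mul_assoc] at h8
          have h8 : Is2 (cm o (e v)) := by
            rw [cm, hψ, ← map_inv, ← map_mul]
            exact (isPGroup_iff_is2.1 hA.2.2.1 _ (mul_mem (isO2_map hA h6 hv) (inv_mem hv))).map e
          exact mem_Cz.2 (H67.SA.cm_eq_one.1 (h8.eq_one (odd_orderOf_of_mem hO h7))).symm)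
      exact fun o ho => (mem_Cz.1 (h5 ho)).symm
    exact fun o ho => mem_Cz.2 (this hzA o ho).symm
  intro g hg
  obtain ⟨o, ho, m, -, hM, rfl⟩ := hdec g hg
  refine mul_mem (ea.ct (mem_Cz.2 ?_)) hM
  have h1 := mem_Cz.1 (hOH ho)
  rw [mul_assoc, mem_Cz.1 (hOz ho), ← mul_assoc, ← mul_assoc] at h1
  exact mul_right_cancel h1

end H5.YEEI
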