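import Cfsg.Agent.H85.P6.H67_SPDef

namespace H57 end H57
open H57
namespace H64 end H64
open H64
namespace H85.P6 end H85.P6
open H85.P6
namespace H85.P6.H57 end H85.P6.H57
open H85.P6.H57
namespace H85.P6.H64 end H85.P6.H64
open H85.P6.H64
namespace H85.P6.H64.YE end H85.P6.H64.YE
open H85.P6.H64.YE
namespace H54.P6


/-! STD-SP endgame (row S3129), kit: homomorphisms `e : X →* G` with central kernel from a
quasisimple group (`QS X`); port of `H67/GAInd` to `H59.SO.Ind`.  Call as `ind_unique hk h h'`. -/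

set_option autoImplicit false
set_option linter.unusedSectionVars false

namespace H64.YE

open H64.SG (O2 Syl Cz Cs Ns cjs Is2 Inv2 UF IsO2 fx mem_Cs mem_Cz mem_fx)
open H57 Subgroup
open H67.SA (cI cm mem_St mem_St_iff_map mem_St_of_finite mem_cI cm_eq_one)
open H67.GA (hom_eq_one' hom_eq_of_central' mem_center_of_cm' conj_eq_one)
open H59.SO (Ind cje twe ind_one ind_one_iff ind_conj ind_conj_iff mem_Cs_range mem_Cs_map)

universe u

/-- `X` is quasisimple with centre of odd order, automorphisms of `X / Z(X)` lift, and the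
`2`-elements of `(Aut X)'` are inner. -/
class QS (X : Type) [Group X] : Prop where
  perf : commutator X = ⊤
  oddZ : Odd (Nat.card (center X))
  nrm : ∀ N : Subgroup X, N.Normal → N ≤ center X ∨ N = ⊤
  qs : Function.Surjective (quotCenterAut X)
  k2 : ∀ β ∈ commutator (MulAut X), Is2 β → ∃ s, β = MulAut.conj s

section O

variable {X : Type} [Group X] [QS X]

theorem perfect : commutator X = ⊤ := QS.perf

theorem hom_eq_one {G : Type*} [Group G] (f : X →* G) (hf : ∀ a b, f a * f b = f b * f a) (s : X) :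
    f s = 1 := hom_eq_one' perfect f hf s

theorem hom_eq_of_central {G : Type*} [Group G] (f g : X →* G)
    (hc : ∀ a b, Commute (f a * (g a)⁻¹) (g b)) (hc' : ∀ a b, Commute (f a * (g a)⁻¹) (f b)) :
    f = g := hom_eq_of_central' perfect f g hc hc'

theorem mem_center_of_cm {g : X} (hg : ∀ a, cm g a ∈ center X) : g ∈ center X :=
  mem_center_of_cm' perfect hg

theorem normal_le_center_or (N : Subgroup X) [h : N.Normal] : N ≤ center X ∨ N = ⊤ := QS.nrm N h

theorem quot_surjective : Function.Surjective (quotCenterAut X) := QS.qs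

theorem odd_card_center : Odd (Nat.card (center X)) := QS.oddZ

variable [Finite X]

theorem odd_of_center {g : X} (h : g ∈ center X) : Odd (orderOf g) :=
  H64.SG.odd_orderOf_of_mem odd_card_center h

theorem eq_one_of_center {g : X} (h : g ∈ center X) (h2 : Is2 g) : g = 1 :=
  h2.eq_one (odd_of_center h)

/-- `2`-elements that differ by a central element are equal. -/
theorem eq_of_is2 {a b : X} (ha : Is2 a) (hb : Is2 b) (h : a * b⁻¹ ∈ center X) : a = b := by
  have hc : a * b⁻¹ = b⁻¹ * a := by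
    have := mem_center_iff.1 h b
    rw [inv_mul_cancel_right, ← mul_assoc, mul_inv_eq_iff_eq_mul] at this
    rw [mul_inv_eq_iff_eq_mul, mul_assoc, ← this, inv_mul_cancel_left]
  exact mul_inv_eq_one.1 (eq_one_of_center h (ha.mul hb.inv hc))

theorem conj_inj {a b : X} (ha : Is2 a) (hb : Is2 b) (h : MulAut.conj a = MulAut.conj b) :
    a = b := eq_of_is2 ha hb (conj_eq_one.1 (by rw [map_mul, map_inv, h, mul_inv_cancel]))

/-- A `2`-element with trivial outer part is inner. -/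
theorem exists_is2_conj {β : MulAut X} (h1 : ∃ s, β = MulAut.conj s) (h2 : Is2 β) :
    ∃ s, Is2 s ∧ β = MulAut.conj s := by
  obtain ⟨s, rfl⟩ := h1
  obtain ⟨a, b, e, ha, hb⟩ := H64.SG.exists_two_odd s
  have h3 : MulAut.conj (s ^ b) = 1 := by
    refine H64.SG.Is2.eq_one ?_ (hb.of_dvd_nat (orderOf_map_dvd _ _))
    rw [map_pow]; exact h2.pow b
  exact ⟨_, ha, by conv_lhs => rw [e, map_mul, h3, mul_one]⟩

end O

section Ind

variable {X : Type} [Group X] {G : Type u} [Group G] {e : X →* G} {g g' t : G}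
  {β β' : MulAut X} {A : Subgroup X}

variable [Finite X] [QS X] (hk : e.ker ≤ center X)

theorem range_perfect : e.range ≤ ⁅e.range, e.range⁆ := by
  rw [MonoidHom.range_eq_map, ← map_commutator]
  exact map_mono (perfect).ge

include hk

theorem e_mem_Cs {s : X} : e s ∈ Cs e.range ↔ s ∈ center X := by
  refine ⟨fun h => mem_center_of_cm fun a => hk ?_, fun h => mem_Cs_range.2 fun a => ?_⟩
  · simp only [MonoidHom.mem_ker, map_mul, map_inv]
    exact cm_eq_one.2 (h _ ⟨a, rfl⟩).symm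
  · rw [← map_mul, ← map_mul, mem_center_iff.1 h a]

theorem ind_unique (h : Ind e g β) (h' : Ind e g β') : β = β' := by
  have key : ∀ a, β a * (β' a)⁻¹ ∈ center X := fun a => hk (by
    rw [MonoidHom.mem_ker, map_mul, map_inv, ← h, ← h', mul_inv_cancel])
  exact MulEquiv.toMonoidHom_injective (hom_eq_of_central β.toMonoidHom β'.toMonoidHom
    (fun a b => (mem_center_iff.1 (key a) _).symm) fun a b => (mem_center_iff.1 (key a) _).symm)

theorem ind_eq_one_iff (h : Ind e g β) : β = 1 ↔ g ∈ Cs e.range :=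
  ⟨fun e1 => ind_one_iff.1 (e1 ▸ h), fun e1 => ind_unique hk h (ind_one_iff.2 e1)⟩

theorem exists_ind (hg : g ∈ Ns e.range) : ∃ β, Ind e g β := by
  obtain ⟨π, hπ⟩ : ∃ π : e.range →* X ⧸ center X,
      ∀ s, π (e.rangeRestrict s) = QuotientGroup.mk s :=
    ⟨e.rangeRestrict.liftOfSurjective e.rangeRestrict_surjective ⟨QuotientGroup.mk' _, by
      rwa [QuotientGroup.ker_mk', MonoidHom.ker_rangeRestrict]⟩, fun s =>
      MonoidHom.liftOfRightInverse_comp_apply _ _ _ _ _⟩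
  have hs : Function.Surjective π := fun a => by
    obtain ⟨s, rfl⟩ := QuotientGroup.mk_surjective a
    exact ⟨_, hπ s⟩
  have hz : π.ker = center e.range := by
    ext l
    obtain ⟨s, rfl⟩ := e.rangeRestrict_surjective l
    rw [MonoidHom.mem_ker, hπ, QuotientGroup.eq_one_iff, ← e_mem_Cs hk, mem_center_iff]
    exact ⟨fun h a => Subtype.ext (h a a.2), fun h a ha => congrArg Subtype.val (h ⟨a, ha⟩)⟩
  obtain ⟨β, hβ⟩ := quot_surjective (H64.SG.acOf π hs hz g hg)
  have key : ∀ a, g * e a * g⁻¹ * (e (β a))⁻¹ ∈ Cs e.range := fun a => by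
    have h1 := H64.SG.acOf_apply π hs hz hg (e.rangeRestrict a)
    rw [← hβ, hπ, quotCenterAut_mk, ← hπ, eq_comm, ← mul_inv_eq_one, ← map_inv, ← map_mul,
      ← MonoidHom.mem_ker, hz, mem_center_iff] at h1
    exact fun b hb => congrArg Subtype.val (h1 ⟨b, hb⟩)
  have := hom_eq_of_central (cje g e) (twe e β) (fun a b => (key a _ ⟨_, rfl⟩).symm)
    fun a b => (key a _ (H98.conj_mem_of_mem_normalizer hg ⟨b, rfl⟩)).symm
  exact ⟨β, fun s => DFunLike.congr_fun this s⟩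

/-- The action of `N(L)`. -/
noncomputable def indH : Ns e.range →* MulAut X :=
  MonoidHom.mk' (fun g => (exists_ind hk g.2).choose) fun a b =>
    ind_unique hk (exists_ind hk (a * b).2).choose_spec
      ((exists_ind hk a.2).choose_spec.mul (exists_ind hk b.2).choose_spec)

theorem ind_indH (g : Ns e.range) : Ind e g (indH hk g) := (exists_ind hk g.2).choose_spec

theorem indH_eq (h : Ind e g β) : indH hk ⟨g, h.mem_Ns⟩ = β := ind_unique hk (ind_indH hk _) h

theorem mem_ker_indH {g : Ns e.range} : indH hk g = 1 ↔ g.1 ∈ Cs e.range :=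
  ind_eq_one_iff hk (ind_indH hk g)

theorem ind_pow_eq_one (h : Ind e g β) {k : ℕ} (h1 : g ^ k = 1) : β ^ k = 1 :=
  ind_unique hk (h.pow k) (h1 ▸ ind_one)

theorem ind_is2 (h : Ind e g β) (h2 : Is2 g) : Is2 β := ⟨_, ind_pow_eq_one hk h h2.choose_spec⟩

theorem ind_sq (h : Ind e g β) (h2 : g * g = 1) : β * β = 1 := ind_unique hk (h.mul h) (h2 ▸ ind_one)

theorem ind_odd (h : Ind e g β) (h2 : Odd (orderOf g)) : Odd (orderOf β) :=
  H64.SG.odd_orderOf_of_pow h2 (ind_pow_eq_one hk h (pow_orderOf_eq_one g))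

theorem ind_comm_of_comm (h : Ind e g β) (h' : Ind e g' β') (c : g * g' = g' * g) :
    β * β' = β' * β := ind_unique hk (h.mul h') (c ▸ h'.mul h)

/-- A normal subgroup of `L` is central or `L`. -/
theorem normal_range {N : Subgroup G} (h2 : e.range ≤ Ns N) :
    N ⊓ e.range ≤ Cs e.range ∨ e.range ≤ N := by
  have : (N.comap e).Normal := ⟨fun a ha b => by
    simpa using H98.conj_mem_of_mem_normalizer (h2 ⟨b, rfl⟩) ha⟩
  rcases normal_le_center_or (N.comap e) with h | h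
  · left; rintro _ ⟨h1, s, rfl⟩; exact (e_mem_Cs hk).2 (h h1)
  · right; rintro _ ⟨s, rfl⟩; exact (h ▸ mem_top s : s ∈ N.comap e)

/-- An element whose commutators with `L` centralise `L` centralises `L`. -/
theorem mem_Cs_of_cm (hg : g ∈ Ns e.range) (h : ∀ s, cm g (e s) ∈ Cs e.range) : g ∈ Cs e.range := by
  have := hom_eq_of_central (cje g e) e (fun a b => (h a _ ⟨_, rfl⟩).symm)
    fun a b => (h a _ (H98.conj_mem_of_mem_normalizer hg ⟨b, rfl⟩)).symm
  exact ind_one_iff.1 fun s => DFunLike.congr_fun this s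


theorem odd_of_ker {s : X} (h : e s = 1) : Odd (orderOf s) := odd_of_center (hk h)

theorem odd_card_ker : Odd (Nat.card e.ker) := odd_card_center.of_dvd_nat (card_dvd_of_le hk)

theorem inj2 {a b : X} (ha : Is2 a) (hb : Is2 b) (h : e a = e b) : a = b :=
  eq_of_is2 ha hb (hk (by simp [MonoidHom.mem_ker, h]))

theorem eq_one2 {a : X} (ha : Is2 a) (h : e a = 1) : a = 1 := eq_one_of_center (hk h) ha

/-- `2`-elements of `e A` have preimages in `A` that are `2`-elements. -/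
theorem exists_is2 {s : X} (h : Is2 (e s)) :
    ∃ s' ∈ zpowers s, Is2 s' ∧ e s' = e s := by
  obtain ⟨i, j, h1, h2, h3⟩ := H64.SG.exists_two_odd s
  have h4 : e (s ^ j) = 1 := (map_pow e s j ▸ h.pow j).eq_one (h3.of_dvd_nat (orderOf_map_dvd _ _))
  exact ⟨s ^ i, pow_mem (mem_zpowers s) i, h2, by
    conv_rhs => rw [h1, map_mul, h4, mul_one]⟩

omit hk in
theorem exists_is2_range (hg : g ∈ e.range) (h : Is2 g) : ∃ s, Is2 s ∧ e s = g := by
  obtain ⟨s, rfl⟩ := hg
  obtain ⟨i, j, h1, h2, h3⟩ := H64.SG.exists_two_odd s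
  have h4 : e (s ^ j) = 1 := (map_pow e s j ▸ h.pow j).eq_one (h3.of_dvd_nat (orderOf_map_dvd _ _))
  exact ⟨s ^ i, h2, by conv_rhs => rw [h1, map_mul, h4, mul_one]⟩

theorem sq_of_e {s : X} (h2 : Is2 s) (h : e s * e s = 1) : s * s = 1 :=
  eq_one2 hk (h2.mul h2 rfl) (by rw [map_mul, h])

theorem exists_sq_range (hg : g ∈ e.range) (h : g * g = 1) : ∃ s, s * s = 1 ∧ e s = g := by
  obtain ⟨s, h1, rfl⟩ := exists_is2_range hg (H64.SG.is2_of_sq h)
  exact ⟨s, sq_of_e hk h1 h, rfl⟩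

theorem inv2_e {s : X} (h : Inv2 s) : Inv2 (e s) :=
  ⟨by rw [← map_mul, h.1, map_one], fun h' => h.2 (eq_one2 hk (H64.SG.is2_of_sq h.1) h')⟩

theorem ind_eq_iff (h : Ind e g β) {a b : X} (ha : Is2 a) (hb : Is2 b) :
    g * e a * g⁻¹ = e b ↔ β a = b :=
  ⟨fun h' => inj2 hk (ha.map β.toMonoidHom) hb ((h a).symm.trans h'), fun h' => h' ▸ h a⟩

theorem ind_comm_iff (h : Ind e g β) {a : X} (ha : Is2 a) : g * e a = e a * g ↔ β a = a := by
  rw [← ind_eq_iff hk h ha ha, mul_inv_eq_iff_eq_mul]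

theorem e_comm_iff {a b : X} (ha : Is2 a) : e b * e a = e a * e b ↔ b * a = a * b := by
  rw [ind_comm_iff hk (ind_conj b) ha, MulAut.conj_apply, mul_inv_eq_iff_eq_mul]

theorem mem_map2 (hA : IsPGroup 2 A) {s : X} (hs : Is2 s) : e s ∈ A.map e ↔ s ∈ A := by
  refine ⟨fun ⟨a, ha, h⟩ => ?_, mem_map_of_mem e⟩
  exact inj2 hk (H64.SG.isPGroup_iff_is2.1 hA a ha) hs h ▸ ha

theorem map_le_map2 (hA : IsPGroup 2 A) {B : Subgroup X} (hB : IsPGroup 2 B) :
    A.map e ≤ B.map e ↔ A ≤ B :=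
  ⟨fun h a ha => (mem_map2 hk hB (H64.SG.isPGroup_iff_is2.1 hA a ha)).1 (h ⟨a, ha, rfl⟩), map_mono⟩

theorem map_inf2 (hA : IsPGroup 2 A) {B : Subgroup X} (hB : IsPGroup 2 B) :
    (A ⊓ B).map e = A.map e ⊓ B.map e := by
  refine le_antisymm (map_inf_le _ _ _) ?_
  rintro _ ⟨⟨a, ha, rfl⟩, h⟩
  exact ⟨a, ⟨ha, (mem_map2 hk hB (H64.SG.isPGroup_iff_is2.1 hA a ha)).1 h⟩, rfl⟩

theorem card_map2 (hA : IsPGroup 2 A) : Nat.card (A.map e) = Nat.card A := by
  refine (Nat.card_congr (Equiv.ofBijective (e.subgroupMap A) ⟨fun a b h => Subtype.ext ?_,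
    e.subgroupMap_surjective A⟩)).symm
  exact inj2 hk (H64.SG.isPGroup_iff_is2.1 hA a a.2) (H64.SG.isPGroup_iff_is2.1 hA b b.2)
    (congrArg Subtype.val h)

theorem ind_st (h : Ind e g β) (hA : IsPGroup 2 A) (hg : g ∈ Ns (A.map e)) : β ∈ H67.SA.St A :=
  mem_St_of_finite fun a ha => (mem_map2 hk hA ((H64.SG.isPGroup_iff_is2.1 hA a ha).map
    β.toMonoidHom)).1 (h a ▸ H98.conj_mem_of_mem_normalizer hg ⟨a, ha, rfl⟩)

theorem ind_fix (h : Ind e g β) (hA : IsPGroup 2 A) (hg : g ∈ Cs (A.map e)) : ∀ a ∈ A, β a = a :=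
  fun a ha => (ind_comm_iff hk h (H64.SG.isPGroup_iff_is2.1 hA a ha)).1 (hg _ ⟨a, ha, rfl⟩).symm

/-- The `2`-subgroups of `L` come from `X`. -/
theorem exists_pre {P : Subgroup G} (hP : IsPGroup 2 P) : ∃ A : Subgroup X, IsPGroup 2 A ∧
    A.map e = P ⊓ e.range ∧ ∀ s, s ∈ A ↔ Is2 s ∧ e s ∈ P := by
  have h2 : ∀ a b : X, Is2 a → Is2 b → e a ∈ P → e b ∈ P → Is2 (a * b) := fun a b ha hb pa pb => by
    obtain ⟨S, hS⟩ := H98.exists_isSyl (p := 2) (P.comap e)
    have key : ∀ c, Is2 c → e c ∈ P → c ∈ S := fun c hc pc => by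
      obtain ⟨d, hd, r, hr, rfl⟩ := hS.exists_mul_res (x := c) pc
      have hr' : r ∈ center X := hk (by
        rw [← H64.SG.O2_eq] at hr
        refine (closure_le (K := e.ker)).2 (fun y hy => ?_) hr
        exact (H64.SG.isPGroup_iff_is2.1 hP _ hy.1).eq_one (hy.2.of_dvd_nat (orderOf_map_dvd _ _)))
      rw [eq_of_is2 hc (H64.SG.isPGroup_iff_is2.1 hS.2.1 d hd) (by
        rwa [mem_center_iff.1 hr' d, mul_inv_cancel_right])]
      exact hd
    exact H64.SG.isPGroup_iff_is2.1 hS.2.1 _ (mul_mem (key a ha pa) (key b hb pb))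
  let A : Subgroup X :=
    { carrier := {s | Is2 s ∧ e s ∈ P}
      one_mem' := ⟨H64.SG.is2_one, by simp⟩
      mul_mem' := fun a b => ⟨h2 _ _ a.1 b.1 a.2 b.2, by rw [map_mul]; exact mul_mem a.2 b.2⟩
      inv_mem' := fun a => ⟨a.1.inv, by rw [map_inv]; exact inv_mem a.2⟩ }
  refine ⟨A, H64.SG.isPGroup_iff_is2.2 fun _ h => h.1, le_antisymm ?_ ?_, fun _ => Iff.rfl⟩
  · rintro _ ⟨s, hs, rfl⟩; exact ⟨hs.2, s, rfl⟩
  · rintro a ⟨h1, h3⟩
    obtain ⟨s, h4, rfl⟩ := exists_is2_range h3 (H64.SG.isPGroup_iff_is2.1 hP _ h1)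
    exact ⟨s, ⟨h4, h1⟩, rfl⟩

omit hk in
theorem syl_map [Finite G] {P : Subgroup X} (h : Syl P A) : Syl (P.map e) (A.map e) :=
  H64.SG.syl_iff.2 ((H64.SG.syl_iff.1 h).map e)

theorem syl_of_map [Finite G] {P : Subgroup X} (hP : IsPGroup 2 P) (hA : P ≤ A)
    (h : Syl (P.map e) (A.map e)) : Syl P A := by
  obtain ⟨S, hS, h1⟩ := H98.exists_isSyl_le hP hA
  have h2 := (H64.SG.syl_iff.1 h).eq_of_le (hS.2.1.map e) (map_mono h1) (map_mono hS.1)
  rw [le_antisymm h1 ((map_le_map2 hk hS.2.1 hP).1 h2.le)]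
  exact H64.SG.syl_iff.2 hS

theorem odd_of_Cs (h1 : g ∈ e.range) (h2 : g ∈ Cs e.range) : Odd (orderOf g) := by
  obtain ⟨s, rfl⟩ := h1
  exact (odd_of_center ((e_mem_Cs hk).1 h2)).of_dvd_nat (orderOf_map_dvd _ _)

theorem eq_one_of_Cs (h1 : g ∈ e.range) (h2 : g ∈ Cs e.range) (h3 : Is2 g) : g = 1 :=
  h3.eq_one (odd_of_Cs hk h1 h2)


/-- A `2`-element acting as the `2`-element `e s`. -/
theorem ind_split {s : X} (h : Ind e g (MulAut.conj s)) (h2 : Is2 g) (hs : Is2 s) :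
    ∃ k ∈ Cs e.range, Is2 k ∧ g = k * e s ∧ g * k = k * g := by
  have h1 := ind_conj_iff.1 h
  have h3 := h1 _ ⟨s, rfl⟩
  have h4 : g * e s = e s * g := h.comm (by simp)
  refine ⟨_, h1, h2.mul (hs.map e).inv ?_, by simp, ?_⟩
  · exact (Commute.inv_right h4).eq
  · rw [mul_assoc, ← (Commute.inv_right h4).eq]

/-- `C_L(g)` for a `2`-element `g`. -/
theorem ind_map_fx [Finite G] (h : Ind e g β) (h2 : Is2 β) : (fx β).map e = e.range ⊓ Cz g := by
  refine le_antisymm ?_ ?_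
  · rintro _ ⟨s, hs, rfl⟩; exact ⟨⟨s, rfl⟩, mem_Cz.2 (h.comm hs)⟩
  rintro _ ⟨⟨s, rfl⟩, hs⟩
  have h3 : ∀ a, e a = e s → e (β a) = e s := fun a ha => by
    rw [← h, ha, mem_Cz.1 hs, mul_inv_cancel_right]
  let T : SubMulAction (zpowers β) X := ⟨{a | e a = e s}, fun c a ha => by
    obtain ⟨c, hc⟩ := c
    obtain ⟨k, rfl⟩ := (mem_powers_iff_mem_zpowers).2 hc
    change e ((β ^ k) a) = e s
    clear hc
    induction k with
    | zero => exact ha
    | succ k ih => rw [pow_succ', MulAut.mul_apply]; exact h3 _ ih⟩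
  have hc : Nat.card T = Nat.card e.ker := Nat.card_congr
    ⟨fun a => ⟨a.1 * s⁻¹, by have : e a.1 = e s := a.2; simp [MonoidHom.mem_ker, this]⟩,
      fun a => ⟨a.1 * s, by have : e a.1 = 1 := a.2; change e _ = e s; simp [this]⟩,
      fun a => by simp, fun a => by simp⟩
  obtain ⟨a, ha⟩ := h2.zpowers.nonempty_fixed_point_of_prime_not_dvd_card T
    (by rw [hc]; exact (odd_card_ker hk).not_two_dvd_nat)
  exact ⟨a.1, congrArg Subtype.val (ha ⟨β, mem_zpowers β⟩), a.2⟩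

end Ind

end H64.YE
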