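import Cfsg.Agent.H54.P6.H64_YEMod

namespace H64 end H64
open H64
namespace H85.P6 end H85.P6
open H85.P6
namespace H85.P6.H64 end H85.P6.H64
open H85.P6.H64
namespace H85.P6.H64.YE end H85.P6.H64.YE
open H85.P6.H64.YE
namespace H54.P6


/-! STD-SP (row S3129), endgame, piece 3: `JobUZ` for a model with trivial centre. -/

set_option autoImplicit false

namespace H64.YE

open H64.SG (Cz Ns)

universe u

def JobUY : Prop := All1.{u} fun _ _ _ _ _ _ _ Y _ _ _ ι τ _ Go U _ _ Φ _ =>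
  ∀ r Z Q c R, Subgroup.center Y = ⊥ → RD ι τ Go U r Z Q → Good τ U R → OB ι τ r c → c ∈ R →
    OU ι r c R → RF Φ r → Ns (R.map Φ) ≤ Ns Φ.range → Cz (Φ c) ≤ Ns Φ.range →
      Fx (Ns Φ.range) (Φ c)

end H64.YE
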