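import Cfsg.Agent.H54.P6.H64_YESpec
import Cfsg.Agent.H66.SFEV
import Cfsg.Agent.H9.UfK1

namespace H70 end H70
open H70
namespace H98 end H98
open H98
namespace H85.P6 end H85.P6
open H85.P6
namespace H85.P6.H70 end H85.P6.H70
open H85.P6.H70
namespace H85.P6.H70.YEEV end H85.P6.H70.YEEV
open H85.P6.H70.YEEV
namespace H85.P6.H98 end H85.P6.H98
open H85.P6.H98
namespace H54.P6


/-! STD-SP, endgame: `JobEV` (transfer and the Sylow `2`-subgroups); port of `H66/SFEV`. -/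

set_option autoImplicit false

namespace H70.YEEV

open H64.SG (Syl Cz Cs Ns cjs Is2 Inv2 UF mem_Cz is2_of_sq isPGroup_iff_is2 syl_iff)
open H67.SA (cm Gen mem_sup_zp)
open H59.SO (Ind)
open H66.SFE (two_lam le_ker)
open H64.YE H98 Subgroup

universe u

theorem ek {Y : Type} [Group Y] [Finite Y] [QS Y] {G : Type u} [Group G] [Finite G]
    {τ : MulAut Y} {U : Subgroup Y} {t : G} {Φ : Y →* G} (hk : Φ.ker ≤ center Y) (act : Ind Φ t τ)
    (syl : Syl U ⊤) (stU : τ ∈ H67.SA.St U) (tne : τ ∉ commutator (MulAut Y))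
    (tc : ∀ v, IsConj t (Φ v * t) → ∃ w, Φ v * t = Φ w * t * (Φ w)⁻¹)
    (finn : ∀ m y, Is2 m → Ind Φ m (MulAut.conj y) → m ∈ Φ.range)
    (uf : UF (Ns Φ.range) t) (gen : Gen t) : ∃ K₀, EK U t Φ K₀ := by
  have : Finite (MulAut Y) := Finite.of_injective _ DFunLike.coe_injective
  let lam := Abelianization.of.comp (indH hk)
  have ko : ∀ m : Ns Φ.range, lam m = 1 ↔ indH hk m ∈ commutator (MulAut Y) := fun m => by
    rw [← Abelianization.ker_of, MonoidHom.mem_ker]; rfl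
  have tt := uf.inv.1
  have tn : t ∈ Ns Φ.range := uf.mem
  have perf : Φ.range ≤ ⁅Φ.range, Φ.range⁆ := range_perfect
  have uG : U.map Φ ≤ Φ.range := map_le_range Φ U
  have twoU : IsPGroup 2 (U.map Φ) := syl.2.1.map Φ
  have t1 : t ∈ Ns (U.map Φ) := act.mem_Ns_map stU
  have sU : IsSyl 2 (U.map Φ) Φ.range := by
    rw [MonoidHom.range_eq_map]; exact syl_iff.1 (syl_map syl)
  have inn : ∀ m : Ns Φ.range, Is2 (m : G) → lam m = 1 → (m : G) ∈ Φ.range := fun m m2 k => by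
    obtain ⟨y, hy⟩ := QS.k2 _ ((ko m).1 k) (ind_is2 hk (ind_indH hk m) m2)
    exact finn m y m2 (hy ▸ ind_indH hk m)
  obtain ⟨P, hP, h0⟩ := exists_isSyl_le (H64.SG.isPGroup_sup_zpowers twoU t1 (is2_of_sq tt))
    (sup_le (uG.trans le_normalizer) (zpowers_le.2 tn))
  have tP : t ∈ P := h0 (mem_sup_right (mem_zpowers t))
  have p2 := isPGroup_iff_is2.1 hP.isPGroup
  have h2 : P ⊓ Φ.range = U.map Φ := sU.eq_of_le (hP.isPGroup.to_le inf_le_left)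
    (le_inf (le_sup_left.trans h0) uG) inf_le_right
  have l1 : ∀ m : Ns Φ.range, (m : G) ∈ Φ.range → lam m = 1 := fun m hm =>
    H64.SG.eq_one_of_perfect perf (lam.comp (inclusion le_normalizer)) (fun _ _ => mul_comm _ _)
      ⟨m, hm⟩
  have cjP : ∀ m : Ns Φ.range, Is2 (m : G) →
      ∃ g : Ns Φ.range, ((g * m * g⁻¹ : Ns Φ.range) : G) ∈ P := fun m m2 => by
    obtain ⟨g, g1, g2⟩ := hP.exists_cj_le m2.zpowers (zpowers_le.2 m.2)
    exact ⟨⟨g, g1⟩, g2 (conj_mem_cj (mem_zpowers _))⟩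
  have lc : ∀ g m : Ns Φ.range, lam (g * m * g⁻¹) = lam m := fun g m => by
    rw [map_mul, map_mul, map_inv, mul_inv_cancel_comm]
  have h3 : ∀ m : Ns Φ.range, Is2 (m : G) → lam m = 1 ∨ lam m = lam ⟨t, tn⟩ := fun m m2 => by
    refine two_lam uf gen lam (fun m m2 => ?_) m (m2.imp fun k hk => Subtype.ext hk)
    obtain ⟨g, hg⟩ := cjP m (m2.map (Ns Φ.range).subtype)
    rw [← lc g m]
    generalize g * m * g⁻¹ = x at hg
    have k1 : cm (x : G) t ∈ P := mul_mem (mul_mem (mul_mem hg tP) (inv_mem hg)) (inv_mem tP)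
    obtain ⟨v, k2⟩ : cm (x : G) t ∈ Φ.range := inn (x * ⟨t, tn⟩ * x⁻¹ * ⟨t, tn⟩⁻¹) (p2 _ k1)
      (by rw [map_mul, lc, map_inv, mul_inv_cancel])
    have k3 : Φ v * t = x * t * (x : G)⁻¹ := by rw [k2]; simp only [cm]; group
    obtain ⟨w, w2⟩ := tc v (isConj_iff.2 ⟨_, k3.symm⟩)
    refine ⟨(⟨Φ w, le_normalizer ⟨w, rfl⟩⟩ : Ns Φ.range)⁻¹ * x, ?_, by
      rw [map_mul, map_inv, l1 ⟨Φ w, _⟩ ⟨w, rfl⟩, inv_one, one_mul]⟩
    change t * ((Φ w)⁻¹ * x) = (Φ w)⁻¹ * x * t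
    calc _ = (Φ w)⁻¹ * (Φ w * t * (Φ w)⁻¹) * x := by group
      _ = _ := by rw [← w2, k3]; group
  have h4 : ∀ a ∈ P, a ∈ U.map Φ ∨ a * t ∈ U.map Φ := fun a ha =>
    (h3 ⟨a, hP.le ha⟩ (p2 a ha)).imp (fun k => h2 ▸ ⟨ha, inn ⟨a, hP.le ha⟩ (p2 a ha) k⟩) fun k =>
      h2 ▸ ⟨mul_mem ha tP, inn (⟨a, hP.le ha⟩ * ⟨t, tn⟩) (p2 _ (mul_mem ha tP)) (by
        rw [map_mul, k, ← map_mul, show (⟨t, tn⟩ * ⟨t, tn⟩ : Ns Φ.range) = 1 from Subtype.ext tt,
          map_one])⟩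
  obtain ⟨V, hV⟩ := H9.UF.jobK3 uf lam
  have v1 : V t ≠ 1 := by
    rw [hV t tn t (IsConj.refl t) tn rfl (Or.inl tt)]
    exact fun k => tne (indH_eq hk act ▸ (ko _).1 k)
  have v2 := le_ker perf V
  have vt : ∀ a, a * t ∈ U.map Φ → V a ≠ 1 := fun a k e => by
    have := v2 (uG k)
    rw [MonoidHom.mem_ker, map_mul, e, one_mul] at this
    exact v1 this
  have eP : U.map Φ ⊔ zpowers t = P := le_antisymm h0 fun a ha => (mem_sup_zp t1 tt).2 (h4 a ha)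
  have hS : IsSyl 2 P ⊤ := ⟨le_top, hP.isPGroup, fun Q hQ a _ => hP.eq_of_le hQ a
    ((H9.UF.jobK1 uf (IsConj.refl t) tn).2 Q hQ (a tP))⟩
  have eK : P ⊓ V.ker = U.map Φ := le_antisymm
    (fun a ha => (h4 a ha.1).resolve_right fun k => vt a k ha.2)
    (le_inf (le_sup_left.trans h0) (uG.trans v2))
  refine ⟨V.ker, inferInstance, v1, v2, fun g => (gen _ V g).imp id fun k => ?_, fun m m1 m2 m3 => ?_,
    syl_iff.2 (eP ▸ hS), syl_iff.2 (eK ▸ hS.inf_of_le_normalizer le_top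
      (by rw [normalizer_eq_top]; exact le_top))⟩
  · rw [MonoidHom.mem_ker, map_mul, k, ← map_mul, tt, map_one]
  · obtain ⟨g, hg⟩ := cjP ⟨m, m1⟩ m2
    change (g : G) * m * (g : G)⁻¹ ∈ P at hg
    rcases h4 _ hg with k | k
    · simpa [mul_assoc] using conj_mem_of_mem_normalizer' g.2 (uG k)
    · exact absurd (by rw [map_mul, map_mul, map_inv, mul_inv_cancel_comm]; exact m3) (vt _ k)

theorem jobEV : JobEV.{u} := by
  intro n F _ _ _ _ _ _ G _ _ e t _ _ _ Y _ _ _ ι τ Gd U Φ h f uf gen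
  exact ek h.ker h.act h.syl h.stU h.tne f.tc f.inn uf gen

end H70.YEEV
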