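import Cfsg.Agent.H54.P6.H98_SpG4
import Cfsg.Agent.H85.P6.H86_SPIKit

namespace H73 end H73
open H73
namespace H85.P6 end H85.P6
open H85.P6
namespace H85.P6.H73 end H85.P6.H73
open H85.P6.H73
namespace H85.P6.H73.SpNK end H85.P6.H73.SpNK
open H85.P6.H73.SpNK
namespace H54.P6


/-! STD-SP (row S3129), type I fusion, slot `NK`: the calculus of the translations. -/

set_option autoImplicit false
set_option linter.unusedSectionVars false

namespace H73.SpNK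

open H67.UA hiding Par
open H67.SP H86.SPG
open H86.SPI (hf_comm hf_self q0_smul EE_mul' ac_TT TT_conj)
open H98.SpG4 (E_ss)

universe u

variable {n : ℕ} {F : Type} [Field F] [StarRing F] [TrivialStar F] [_root_.CharP F 2] [Finite F]
  [Par n F] [Base n F] {G : Type u} [Group G] {e : XU n F →* G} {t : G} {δ : F}
  {r : Vn n F → F → F → G} {h : G}

theorem rc {y y' : Vn n F} {a a' b b' : F} (h1 : y = y') (h2 : a = a') (h3 : b = b') :
    r y a b = r y' a' b' := by rw [h1, h2, h3]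

theorem cj_mul (g x y : G) : g * (x * y) * g⁻¹ = (g * x * g⁻¹) * (g * y * g⁻¹) := by group

theorem cj_cj (g k x : G) : g * k * x * (g * k)⁻¹ = g * (k * x * k⁻¹) * g⁻¹ := by group

theorem two (a : F) : a + a = 0 := CharTwo.add_self_eq_zero a

theorem q00 : q0 (0 : Vn n F) = 0 := by
  have := q0_smul (n := n) (0 : F) 0
  rwa [zero_smul, sq, zero_mul, zero_mul] at this

theorem r0 (rm : RM e t δ r h) (a : F) : r 0 a 0 = e (Tc (a ^ 2) (ev 0)) := by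
  rw [rm.q 0 a hy_zero, q00, zero_add]

theorem one (rm : RM e t δ r h) : r 0 0 0 = 1 := by
  rw [r0 rm, sq, mul_zero]
  exact (congrArg e (EE_zero _)).trans (map_one e)

theorem rsq (rm : RM e t δ r h) {y : Vn n F} (hy : Hy y) (a b : F) : r y a b * r y a b = 1 := by
  rw [rm.mul _ _ _ _ _ _ hy hy, v_add_self, two, two, one rm]

theorem rinv (rm : RM e t δ r h) {y : Vn n F} (hy : Hy y) (a b : F) : (r y a b)⁻¹ = r y a b :=
  inv_eq_of_mul_eq_one_right (rsq rm hy a b)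

theorem qr (rm : RM e t δ r h) {y : Vn n F} (hy : Hy y) (c : F) :
    e (EE (ev 0) y c) = r y (rt (q0 y + c)) 0 := by
  rw [rm.q _ _ hy, rt_sq, ← add_assoc, two, zero_add]

theorem rr (rm : RM e t δ r h) {y y' : Vn n F} (hy : Hy y) (hy' : Hy y') (a b a' b' : F) :
    r y a b * r y' a' b' * (r y a b)⁻¹ = r y' a' b' := by
  rw [mul_inv_eq_iff_eq_mul, rm.mul _ _ _ _ _ _ hy hy', rm.mul _ _ _ _ _ _ hy' hy]
  exact rc (add_comm _ _) (add_comm _ _) (add_comm _ _)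

theorem one0 (fh : FH n F) (aw : AW e t) (rm : RM e t δ r h) {y : Vn n F} (hy : Hy y) {a : F}
    (k : r y a 0 = 1) : y = 0 ∧ a = 0 := by
  rw [← one rm, rm.q _ _ hy, rm.q _ _ hy_zero] at k
  obtain ⟨h1, h2⟩ := fh.inj _ _ _ _ hy hy_zero (aw.inj k)
  rw [h1] at h2
  exact ⟨h1, sq_inj (add_left_cancel h2)⟩

theorem rinj (fh : FH n F) (aw : AW e t) (rm : RM e t δ r h) {y y' : Vn n F} {a b a' b' : F}
    (hy : Hy y) (hy' : Hy y') (k : r y a b = r y' a' b') : y = y' ∧ a = a' ∧ b = b' := by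
  have hY := hy_add hy hy'
  have h1 : r (y + y') (a + a') (b + b') = 1 := by
    rw [← rm.mul _ _ _ _ _ _ hy hy', k, rsq rm hy']
  have h2 := rm.tc _ (a + a') (b + b') hY
  rw [h1, mul_one, mul_inv_cancel] at h2
  have h3 := rm.mul _ (a + a' + (b + b')) (b + b') _ (a + a') (b + b') hY hY
  rw [← h2, h1, mul_one, v_add_self, two] at h3
  have h4 := (one0 fh aw rm hy_zero h3.symm).2
  have h5 : b + b' = 0 := by linear_combination h4 - (a + a') * two0 F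
  rw [h5] at h1
  obtain ⟨h6, h7⟩ := one0 fh aw rm hY h1
  refine ⟨?_, by linear_combination h7 - a' * two0 F, by linear_combination h5 - b' * two0 F⟩
  rw [← add_zero y, ← v_add_self y', ← add_assoc, h6, zero_add]

theorem tinv (aw : AW e t) : t⁻¹ = t := inv_eq_of_mul_eq_one_right aw.tt

theorem rt' (aw : AW e t) (rm : RM e t δ r h) {y : Vn n F} (hy : Hy y) (a b : F) :
    r y a b * t * (r y a b)⁻¹ = t * r 0 b 0 := by
  have h1 := rm.tc y a b hy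
  have h2 := rm.mul y (a + b) b y a b hy hy
  rw [v_add_self, two, show a + b + a = b by linear_combination a * two0 F] at h2
  rw [← h2, ← h1, tinv aw, rinv rm hy]
  simp only [← mul_assoc, aw.tt, one_mul]

theorem tr0 (rm : RM e t δ r h) {y : Vn n F} (hy : Hy y) (a : F) :
    t * r y a 0 * t⁻¹ = r y a 0 := by rw [rm.tc y a 0 hy, add_zero]

variable {g g' : G} {z z' : Vn n F}

theorem zl (rm : RM e t δ r h) (o : Ov e t g z) (a : F) : g * r 0 a 0 * g⁻¹ = r 0 a 0 := by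
  rw [r0 rm, o.zl]

theorem tr (rm : RM e t δ r h) (o : Ov e t g z) : ∃ a, g * t * g⁻¹ = t * r z a 0 := by
  obtain ⟨c, hc⟩ := o.tr
  exact ⟨_, by rw [hc, qr rm o.hz]⟩

theorem oq (rm : RM e t δ r h) (o : Ov e t g z) {y : Vn n F} (hy : Hy y) :
    ∃ d, ∀ a, g * r y a 0 * g⁻¹ = r y (a + d) 0 := by
  obtain ⟨c, hc⟩ := o.q y (q0 y + 0 ^ 2) hy
  rw [← rm.q _ _ hy, qr rm hy] at hc
  refine ⟨rt (q0 y + c), fun a => ?_⟩
  have h1 : r y a 0 = r 0 a 0 * r y 0 0 := by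
    rw [rm.mul _ _ _ _ _ _ hy_zero hy]; simp
  rw [h1, cj_mul, hc, zl rm o, rm.mul _ _ _ _ _ _ hy_zero hy, zero_add, zero_add]

theorem mk (rm : RM e t δ r h) (hz : Hy z) (h1 : ∀ a, g * r 0 a 0 * g⁻¹ = r 0 a 0)
    (h2 : ∀ y a, Hy y → ∃ a', g * r y a 0 * g⁻¹ = r y a' 0) (h3 : ∃ a, g * t * g⁻¹ = t * r z a 0) :
    Ov e t g z := by
  refine ⟨hz, fun c => by rw [qr rm hy_zero, h1], fun y c hy => ?_, ?_⟩
  · obtain ⟨a, ha⟩ := h2 y (rt (q0 y + c)) hy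
    exact ⟨q0 y + a ^ 2, by rw [qr rm hy c, ha, rm.q _ _ hy]⟩
  · obtain ⟨a, ha⟩ := h3
    exact ⟨q0 z + a ^ 2, by rw [ha, rm.q _ _ hz]⟩

theorem omul (rm : RM e t δ r h) (o : Ov e t g z) (o' : Ov e t g' z') :
    Ov e t (g * g') (z + z') := by
  refine mk rm (hy_add o.hz o'.hz) (fun a => by rw [cj_cj, zl rm o', zl rm o]) (fun y a hy => ?_) ?_
  · obtain ⟨d, hd⟩ := oq rm o hy
    obtain ⟨d', hd'⟩ := oq rm o' hy
    exact ⟨_, by rw [cj_cj, hd', hd]⟩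
  · obtain ⟨a, ha⟩ := tr rm o
    obtain ⟨a', ha'⟩ := tr rm o'
    obtain ⟨d, hd⟩ := oq rm o o'.hz
    exact ⟨_, by rw [cj_cj, ha', cj_mul, ha, hd, mul_assoc, rm.mul _ _ _ _ _ _ o.hz o'.hz, add_zero]⟩

theorem cj_inv {g x y : G} (k : g * x * g⁻¹ = y) : g⁻¹ * y * g⁻¹⁻¹ = x := by rw [← k]; group

theorem oinv (rm : RM e t δ r h) (o : Ov e t g z) : Ov e t g⁻¹ z := by
  have h2 : ∀ y a, Hy y → ∃ a', g⁻¹ * r y a 0 * g⁻¹⁻¹ = r y a' 0 := fun y a hy => by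
    obtain ⟨d, hd⟩ := oq rm o hy
    exact ⟨a + d, cj_inv (by rw [hd, add_assoc, two, add_zero])⟩
  refine mk rm o.hz (fun a => cj_inv (zl rm o a)) h2 ?_
  obtain ⟨a, ha⟩ := tr rm o
  obtain ⟨a', ha'⟩ := h2 z a o.hz
  have h3 := cj_inv ha
  rw [cj_mul, ha'] at h3
  exact ⟨a', by rw [← rinv rm o.hz, eq_mul_inv_iff_mul_eq, h3]⟩

theorem ocj (fh : FH n F) (aw : AW e t) (o : Ov e t g z) {p : XU n F} (hp : p ∈ SS n F) :
    Ov e t (e p * g * (e p)⁻¹) (ac p z) := by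
  have c : ∀ x : G, e p * g * (e p)⁻¹ * x * (e p * g * (e p)⁻¹)⁻¹ =
      e p * (g * (e p⁻¹ * x * (e p⁻¹)⁻¹) * g⁻¹) * (e p)⁻¹ := fun x => by rw [map_inv]; group
  refine ⟨fh.ss p hp z o.hz, fun a => ?_, fun y a hy => ?_, ?_⟩
  · rw [c, E_ss (inv_mem hp) hy_zero, ac_zero, o.zl, E_ss hp hy_zero, ac_zero]
  · have h1 := fh.ss _ (inv_mem hp) y hy
    obtain ⟨a', ha⟩ := o.q _ a h1
    exact ⟨a', by rw [c, E_ss (inv_mem hp) hy, ha, E_ss hp h1, ac_ac_inv]⟩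
  · obtain ⟨a, ha⟩ := o.tr
    exact ⟨a, by
      rw [c, ← aw.cen, mul_inv_cancel_right, ha, cj_mul, E_ss hp o.hz, ← aw.cen,
        mul_inv_cancel_right]⟩

theorem ot (rm : RM e t δ r h) : Ov e t t 0 :=
  mk rm hy_zero (fun a => tr0 rm hy_zero a) (fun _ a hy => ⟨a, tr0 rm hy a⟩)
    ⟨0, by rw [one rm, mul_one, mul_inv_cancel_right]⟩

theorem or (aw : AW e t) (rm : RM e t δ r h) {y : Vn n F} (hy : Hy y) (a b : F) :
    Ov e t (r y a b) 0 :=
  mk rm hy_zero (fun _ => rr rm hy hy_zero _ _ _ _) (fun _ _ hy' => ⟨_, rr rm hy hy' _ _ _ _⟩)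
    ⟨b, rt' aw rm hy a b⟩

theorem uq (fh : FH n F) (aw : AW e t) (rm : RM e t δ r h) (o : Ov e t g z) (o' : Ov e t g z') :
    z = z' := by
  obtain ⟨a, ha⟩ := tr rm o
  obtain ⟨a', ha'⟩ := tr rm o'
  exact (rinj fh aw rm o.hz o'.hz (mul_left_cancel (ha.symm.trans ha'))).1

theorem zero (aw : AW e t) (rm : RM e t δ r h) (o : Ov e t g 0) :
    ∃ y a b, Hy y ∧ (g = r y a b ∨ g = t * r y a b) := by
  obtain ⟨b, hb⟩ := tr rm o
  have m := omul rm (or aw rm hy_zero 0 b) o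
  have mt : r 0 0 b * g * t * (r 0 0 b * g)⁻¹ = t := by
    rw [cj_cj, hb, cj_mul, rt' aw rm hy_zero, rr rm hy_zero hy_zero, mul_assoc, rsq rm hy_zero,
      mul_one]
  obtain ⟨p, hp, k⟩ := aw.p _ (mul_inv_eq_iff_eq_mul.1 mt) fun c => mul_inv_eq_iff_eq_mul.1 (m.zl c)
  have hq : p ∈ QQ n F := by
    refine FR.cE p hp fun u hu => ?_
    obtain ⟨x, c, hx, rfl⟩ := (FV.mem_QQ u).1 hu
    obtain ⟨c', hc⟩ := m.q x c hx
    have h1 : p * EE (ev 0) x c * p⁻¹ = EE (ev 0) x c' := by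
      refine aw.inj ?_
      rw [map_mul, map_mul, map_inv]
      rcases k with k | k
      · rw [← k, hc]
      · rw [k, cj_cj] at hc
        rw [← mul_inv_cancel_right (e (EE (ev 0) x c')) t, ← aw.cen] at hc
        simpa only [mul_left_inj, mul_right_inj] using hc
    refine (FV.mem_Zl _ _).2 ⟨c' + c + hf x x, ?_⟩
    show p * EE (ev 0) x c * p⁻¹ * (EE (ev 0) x c)⁻¹ = _
    rw [h1, EE_inv (H86.SPI.ok hx.1 c), star_trivial, EE_mul' hx.1 hx.1, v_add_self]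
  obtain ⟨y, c, hy, rfl⟩ := (FV.mem_QQ p).1 hq
  rw [qr rm hy] at k
  generalize rt (q0 y + c) = a at k
  have hg : g = r 0 0 b * (r 0 0 b * g) := by rw [← mul_assoc, rsq rm hy_zero, one_mul]
  rcases k with k | k
  · exact ⟨_, _, _, hy_add hy_zero hy, Or.inl (by rw [hg, k, rm.mul _ _ _ _ _ _ hy_zero hy])⟩
  · refine ⟨_, b + (0 + a), 0 + (b + 0), hy_add hy_zero (hy_add hy_zero hy), Or.inr ?_⟩
    rw [hg, k, ← rm.mul _ b 0 _ (0 + a) (b + 0) hy_zero (hy_add hy_zero hy),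
      ← rm.mul _ _ _ _ _ _ hy_zero hy, ← mul_assoc t, ← rt' aw rm hy_zero 0 b]
    group

/-- The action of an element over `0` on `R`. -/
theorem zact (aw : AW e t) (rm : RM e t δ r h) (o : Ov e t g 0) {x : Vn n F} (hx : Hy x) (a b : F) :
    g * r x a b * g⁻¹ = r x a b ∨ g * r x a b * g⁻¹ = r x (a + b) b := by
  obtain ⟨y, a', b', hy, rfl | rfl⟩ := zero aw rm o
  · exact Or.inl (rr rm hy hx _ _ _ _)
  · exact Or.inr (by rw [cj_cj, rr rm hy hx, rm.tc _ _ _ hx])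

theorem zfix (aw : AW e t) (rm : RM e t δ r h) (o : Ov e t g 0) {x : Vn n F} (hx : Hy x) (a : F) :
    g * r x a 0 * g⁻¹ = r x a 0 := by
  rcases zact aw rm o hx a 0 with k | k
  · exact k
  · rw [k, add_zero]

/-- Conjugation by a transvection that fixes `z`. -/
theorem oT (fh : FH n F) (aw : AW e t) (rm : RM e t δ r h) (o : Ov e t g z) {v : Vn n F}
    (hv : Hy v) (k : hf v z = 0) :
    Ov e t (g⁻¹ * (e (TT v) * g * (e (TT v))⁻¹)) 0 ∧ Ov e t (g * (e (TT v) * g⁻¹ * (e (TT v))⁻¹)) 0 := by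
  have h1 := omul rm (oinv rm o) (ocj fh aw o (fh.tt v hv))
  have h2 := omul rm o (ocj fh aw (oinv rm o) (fh.tt v hv))
  rw [ac_TT, hf_comm, k, zero_smul, add_zero, v_add_self] at h1 h2
  exact ⟨h1, h2⟩

theorem cjT (g T x : G) : T * (g * x * g⁻¹) * T⁻¹ =
    g * (g⁻¹ * (T * g * T⁻¹) * (T * x * T⁻¹) * (g⁻¹ * (T * g * T⁻¹))⁻¹) * g⁻¹ := by group

theorem perp (fh : FH n F) (aw : AW e t) (rm : RM e t δ r h) (o : Ov e t g z) {y : Vn n F}
    (hy : Hy y) (k : hf y z = 0) (a : F) : g * r y a 0 * g⁻¹ = r y a 0 := by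
  by_cases y0 : y = 0
  · rw [y0, zl rm o]
  obtain ⟨x, hx, x1⟩ := fh.sep1 y hy y0 1
  obtain ⟨d, hd⟩ := oq rm o hy
  obtain ⟨d', hd'⟩ := oq rm o hx
  have hT : ∀ c, e (TT y) * r x c 0 * (e (TT y))⁻¹ = r (x + y) (c + (1 + rt (q0 y))) 0 := fun c => by
    rw [rm.tt y x c 0 hy hx, x1]; simp
  have h1 := cjT g (e (TT y)) (r x 0 0)
  have h2 : ∀ c, r (x + y) c 0 = r x c 0 * r y 0 0 := fun c => by
    rw [rm.mul _ _ _ _ _ _ hx hy, add_zero, add_zero]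
  rw [hd', hT, hT, zfix aw rm (oT fh aw rm o hy k).1 (hy_add hx hy), h2 (0 + _), cj_mul, hd, hd',
    rm.mul _ _ _ _ _ _ hx hy] at h1
  have h3 := (rinj fh aw rm (hy_add hx hy) (hy_add hx hy) h1).2.1
  rw [hd, show d = 0 by linear_combination -h3, add_zero]

theorem gz0 (fh : FH n F) (aw : AW e t) (rm : RM e t δ r h) (o : Ov e t g z) (b : F) :
    ∃ y a, Hy y ∧ g * r 0 0 b * g⁻¹ = r y a b := by
  by_cases b0 : b = 0
  · exact ⟨0, 0, hy_zero, by rw [b0, one rm, mul_one, mul_inv_cancel]⟩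
  have m := omul rm (omul rm o (or aw rm hy_zero 0 b)) (oinv rm o)
  rw [add_zero, v_add_self] at m
  have mt : g * r 0 0 b * g⁻¹ * t * (g * r 0 0 b * g⁻¹)⁻¹ = t * r 0 b 0 := by
    obtain ⟨a, ha⟩ := tr rm (oinv rm o)
    have h1 := cj_inv ha
    rw [inv_inv] at h1
    rw [cj_cj, ha, cj_cj, cj_mul (r 0 0 b), rt' aw rm hy_zero, rr rm hy_zero o.hz, mul_assoc t,
      mul_inv_eq_iff_eq_mul.1 (rr rm hy_zero o.hz _ _ _ _), ← mul_assoc t, cj_mul, h1, zl rm o]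
  obtain ⟨y, a, b', hy, k | k⟩ := zero aw rm m
  · rw [k, rt' aw rm hy] at mt
    rw [← (rinj fh aw rm hy_zero hy_zero (mul_left_cancel mt)).2.1] at k ⊢
    exact ⟨y, a, hy, k⟩
  · rw [k, cj_cj, rt' aw rm hy, cj_mul, mul_inv_cancel_right, tr0 rm hy_zero] at mt
    have h1 : g * r 0 0 b * g⁻¹ * (g * r 0 0 b * g⁻¹) = 1 := by
      rw [← cj_mul, rsq rm hy_zero, mul_one, mul_inv_cancel]
    have h2 : ∀ x : G, t * x * (t * x) = t * x * t⁻¹ * x := fun x => by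
      rw [tinv aw]; simp only [mul_assoc]
    rw [k, h2, rm.tc _ _ _ hy, rm.mul _ _ _ _ _ _ hy hy, v_add_self, two] at h1
    have h3 := (one0 fh aw rm hy_zero h1).2
    have h4 := (rinj fh aw rm hy_zero hy_zero (mul_left_cancel mt)).2.1
    exact absurd (by linear_combination h3 - h4 - a * two0 F) b0

theorem gzp (fh : FH n F) (aw : AW e t) (rm : RM e t δ r h) (o : Ov e t g z) {b a : F}
    {y v : Vn n F} (hy : Hy y) (k : g * r 0 0 b * g⁻¹ = r y a b) (hv : Hy v) (kv : hf v z = 0) :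
    hf y v = 0 := by
  by_cases v0 : v = 0
  · rw [v0, hf_zero_right]
  have h1 := cjT g (e (TT v)) (r 0 0 b)
  rw [k, rm.tt v y a b hv hy, rm.tt v 0 0 b hv hy_zero, hf_zero_left, zero_add, zero_add] at h1
  generalize rt (q0 v) = s at h1
  have hw : Hy ((b * s + b) • v) := hy_smul _ hv
  have h2 : ∀ c, ∃ c', g * r ((b * s + b) • v) c b * g⁻¹ = r ((b * s + b) • v + y) c' b := fun c => by
    obtain ⟨d, hd⟩ := oq rm o hw
    have h3 : r ((b * s + b) • v) c b = r ((b * s + b) • v) c 0 * r 0 0 b := by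
      rw [rm.mul _ _ _ _ _ _ hw hy_zero]; simp
    exact ⟨_, by rw [h3, cj_mul, hd, k, rm.mul _ _ _ _ _ _ hw hy, zero_add]⟩
  have h4 : y + (hf y v + b * s + b) • v = (b * s + b) • v + y := by
    have hy' : Hy (y + (hf y v + b * s + b) • v) := hy_add hy (hy_smul _ hv)
    rcases zact aw rm (oT fh aw rm o hv kv).1 hw _ b with h5 | h5
    · rw [h5] at h1
      obtain ⟨c, hc⟩ := h2 _
      exact (rinj fh aw rm hy' (hy_add hw hy) (h1.trans hc)).1
    · rw [h5] at h1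
      obtain ⟨c, hc⟩ := h2 _
      exact (rinj fh aw rm hy' (hy_add hw hy) (h1.trans hc)).1
  rw [add_comm y, add_left_inj, add_assoc, add_smul, add_eq_right] at h4
  exact (smul_eq_zero.1 h4).resolve_right v0

theorem tv (fh : FH n F) (aw : AW e t) (rm : RM e t δ r h) (o : Ov e t g z) {v : Vn n F}
    (hv : Hy v) (kv : hf v z = 0) :
    ∃ y a, Hy y ∧ g * e (TT v) * g⁻¹ = r y a 0 * e (TT v) := by
  have m := (oT fh aw rm o hv kv).2
  have e1 : g * e (TT v) * g⁻¹ = g * (e (TT v) * g⁻¹ * (e (TT v))⁻¹) * e (TT v) := by group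
  generalize g * (e (TT v) * g⁻¹ * (e (TT v))⁻¹) = k at m e1
  obtain ⟨c, hc⟩ := tr rm o
  have h1 : k * t * k⁻¹ = t := by
    have h2 : g * e (TT v) * g⁻¹ * (g * t * g⁻¹) * (g * e (TT v) * g⁻¹)⁻¹ = g * t * g⁻¹ := by
      rw [← cj_mul, ← aw.cen, cj_mul, mul_inv_cancel_right]
    rw [e1, hc, cj_cj, cj_mul (e (TT v)), ← aw.cen, mul_inv_cancel_right, rm.tt v z c 0 hv o.hz,
      hf_comm z, kv] at h2
    simp only [zero_mul, add_zero, zero_smul] at h2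
    rw [cj_mul, zfix aw rm m o.hz] at h2
    exact mul_right_cancel h2
  obtain ⟨y, a, b, hy, rfl | rfl⟩ := zero aw rm m
  · rw [rt' aw rm hy, mul_eq_left] at h1
    rw [(one0 fh aw rm hy_zero h1).2] at e1
    exact ⟨y, a, hy, e1⟩
  · exfalso
    obtain ⟨w, a0, hw, kw⟩ := gz0 fh aw rm o 1
    have hwv := gzp fh aw rm o hw kw hv kv
    have h2 : g * e (TT v) * g⁻¹ * (g * r 0 0 1 * g⁻¹) * (g * e (TT v) * g⁻¹)⁻¹ =
        g * (e (TT v) * r 0 0 1 * (e (TT v))⁻¹) * g⁻¹ := by group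
    rw [e1, kw, cj_cj, rm.tt v w a0 1 hv hw, rm.tt v 0 0 1 hv hy_zero, hwv, hf_zero_left] at h2
    generalize rt (q0 v) = s at h2
    have hs : Hy ((0 + 1 * s + 1) • v) := hy_smul _ hv
    have h3 : ∀ c, r (0 + (0 + 1 * s + 1) • v) c 1 = r ((0 + 1 * s + 1) • v) c 0 * r 0 0 1 :=
      fun c => by rw [rm.mul _ _ _ _ _ _ hs hy_zero]; simp
    rw [cj_cj, rr rm hy (hy_add hw hs), rm.tc _ _ _ (hy_add hw hs), h3, cj_mul,
      perp fh aw rm o hs (by rw [hf_smul_left, kv, mul_zero]), kw, rm.mul _ _ _ _ _ _ hs hw] at h2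
    have h4 := (rinj fh aw rm (hy_add hw hs) (hy_add hs hw) h2).2.1
    exact one_ne_zero (α := F) (by linear_combination h4)

theorem jobNK : JobNK.{u} := by
  intro n F _ _ _ _ _ _ G _ _ e t b _ fh aw δ r h rm
  refine ⟨one rm, fun y a b hy => rsq rm hy a b, fun _ _ _ _ _ _ hy hy' => rinj fh aw rm hy hy',
    fun y c hy => qr rm hy c, fun y a b hy => rt' aw rm hy a b, fun _ _ _ _ => omul rm,
    fun _ _ => oinv rm, fun _ _ p hp o => ocj fh aw o hp, ot rm, fun y a b hy => or aw rm hy a b,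
    fun _ _ _ => uq fh aw rm, fun _ => zero aw rm, fun _ _ y a o hy k => perp fh aw rm o hy k a,
    fun _ _ _ o hy => oq rm o hy, fun g z b o z0 => ?_, fun _ _ _ o hv k => tv fh aw rm o hv k⟩
  obtain ⟨y, a, hy, k⟩ := gz0 fh aw rm o b
  obtain ⟨μ, rfl⟩ := fh.du1 y z hy o.hz z0 fun v hv kv => by
    rw [hf_comm, gzp fh aw rm o hy k hv kv]
  exact ⟨μ, a, k⟩

end H73.SpNK
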