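import Cfsg.Agent.H54.P6.H64_YESpec
import Cfsg.Agent.H32.SHKit2
import Cfsg.Agent.H51.C2C

namespace H14 end H14
open H14
namespace H83 end H83
open H83
namespace H98 end H98
open H98
namespace H85.P6 end H85.P6
open H85.P6
namespace H85.P6.H14 end H85.P6.H14
open H85.P6.H14
namespace H85.P6.H83 end H85.P6.H83
open H85.P6.H83
namespace H85.P6.H83.YEGC end H85.P6.H83.YEGC
open H85.P6.H83.YEGC
namespace H85.P6.H98 end H85.P6.H98
open H85.P6.H98
namespace H54.P6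


/-! STD-SP endgame, slot GC: Goldschmidt's theorem in `H / O(H)` modulo a central `2`-subgroup
(the first part follows `H32.SH.gold_z`). -/

set_option autoImplicit false

namespace H83.YEGC

open Cfsg Subgroup H98 H1.Gold H31.S2 H32.SH
open scoped commutatorElement

universe u

variable {G : Type u} [Group G] [Finite G] {L Q S V : Subgroup G}

/-- `L / V` is a component of `G / V` not centralized by `Q`. -/
structure GY (Q S L : Subgroup G) : Prop where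
  dec : ∀ q ∈ Q, ∃ b ∈ Q ⊓ L, ∃ c ∈ Q ⊓ cen L, b * c = q
  two : ∃ x ∈ Q, ∃ y ∈ Q, x ∉ cen L ∧ y ∉ cen L ∧ x⁻¹ * y ∉ cen L
  tr : ∀ a ∈ Q, ∀ a' ∈ Q, a ∉ cen L → a' ∉ cen L → ∃ g ∈ L ⊓ nor Q, g * a * g⁻¹ * a'⁻¹ ∈ cen L
  cj : ∀ g, H98.cj g L = L ∨ H98.cj g L ≤ cen L
  om : ∀ x ∈ S ⊓ L, x * x ∈ cen L → x ∈ Q
  nn : ¬ L ≤ nor (Q ⊓ L)

theorem gold_y (hO : oddCore G = ⊥) (hV : V ≤ center G) (hVQ : V ≤ Q) (hS : IsSyl 2 S ⊤)
    (sq : ∀ x ∈ Q, x * x ∈ V) (hsc : IsStronglyClosed Q S) : Q.Normal ∨ ∃ L, GY Q S L := by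
  have : Fact (Nat.Prime 2) := ⟨Nat.prime_two⟩
  have : V.Normal := ⟨fun z hz g => by rwa [mem_center_iff.1 (hV hz) g, mul_inv_cancel_right]⟩
  let f := QuotientGroup.mk' V
  have sf : Function.Surjective f := QuotientGroup.mk'_surjective _
  have one : ∀ {w : G}, f w = 1 ↔ w ∈ V := fun {w} => QuotientGroup.eq_one_iff w
  have cm : ∀ {K : Subgroup G}, V ≤ K → (K.map f).comap f = K := fun h =>
    comap_map_eq_self (by rwa [QuotientGroup.ker_mk'])
  have mm : ∀ {K : Subgroup G} {w : G}, V ≤ K → f w ∈ K.map f → w ∈ K := fun h hw => cm h ▸ hw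
  have hO' : oddCore (G ⧸ V) = ⊥ := by
    rw [← map_comap_eq_self_of_surjective sf (oddCore (G ⧸ V)), Subgroup.map_eq_bot_iff,
      QuotientGroup.ker_mk']
    simpa [hO] using le_sup_oddCore_of_map (hS.isPGroup.to_le (hVQ.trans hsc.1)) hV (map_comap_le _ _)
  have hS' : IsSyl 2 (S.map f) ⊤ := by
    have := hS.map f
    rwa [← MonoidHom.range_eq_map, MonoidHom.range_eq_top.2 sf] at this
  have sq' : ∀ a ∈ Q.map f, a * a = 1 := by
    rintro _ ⟨a, ha, rfl⟩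
    rw [← map_mul, one.2 (sq a ha)]
  have ea : IsElementaryAbelian 2 (Q.map f) := ⟨⟨⟨fun a b => Subtype.ext (by
    have := sq' _ (mul_mem a.2 b.2)
    calc (a : G ⧸ V) * b = ((a : G ⧸ V) * b)⁻¹ := (inv_eq_of_mul_eq_one_right this).symm
      _ = _ := by
        rw [mul_inv_rev, inv_eq_of_mul_eq_one_right (sq' _ a.2),
          inv_eq_of_mul_eq_one_right (sq' _ b.2)]; rfl)⟩⟩, fun a ha => by rw [pow_two, sq' a ha]⟩
  have ast : AStar (Q.map f) := as_of H51.asch _ _ (Nat.lt_succ_self _) hO' _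
    (sc_of_stronglyClosed hS'.toSylowTop ⟨map_mono hsc.1, by
      rintro _ ⟨a, ha, rfl⟩ q hq
      obtain ⟨g, rfl⟩ := sf q
      have e : f g * f a * (f g)⁻¹ = f (g * a * g⁻¹) := by simp
      rw [e] at hq ⊢
      exact mem_map_of_mem f (hsc.2 a ha g (mm (hVQ.trans hsc.1) hq))⟩) ea.1
  by_cases hex : ∃ K, IsComponent K ∧ ¬ Q.map f ≤ cen K
  swap
  · left
    have e : normalClosure (Q.map f : Set (G ⧸ V)) = Q.map f := le_antisymm (ast.gen.trans
      (sup_le le_rfl (sSup_le fun K hK => (hex ⟨K, hK⟩).elim))) le_normalClosure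
    have : (Q.map f).Normal := e ▸ normalClosure_normal
    exact cm hVQ ▸ this.comap f
  obtain ⟨K, hK, nc⟩ := hex
  have hVL : V ≤ K.comap f := fun w hw => by rw [mem_comap, one.2 hw]; exact one_mem _
  have mc := map_comap_eq_self_of_surjective sf K
  have perf : K.comap f ≤ ⁅K.comap f, K.comap f⁆ ⊔ V := by
    have := comap_map_eq f ⁅K.comap f, K.comap f⁆
    rw [map_commutator, mc, H14.comp_perfect hK, QuotientGroup.ker_mk'] at this
    exact this.le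
  have hc : ∀ {w}, f w ∈ cen K ↔ w ∈ cen (K.comap f) := fun {w} => ⟨fun h => by
    have h1 : ⁅(cen K).comap f, K.comap f⁆ ≤ V := commutator_le.2 fun x hx l hl => one.1 (by
      rw [map_commutatorElement, commutatorElement_eq_one_iff_mul_comm]; exact (hx _ hl).symm)
    have h2 : ⁅⁅(cen K).comap f, K.comap f⁆, K.comap f⁆ = ⊥ :=
      H14.commutator_eq_bot_iff_comm.2 fun a ha b _ => (mem_center_iff.1 (hV (h1 ha)) b).symm
    have h3 := commutator_commutator_eq_bot_of_rotate (by rwa [commutator_comm (K.comap f)]) h2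
    have h4 : K.comap f ≤ cen1 w := perf.trans (sup_le
      (fun a ha => mem_cen1.2 (H14.commutator_eq_bot_iff_comm.1 h3 a ha w h))
      fun a ha => mem_cen1.2 (mem_center_iff.1 (hV ha) w).symm)
    exact fun l hl => mem_cen1.1 (h4 hl), fun h k hk => by
      obtain ⟨l, rfl⟩ := sf k
      rw [← map_mul, h l hk, map_mul]⟩
  have dec : ∀ q ∈ Q, ∃ b ∈ Q ⊓ K.comap f, ∃ c ∈ Q ⊓ cen (K.comap f), b * c = q := fun q hq => by
    obtain ⟨_, ⟨⟨b, hb, rfl⟩, hb'⟩, c, hc', e⟩ := H14.mem_sup_of_commutator_eq_bot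
      (H14.commutator_eq_bot_iff_comm.2 fun a (ha : a ∈ Q.map f ⊓ K) b (hb : b ∈ Q.map f ⊓ cen K) =>
        hb.2 a ha.2)
      (ast.split K hK (mem_map_of_mem f hq))
    refine ⟨b, ⟨hb, hb'⟩, b⁻¹ * q, ⟨Q.mul_mem (Q.inv_mem hb) hq, hc.1 ?_⟩, by group⟩
    rw [map_mul, map_inv, ← e, inv_mul_cancel_left]
    exact hc'.2
  obtain ⟨⟨_, ⟨x, hx, rfl⟩, _, ⟨y, hy, rfl⟩, n1, n2, n3⟩, tr⟩ := H55.GL.comp_tr ast ea hK nc
    (haveI := hK.2.2
     H55.GL.tr_of_gt kb (H14.quasi_quotient_not_comm hK.2) (ast.gt K hK nc))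
  refine Or.inr ⟨K.comap f, dec, ⟨x, hx, y, hy, mt hc.2 n1, mt hc.2 n2, fun h => n3 ?_⟩,
    fun a ha a' ha' h1 h2 => ?_, fun g => ?_, fun x hx h => ?_, fun h => nc ?_⟩
  · rw [← map_inv, ← map_mul]; exact hc.2 h
  · obtain ⟨q, hq, e⟩ := tr _ (mem_map_of_mem f ha) _ (mem_map_of_mem f ha') (mt hc.1 h1) (mt hc.1 h2)
    obtain ⟨g, rfl⟩ := sf q
    refine ⟨g, ⟨hq.1, mem_normalizer_of_cj_le ?_⟩, hc.1 (by simpa using e)⟩
    rintro _ ⟨a, ha, rfl⟩
    exact mm hVQ (by simpa using conj_mem_of_mem_normalizer hq.2 (mem_map_of_mem f ha))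
  · rcases H14.comp_eq_or_commute (H14.comp_map_conj hK (f g)) hK with e | e
    · refine Or.inl (cj_eq_self (mem_normalizer_of_cj_le ?_))
      rintro _ ⟨a, ha, rfl⟩
      exact e.le ⟨f a, ha, by simp⟩
    · right
      rintro _ ⟨a, ha, rfl⟩
      exact hc.1 fun k hk => (H14.commutator_eq_bot_iff_comm.1 e _ ⟨f a, ha, by simp⟩ k hk).symm
  · refine mm hVQ ((ast.omega K hK nc _ (H92.GA.isSyl_inf_comp hK hS')
      (inf_le_inf_right K (map_mono hsc.1)) _ ⟨mem_map_of_mem f hx.1, hx.2⟩).2 ?_)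
    rw [pow_two, ← map_mul]; exact hc.2 h
  · have h1 : K ≤ nor (Q.map f ⊓ K) := fun k hk => by
      obtain ⟨l, rfl⟩ := sf k
      refine mem_normalizer_of_cj_le ?_
      rintro _ ⟨_, ⟨⟨a, ha, rfl⟩, h2⟩, rfl⟩
      have := conj_mem_of_mem_normalizer (h hk) (show a ∈ Q ⊓ K.comap f from ⟨ha, h2⟩)
      exact ⟨⟨_, this.1, by simp⟩, by simpa using this.2⟩
    have h2 : ⁅K, Q.map f ⊓ K⁆ = ⊥ := (H14.comp_le_or_of_normalizes hK h1).resolve_left fun e =>
      H14.comp_commutator_ne_bot hK (H14.commutator_eq_bot_iff_comm.2 fun a ha b hb =>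
        congrArg Subtype.val (ea.1.is_comm.comm ⟨a, (e ha).1⟩ ⟨b, (e hb).1⟩))
    exact (ast.split K hK).trans (sup_le
      (fun a ha k hk => H14.commutator_eq_bot_iff_comm.1 h2 k hk a ha) inf_le_right)

open H55.GL H14 H51.C2 in
theorem jobGC : H64.YE.JobGC.{u} := by
  intro G _ _ M H T V Q hT hVQ hQT hV sq hsc hM
  have : Fact (Nat.Prime 2) := ⟨Nat.prime_two⟩
  replace hT := H64.SG.syl_iff.1 hT
  have hQH : Q ≤ H := hQT.trans hT.le
  have q2 : IsPGroup 2 Q := hT.isPGroup.to_le hQT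
  have vz : ∀ v : H, (v : G) ∈ V → pq 2 H v ∈ center (Qt H) := fun v hv => mem_center_iff.2 fun y => by
    obtain ⟨x, rfl⟩ := pq_surjective y
    rw [← map_mul, ← map_mul]
    exact congrArg _ (Subtype.ext (hV x.2 v hv).symm)
  have hS : IsSyl 2 (bar H T) ⊤ := bar_self (H := H) ▸ isSyl_bar hT le_rfl
  have sc : SC (bar H Q) := (sc_of_stronglyClosed hT.subgroupOf_top.toSylowTop
    ⟨fun _ hx => hQT hx, fun x hx g hg => hsc x hx g g.2 hg⟩).map _ pq_surjective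
  have nq : ∀ y ∈ nor (bar H Q), ∃ d : H, (d : G) ∈ nor Q ∧ pq 2 H d = y := fun y hy => by
    rw [bar, nor, ← map_normalizer_of_coprime_ker _ pq_surjective coprime_ker_pq
      (isPGroup_subgroupOf q2 H), ← subgroupOf_normalizer_eq hQH] at hy
    exact hy
  have qn : ∀ d : H, (d : G) ∈ nor Q → pq 2 H d ∈ nor (bar H Q) := fun d hd =>
    bar_le_nor (H := H) le_rfl (pq_mem_bar hd)
  rcases gold_y (V := bar H V) (opp_Qt H) (bar_le_iff_forall.2 vz) (bar_mono hVQ) hS (by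
      rintro _ ⟨a, ha, rfl⟩
      rw [← map_mul]
      exact pq_mem_bar (sq _ ha)) ⟨bar_mono hQT, sc.2 _ hS.isPGroup (bar_mono hQT)⟩ with hn | ⟨L, h⟩
  · refine Or.inl ⟨opp 2 H, opp_le H, Nat.coprime_two_right.1 (coprime_card_opp H),
      normalizer_le_normalizer_opp H, fun x hx => ?_⟩
    have := le_of_bar_normal q2 hQH hn hx
    rw [sup_comm] at this
    obtain ⟨a, ha, o, ho, e⟩ :=
      (mem_sup_left_norm (inf_le_left.trans (self_le_normalizer_opp H))).1 this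
    exact ⟨a * o * a⁻¹, conj_mem_of_mem_normalizer (self_le_normalizer_opp H ha.1) ho, a, ha,
      by rw [e]; group⟩
  have mb : ∀ x : H, (x : G) ∈ Q → ((x : G) ∈ Q ⊓ pre H (cen L) ↔ pq 2 H x ∈ cen L) :=
    fun x hx => ⟨fun k => mem_pre.1 k.2, fun k => ⟨hx, mem_pre.2 k⟩⟩
  have np : ∀ (x : H) (K : Subgroup (Qt H)), pq 2 H x ∈ nor K → (x : G) ∈ nor (pre H K) :=
    fun x K k => mem_normalizer_of_cj_le (by
      rintro _ ⟨a, ha, rfl⟩
      lift a to H using pre_le K ha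
      exact (mem_pre (x := x * a * x⁻¹)).2
        (by simpa using conj_mem_of_mem_normalizer k (mem_pre.1 ha)))
  have c1 : ∀ x : H, (x : G) ∈ nor Q → cj (pq 2 H x) L = L →
      (x : G) ∈ nor (pre H L) ∧ (x : G) ∈ nor (Q ⊓ pre H (cen L)) := fun x hx e =>
    ⟨np x L (cj_eq_self_iff.1 e), inf_normalizer_le_normalizer_inf ⟨hx, np x _
      (cj_eq_self_iff.1 (by rw [cen, cj_centralizer, e]))⟩⟩
  refine Or.inr ⟨pre H L, Q ⊓ pre H (cen L), pre_le L, fun v hv => ?_, inf_le_left, fun x hx => ?_,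
    ?_, fun a ha a' ha' h1 h2 => ?_, fun x hx h1 => ?_, fun x hx => ?_, fun s hs s2 hc => ?_⟩
  · lift v to H using hQH (hVQ hv)
    exact (mb v (hVQ hv)).2 (center_le_centralizer _ (vz v hv))
  · lift x to H using hQH hx
    obtain ⟨_, ⟨⟨a, ha, rfl⟩, h1⟩, c, hc, e⟩ := h.dec _ (pq_mem_bar hx)
    refine ⟨a, ⟨ha, mem_pre.2 h1⟩, (a⁻¹ * x : H), (mb _ (Q.mul_mem (Q.inv_mem ha) hx)).2 ?_, by simp⟩
    rw [map_mul, map_inv, ← e, inv_mul_cancel_left]
    exact hc.2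
  · obtain ⟨_, ⟨x, hx, rfl⟩, _, ⟨y, hy, rfl⟩, n1, n2, n3⟩ := h.two
    refine ⟨x, hx, y, hy, mt (mb x hx).1 n1, mt (mb y hy).1 n2, fun k => n3 ?_⟩
    rw [← map_inv, ← map_mul]
    exact (mb (x⁻¹ * y) (Q.mul_mem (Q.inv_mem hx) hy)).1 k
  · lift a to H using hQH ha
    lift a' to H using hQH ha'
    obtain ⟨g, hg, e⟩ := h.tr _ (pq_mem_bar ha) _ (pq_mem_bar ha') (mt (mb a ha).2 h1)
      (mt (mb a' ha').2 h2)
    obtain ⟨d, hd, rfl⟩ := nq g hg.2
    refine ⟨d, mem_pre.2 hg.1, hd, fun b hb => ?_, (mb (d * a * d⁻¹ * a'⁻¹)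
      (Q.mul_mem (conj_mem_of_mem_normalizer hd ha) (Q.inv_mem ha'))).2 (by simpa using e)⟩
    lift b to H using hQH hb.1
    have := pq_inj q2 (a := d * b * d⁻¹) (b := b) (conj_mem_of_mem_normalizer hd hb.1) hb.1 (by
      rw [map_mul, map_mul, map_inv, (mb b hb.1).1 hb _ hg.1, mul_inv_cancel_right])
    exact (mul_inv_eq_iff_eq_mul.1 this).symm
  · lift x to H using hT.le hx.1
    refine (mem_bar_iff hT.isPGroup hQT hx.1).1 (h.om _ ⟨pq_mem_bar hx.1, mem_pre.1 hx.2⟩ ?_)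
    rw [← map_mul]
    exact center_le_centralizer _ (vz (x * x) h1)
  · lift x to H using hx.1
    refine (h.cj (pq 2 H x)).imp (c1 x hx.2) fun e => ?_
    rintro _ ⟨a, ha, rfl⟩
    lift a to H using hQH ha.1
    exact (mb (x * a * x⁻¹) (conj_mem_of_mem_normalizer hx.2 ha.1)).2
      (e (by simpa using conj_mem_cj (g := pq 2 H x) (mem_pre.1 ha.2)))
  · lift s to H using hs
    have s2' : s * s = 1 := Subtype.ext s2
    refine c1 s (hM ⟨hc (mem_centralizer_singleton_iff.2 rfl), s.2⟩)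
      ((h.cj (pq 2 H s)).resolve_right fun e => h.nn fun l hl => mem_normalizer_of_cj_le ?_)
    have l1 := e (conj_mem_cj (g := pq 2 H s) hl)
    have sb : pq 2 H s * pq 2 H s = 1 := by rw [← map_mul, s2', map_one]
    have l2 : l * (pq 2 H s * l * (pq 2 H s)⁻¹) ∈ centralizer
        (((zpowers s).map (pq 2 H) : Subgroup (Qt H)) : Set (Qt H)) := by
      rw [MonoidHom.map_zpowers, zpowers_eq_closure, centralizer_closure,
        mem_centralizer_singleton_iff]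
      calc _ = l * pq 2 H s * l := by group
        _ = pq 2 H s * (pq 2 H s * l * pq 2 H s * l) := by simp only [← mul_assoc, sb, one_mul]
        _ = _ := by rw [l1 l hl, inv_eq_of_mul_eq_one_right sb]
    rw [← map_centralizer_of_coprime_ker (p := 2) _ pq_surjective coprime_ker_pq
      (isPGroup_zpowers (k := 1) (by rw [pow_one, pow_two, s2']))] at l2
    obtain ⟨c, hc', e'⟩ := l2
    have l3 := qn c (hM ⟨hc (mem_centralizer_singleton_iff.2
      (congrArg Subtype.val (hc' s (mem_zpowers s))).symm), c.2⟩)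
    rintro _ ⟨y, hy, rfl⟩
    have := conj_mem_of_mem_normalizer l3 hy.1
    rw [e', mul_assoc l, ← l1 y hy.2, mul_inv_rev, ← mul_assoc l, ← mul_assoc,
      mul_inv_cancel_right] at this
    exact ⟨this, L.mul_mem (L.mul_mem hl hy.2) (L.inv_mem hl)⟩

end H83.YEGC
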