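import Cfsg.Agent.H54.P6.H64_YESpec

namespace H84 end H84
open H84
namespace H85.P6 end H85.P6
open H85.P6
namespace H85.P6.H84 end H85.P6.H84
open H85.P6.H84
namespace H85.P6.H84.YELC end H85.P6.H84.YELC
open H85.P6.H84.YELC
namespace H54.P6


/-! STD-SP endgame (row S3129), slot `YE-LC`: linear models over the field with two elements, the
centraliser of the root involution. -/

set_option autoImplicit false
set_option linter.unusedSectionVars false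

namespace H84.YELC

open H64.SG (Cz Cs Ns Is2 mem_Cz mem_Cs is2_of_sq)
open Subgroup H64.YE
open H67.SA (cm)
open H59.SO (AutOn)

universe u

variable {Y : Type} [Group Y] [Finite Y] [QS Y] {G : Type u} [Group G] {Φ : Y →* G}

theorem exists_aut (hk : Φ.ker ≤ center Y) {A : Subgroup Y} (hA : ∀ a ∈ A, a * a = 1) {g : G}
    (hg : g ∈ Ns (A.map Φ)) : ∃ θ : Y → Y, AutOn A θ ∧ ∀ a ∈ A, g * Φ a * g⁻¹ = Φ (θ a) := by
  classical
  have h0 : ∀ a ∈ A, ∀ b ∈ A, Φ a = Φ b → a = b := fun a ha b hb =>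
    inj2 hk (is2_of_sq (hA a ha)) (is2_of_sq (hA b hb))
  have h1 : ∀ a ∈ A, ∃ b ∈ A, g * Φ a * g⁻¹ = Φ b := fun a ha => by
    obtain ⟨b, hb, h⟩ := H98.conj_mem_of_mem_normalizer hg ⟨a, ha, rfl⟩
    exact ⟨b, hb, h.symm⟩
  choose! θ h2 h3 using h1
  refine ⟨θ, ⟨⟨h2, fun a ha b hb h => h0 a ha b hb ?_, fun b hb => ?_⟩, fun a ha b hb =>
    h0 _ (h2 _ (mul_mem ha hb)) _ (mul_mem (h2 a ha) (h2 b hb)) ?_⟩, h3⟩
  · simpa using (h3 a ha).trans ((congrArg Φ h).trans (h3 b hb).symm)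
  · obtain ⟨a, ha, h⟩ := H98.conj_mem_of_mem_normalizer (inv_mem hg) ⟨b, hb, rfl⟩
    exact ⟨a, ha, h0 _ (h2 a ha) b hb (by rw [← h3 a ha, h]; group)⟩
  · rw [← h3 _ (mul_mem ha hb), map_mul, map_mul, ← h3 a ha, ← h3 b hb, conj_mul]

theorem ns_sup {A B : Subgroup G} {g : G} (h : g ∈ Ns A) (h' : g ∈ Ns B) : g ∈ Ns (A ⊔ B) :=
  normalizer_inf_normalizer_le_normalizer_sup A B ⟨h, h'⟩

theorem jobLC : JobLC.{u} := by
  intro n F _ _ _ _ _ _ G _ _ e t Y _ _ _ ι τ Gd Go U Φ K₀ h r Z Q A A' rd ld ca ca' cq g ⟨g0, gr⟩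
  have hk := h.ker
  have tt : ∀ y, τ (τ y) = y := fun y => by rw [← MulAut.mul_apply, h.t2, MulAut.one_apply]
  have sw' : ∀ y, y ∈ A' → τ y ∈ A := fun y hy => (ld.sw _).2 (by rwa [tt])
  have el' : ∀ a ∈ A', a * a = 1 := fun a ha => τ.injective (by
    rw [map_mul, ld.el _ (sw' a ha), map_one])
  have aq : A ≤ Q := ld.sup ▸ le_sup_left
  have aq' : A' ≤ Q := ld.sup ▸ le_sup_right
  have qz : Q ≤ Cs Z := rd.qu.trans rd.uz
  have ce' : ∀ w ∈ A', (∀ a ∈ A, a * w = w * a) → w ∈ Z := fun w hw hc => by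
    have : τ w ∈ Z := ld.ce ⟨sw' w hw, fun x hx => τ.injective (by
      rw [map_mul, map_mul, tt]; exact hc _ (sw' x hx))⟩
    rw [← tt w]
    rcases ld.z _ this with k | k
    · rw [k, map_one]; exact one_mem _
    · rw [k, rd.tr]; exact rd.rz
  have ra : r ∈ A := (ld.inf.ge rd.rz).1
  have gz : g ∈ Cs (Z.map Φ) := by
    rintro _ ⟨z, hz, rfl⟩
    rcases ld.z z hz with k | k
    · rw [k, map_one, one_mul, mul_one]
    · rw [k]; exact mem_Cz.1 gr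
  obtain ⟨θ, hθ, eθ⟩ := exists_aut hk ld.el (ca ⟨g0, gz⟩)
  obtain ⟨p, pz, hp⟩ := ld.hl θ hθ (inj2 hk (is2_of_sq (ld.el _ (hθ.1.1 ra)))
    (is2_of_sq (ld.el _ ra)) (by rw [← eθ r ra, ← mem_Cz.1 gr, mul_inv_cancel_right]))
  have pz' : Φ p ∈ Cs (Z.map Φ) := by
    rintro _ ⟨z, hz, rfl⟩
    rw [← map_mul, ← map_mul, pz z hz]
  obtain ⟨k, hkk⟩ : ∃ k, k = (Φ p)⁻¹ * g := ⟨_, rfl⟩
  have k0 : k ∈ K₀ := hkk ▸ mul_mem (inv_mem (h.le ⟨p, rfl⟩)) g0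
  have kz : k ∈ Cs (Z.map Φ) := hkk ▸ mul_mem (inv_mem pz') gz
  have kA : ∀ a ∈ A, ∃ z ∈ Z, k * Φ a * k⁻¹ = Φ (z * a) := fun a ha => by
    refine ⟨_, hp a ha, ?_⟩
    have e1 := pz _ (hp a ha)
    have e2 : θ a * (p * a * p⁻¹)⁻¹ * a = p⁻¹ * θ a * p := by
      rw [eq_inv_mul_of_mul_eq e1.symm]; group
    rw [e2, hkk, map_mul, map_mul, map_inv, ← eθ a ha]; group
  have cz : ∀ a ∈ A, ∀ b ∈ A', cm a b ∈ Z := fun a ha b hb => by
    rw [cm, inv_eq_of_mul_eq_one_right (ld.el a ha), inv_eq_of_mul_eq_one_right (el' b hb),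
      mul_assoc (a * b)]
    exact rd.sq _ (mul_mem (aq ha) (aq' hb))
  have kA' : ∀ a ∈ A', ∃ z ∈ Z, k * Φ a * k⁻¹ = Φ (z * a) := fun b hb => by
    obtain ⟨c, hc, e1⟩ := H98.conj_mem_of_mem_normalizer (ca' ⟨k0, kz⟩) ⟨b, hb, rfl⟩
    have e2 : c⁻¹ * b ∈ Z := ce' _ (mul_mem (inv_mem hc) hb) fun a ha => by
      obtain ⟨z, hz, e3⟩ := kA a ha
      have e4 : cm (z * a) c = cm a c := by
        have := qz (mul_mem (mul_mem (aq ha) (aq' hc)) (inv_mem (aq ha))) z hz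
        calc z * a * c * (z * a)⁻¹ * c⁻¹ = z * (a * c * a⁻¹) * z⁻¹ * c⁻¹ := by group
          _ = a * c * a⁻¹ * c⁻¹ := by rw [this, mul_inv_cancel_right]
      have e5 : cm a b = cm a c := inj2 hk (is2_of_sq (rd.z2 _ (cz a ha b hb)))
        (is2_of_sq (rd.z2 _ (cz a ha c hc))) (by
          rw [← e4, ← mul_inv_cancel_right (Φ (cm a b)) k, kz _ ⟨_, cz a ha b hb, rfl⟩]
          simp only [cm, map_mul Φ _ _⁻¹, map_mul Φ a b, map_mul Φ (z * a) c, map_inv, ← e3, e1]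
          group)
      calc a * (c⁻¹ * b) = c⁻¹ * ((cm a c)⁻¹ * a) * b := by rw [cm]; group
        _ = c⁻¹ * b * a := by rw [← e5, cm]; group
    refine ⟨_, inv_mem e2, ?_⟩
    rw [← e1, qz (aq' hb) _ (inv_mem e2)]
    congr 1; group
  let S : Subgroup Y :=
    { carrier := {x | x ∈ Cs Z ∧ ∃ z ∈ Z, k * Φ x * k⁻¹ = Φ (z * x)}
      one_mem' := ⟨one_mem _, 1, one_mem _, by simp⟩
      mul_mem' := by
        rintro x y ⟨hx, z, hz, e1⟩ ⟨hy, z', hz', e2⟩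
        refine ⟨mul_mem hx hy, z * z', mul_mem hz hz', ?_⟩
        rw [map_mul, ← conj_mul, e1, e2, ← map_mul, mul_assoc z z', ← mul_assoc z', hx z' hz']
        congr 1; group
      inv_mem' := by
        rintro x ⟨hx, z, hz, e1⟩
        refine ⟨inv_mem hx, z⁻¹, inv_mem hz, ?_⟩
        rw [map_inv, ← conj_inv, e1, ← map_inv, hx z hz, mul_inv_rev] }
  have qs : Q ≤ S := ld.sup ▸ sup_le (fun a ha => ⟨qz (aq ha), kA a ha⟩)
    fun a ha => ⟨qz (aq' ha), kA' a ha⟩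
  have kq : k ∈ Ns (Q.map Φ) := by
    rw [← ld.sup, Subgroup.map_sup]
    exact ns_sup (ca ⟨k0, kz⟩) (ca' ⟨k0, kz⟩)
  obtain ⟨y, -, o, ho, e1⟩ := cq k k0 kz kq fun x hx => by
    obtain ⟨-, z, hz, e1⟩ := qs hx
    exact ⟨z, hz, by rw [cm, e1, map_mul, mul_inv_cancel_right]⟩
  have : g = Φ p * (Φ y * o) := by rw [← e1, hkk, mul_inv_cancel_left]
  rw [this]
  exact mul_mem (le_normalizer ⟨p, rfl⟩) (mul_mem (le_normalizer ⟨y, rfl⟩)
    (centralizer_le_normalizer _ ho))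

end H84.YELC
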