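import Cfsg.Agent.H54.P6.H15_SPGNFA
import Cfsg.Agent.H54.P6.H20_SPGDI
import Cfsg.Agent.H54.P6.H73_SpNK

namespace H86 end H86
open H86
namespace H85.P6 end H85.P6
open H85.P6
namespace H85.P6.H86 end H85.P6.H86
open H85.P6.H86
namespace H85.P6.H86.SPG end H85.P6.H86.SPG
open H85.P6.H86.SPG
namespace H54.P6


/-! STD-SP (row S3129), type I: the fusion pattern. -/

set_option autoImplicit false

namespace H86.SPG

open H67.SP
open H59.SO (B0)
open H86.SPI (RO)

universe u

/-- `t` is not conjugate to `t a₂` modulo the odd core. -/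
theorem nfa : AllA.{u} fun n F _ _ _ _ _ _ _ e t => CH e t → RO e t → ¬ Fu e t (xa n F) :=
  H15.SPG.nfa H73.SpNK.jobNK

/-- The involutions of `t L` that are conjugate to `t`. -/
theorem gdI : AllA.{u} fun n F _ _ _ _ _ _ _ e t => B0 e t → RO e t → ¬ Fu e t (xa n F) →
    ∀ u, Fu e t u → u = 1 ∨ Lr u := H20.SPGDI.gdI

end H86.SPG
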