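/- S3129, endgame, slot SO: strong closure of `Q` in the orthogonal models. -/
import Cfsg.Agent.H54.P6.H64_YESpec
import Cfsg.Agent.H98.Sylow

namespace H95 end H95
open H95
namespace H98 end H98
open H98
namespace H85.P6 end H85.P6
open H85.P6
namespace H85.P6.H95 end H85.P6.H95
open H85.P6.H95
namespace H85.P6.H95.YE end H85.P6.H95.YE
open H85.P6.H95.YE
namespace H85.P6.H98 end H85.P6.H98
open H85.P6.H98
namespace H54.P6


set_option autoImplicit false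
set_option linter.unusedSectionVars false

namespace H95.YE

open Subgroup H98 H64.YE
open H64.SG (Cs Ns Is2)
open H67.SA (cm)

universe u

section

variable {G : Type*} [Group G] [Finite G] {M P A H : Subgroup G} {a d g : G}

theorem two_le (ha : a ∈ M) (h : Fx M a) (hP : IsPGroup 2 P) (aP : a ∈ P) : P ≤ M := by
  by_contra k
  obtain ⟨p, p1, p2⟩ := SetLike.exists_of_lt (lt_inf_normalizer hP
    (inf_le_left.lt_of_ne fun e : P ⊓ M = P => k (e ▸ inf_le_right)))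
  exact p2 ⟨p1.1, h p (conj_mem_of_mem_normalizer p1.2 ⟨aP, ha⟩).2⟩

theorem zp2 (h : a * a = 1) : IsPGroup 2 (zpowers a) :=
  isPGroup_zpowers (k := 1) (by rw [pow_one, pow_two, h])

theorem fl (ha : a ∈ M) (fa : Fx M a) (fd : Fx M d) (a2 : a * a = 1) (d2 : d * d = 1)
    (aN : a ∈ Ns A ⊓ H) (dN : g⁻¹ * d * g ∈ Ns A ⊓ H) : ∃ n ∈ Ns A ⊓ H, g * n⁻¹ ∈ M := by
  obtain ⟨P, hP, p1⟩ := exists_isSyl_le (zp2 a2) (zpowers_le.2 aN)
  obtain ⟨n, n1, n2⟩ := hP.exists_cj_le (zp2 (a := g⁻¹ * d * g) (by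
    rw [show g⁻¹ * d * g * (g⁻¹ * d * g) = g⁻¹ * (d * d) * g by group, d2]; simp)) (zpowers_le.2 dN)
  have := two_le ha fa hP.isPGroup (p1 (mem_zpowers _)) (n2 (conj_mem_cj (mem_zpowers _)))
  have := inv_mem (fd (n * g⁻¹) (by simpa only [mul_inv_rev, inv_inv, mul_assoc] using this))
  exact ⟨n, n1, by simpa using this⟩

theorem cj_zp (a x : G) : H98.cj a (zpowers x) = zpowers (a * x * a⁻¹) := MonoidHom.map_zpowers _ _

theorem nrm {Z : Subgroup G} {x : G} (h : a ∈ Cs Z) (h1 : cm a x ∈ Z) : a ∈ Ns (zpowers x ⊔ Z) :=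
  mem_normalizer_of_cj_le (by
    rw [cj_sup, cj_zp, cj_eq_self (centralizer_le_normalizer _ h)]
    refine sup_le (zpowers_le.2 ?_) le_sup_right
    have := mul_mem (mem_sup_right h1) (mem_sup_left (T := Z) (mem_zpowers x))
    rwa [inv_mul_cancel_right] at this)

end

theorem jobSO : JobSO.{u} := by
  intro n F _ _ _ _ _ hn G _ _ e t Y _ _ _ ι τ Gd Go U Φ K₀ h r Z Q c R c2 O f x hx g _ g1 ⟨v, hv, e1⟩
  have hk := h.ker
  have U2 := h.syl.2.1
  have i2 : ∀ y ∈ U, Is2 y := fun y hy => isPGroup_iff_forall.1 U2 y hy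
  have xU := R.qu hx
  have e2 : v * v = x * x := inj2 hk (i2 _ (mul_mem hv hv)) (i2 _ (mul_mem xU xU)) (by
    rw [map_mul, e1, conj_mul, ← map_mul, mul_inv_eq_iff_eq_mul]
    exact (mem_centralizer_iff.1 g1 _ (mem_map_of_mem Φ (R.sq x hx))).symm)
  have key : ∀ y ∈ U, y * y ∈ Z → ∃ a ∈ Ns Φ.range, Fx (Ns Φ.range) a ∧ a * a = 1 ∧
      a ∈ Ns (zpowers (Φ y) ⊔ Z.map Φ) ⊓ Cs (Z.map Φ) := fun y hy y2 => by
    obtain ⟨w, w1, w2⟩ := O.fx y hy y2
    have w3 := map_le_centralizer_map Φ (zpowers_le.2 w1) (mem_map_of_mem Φ (mem_zpowers _))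
    refine ⟨_, le_normalizer ⟨_, rfl⟩, fun s hs => ?_, by
      rw [← map_mul, conj_mul, c2]; simp, nrm w3 ?_, w3⟩
    · refine (mul_mem_cancel_right (le_normalizer (MonoidHom.mem_range.2 ⟨w, rfl⟩))).1 (f (s * Φ w) ?_)
      simpa only [map_mul, map_inv, mul_inv_rev, mul_assoc] using hs
    · simpa only [map_mul, map_inv] using mem_map_of_mem Φ w2
  obtain ⟨a, a1, a2, a3, a4⟩ := key x xU (R.sq x hx)
  obtain ⟨d, -, d2, d3, d4⟩ := key v hv (e2 ▸ R.sq x hx)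
  obtain ⟨m, m1, m2⟩ := fl (g := g) a1 a2 d2 a3 d3 a4 (mem_inf.2 ⟨by
    have := (mem_inf.1 d4).1
    rw [e1, ← cj_eq_self (centralizer_le_normalizer _ g1), ← cj_zp, ← cj_sup, Ns,
      ← cj_normalizer] at this
    exact H98.mem_cj.1 this, mul_mem (mul_mem (inv_mem g1) d4.2) g1⟩)
  obtain ⟨β, hβ⟩ := exists_ind hk m2
  have := hβ.mem_Ns_map (R.stq β (ind_st hk hβ (U2.to_le (R.zq.trans R.qu))
    (centralizer_le_normalizer _ (mul_mem g1 (inv_mem m1.2)))))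
  have k1 := conj_mem_of_mem_normalizer this (sup_le (zpowers_le.2 (mem_map_of_mem Φ hx))
    (map_mono R.zq) (conj_mem_of_mem_normalizer m1.1 (mem_sup_left (mem_zpowers (Φ x)))))
  convert k1 using 1
  group

end H95.YE
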