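import Cfsg.Agent.H54.P6.H96_SPGRM

namespace H56 end H56
open H56
namespace H58 end H58
open H58
namespace H96 end H96
open H96
namespace H85.P6 end H85.P6
open H85.P6
namespace H85.P6.H56 end H85.P6.H56
open H85.P6.H56
namespace H85.P6.H58 end H85.P6.H58
open H85.P6.H58
namespace H85.P6.H96 end H85.P6.H96
open H85.P6.H96
namespace H85.P6.H96.SPG end H85.P6.H96.SPG
open H85.P6.H96.SPG
namespace H54.P6


/-! STD-SP (row S3129), type I fusion: claim A. -/

set_option autoImplicit false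
set_option linter.unusedSectionVars false

namespace H96.SPG

open H64.SG (Cz mem_Cz)
open H67.UA hiding Par
open H67.SP
open H59.SO (Om E gam Ind)
open H56 H58 QuadraticMap
open H86.SPI H96.SPM

universe u

variable {n : ℕ} {F : Type} [Field F] [StarRing F] [TrivialStar F] [CharP F 2] [Finite F] [Par n F]

theorem hf_inv {x : XU n F} (hx : x * x = 1) (a b : Vn n F) : hf (ac x a) b = hf a (ac x b) := by
  rw [hf_ac_left, inv_eq_of_mul_eq_one_right hx]

/-- `(ker N)^⊥ = im N` -/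
theorem im_or_ker {x : XU n F} (hx : x * x = 1) (d : Vn n F) :
    (∃ y, d = ac x y + y) ∨ ∃ y, ac x y = y ∧ hf d y = 1 := by
  let N : Vn n F →ₗ[F] Vn n F :=
    { toFun := fun y => ac x y + y
      map_add' := fun a b => by rw [ac_add]; abel
      map_smul' := fun c a => by rw [ac_smul, smul_add]; rfl }
  by_cases h : d ∈ LinearMap.range N
  · obtain ⟨y, hy⟩ := h
    exact Or.inl ⟨y, hy.symm⟩
  obtain ⟨φ, h1, h2⟩ := Submodule.exists_le_ker_of_notMem h
  have key : ∀ v, hf v (fun i => φ (ev i.rev)) = φ v := fun v => by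
    conv_rhs => rw [pi_eq_sum_univ v]
    simp only [hf, star_trivial, Fin.rev_rev, map_sum, map_smul, smul_eq_mul]
    refine Finset.sum_congr rfl fun i _ => ?_
    congr 2
    funext j
    rw [ev_apply]
    exact if_congr eq_comm rfl rfl
  refine Or.inr ⟨(φ d)⁻¹ • fun i => φ (ev i.rev), ?_, by
    rw [hf_smul_right', key, inv_mul_cancel₀ h1]⟩
  rw [ac_smul]
  congr 1
  refine eq_of_hf fun z => ?_
  have h3 : φ (ac x z + z) = 0 := h2 ⟨z, rfl⟩
  rw [hf_inv hx, hf_comm, key, hf_comm, key]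
  rw [map_add] at h3
  linear_combination h3 - φ z * two0 F

theorem lf_add {a b : Vn n F} (h : hf a b = 0) : lf (a + b) = lf a + lf b := by
  rw [lf, q0_add, h, add_zero, rt_add]; simp [lf]

theorem jobCA : H86.SPG.JobCA.{u} := by
  intro n F _ _ _ _ _ _ G _ _ e t _ _ hD hN ⟨δ, Φ, hΦ⟩ u d hu hd
  have hI := mi n F
  obtain ⟨ha, hsq, -⟩ := hD.alt u d hu hd
  have hud : ac u d = d := hD.uq u _ _ (fun v => by
    rw [← hf_inv hu, ← hd, ← ac_mul, hu, ac_one, hf_comm]) hd
  have hxd : ac (u * TT d) d = d := by rw [ac_mul, ac_TT, hf_self, zero_smul, add_zero, hud]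
  generalize u * TT d = x at ha hsq hxd ⊢
  obtain ⟨j, g, hj, hx⟩ := hN.nf x hsq ha
  have hw : (iO n F δ x).1 ((iO n F δ g).1 (w1 n F)) = (iO n F δ g).1 (w1 n F) := by
    rw [← O.mul_apply, ← Subgroup.coe_mul, ← map_mul, hx, inv_mul_cancel_right, map_mul,
      Subgroup.coe_mul, O.mul_apply, hI.ind δ (al n F j), mem_X0.1 (hN.nfa j hj).2.2]
  have hw2 : ((iO n F δ g).1 (w1 n F)).2.2 = 1 := snd_fix (hI.isIo δ g).1 _
  generalize (iO n F δ g).1 (w1 n F) = w at hw hw2
  obtain ⟨w', h1, h2, h3⟩ : ∃ w', (iO n F δ x).1 w' = w' ∧ w'.2.2 = 1 ∧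
      polar (QD n F δ) (lf d) w' = 0 := by
    rcases im_or_ker hsq d with ⟨y, rfl⟩ | ⟨y, hy, hy1⟩
    · refine ⟨w, hw, hw2, ?_⟩
      rw [lf_add (ha y), polar_add_left, ← hI.lf δ]
      conv_lhs => enter [1]; rw [← hw, O.map_polar]
      exact CharTwo.add_self_eq_zero _
    · refine ⟨w + polar (QD n F δ) (lf d) w • lf y, ?_, ?_, ?_⟩
      · rw [map_add, map_smul, hw, hI.lf, hy]
      · simpa [lf] using hw2
      · rw [polar_add_right, polar_smul_right, polar_lf δ d (lf y)]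
        simp [lf, hy1, CharTwo.add_self_eq_zero]
  have hc : t * e (TT d) = e (TT d) * t := by
    have := hΦ.act (iO n F δ (TT d))
    rw [hI.ti, hΦ.res] at this
    exact mul_inv_eq_iff_eq_mul.1 this
  have hq : Φ (E (QD n F δ) (lf d) w') * Φ (E (QD n F δ) (lf d) w') = 1 := by
    rw [← map_mul, H59.SO.E_sq, map_one]
  refine ⟨Φ (E (QD n F δ) (lf d) w'), ?_, ?_⟩
  · rw [← hΦ.res, ← map_mul, ← map_mul, H59.SO.comm_E (by rw [hI.lf, hxd]) h1]
  · have := hΦ.act (E (QD n F δ) (lf d) w')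
    rw [tO_E, h2, one_smul, H59.SO.E_add (QD_lf δ d) h3 (polar_w0' δ _), ← io_TT hI.toMI1, map_mul,
      hΦ.res, mul_inv_eq_iff_eq_mul] at this
    rw [inv_eq_of_mul_eq_one_right hq, mul_assoc, this, hc, ← mul_assoc, ← mul_assoc, hq, one_mul]

end H96.SPG
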