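import Cfsg.Agent.H54.P6.H86_SPGDef
import Cfsg.Agent.H85.P6.H96_SPMi

namespace H56 end H56
open H56
namespace H58 end H58
open H58
namespace H96 end H96
open H96
namespace H85.P6 end H85.P6
open H85.P6
namespace H85.P6.H56 end H85.P6.H56
open H85.P6.H56
namespace H85.P6.H58 end H85.P6.H58
open H85.P6.H58
namespace H85.P6.H96 end H85.P6.H96
open H85.P6.H96
namespace H85.P6.H96.SPG end H85.P6.H96.SPG
open H85.P6.H96.SPG
namespace H54.P6


/-! STD-SP (row S3129), type I fusion: the model relations `RM`. -/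

set_option autoImplicit false
set_option linter.unusedSectionVars false

namespace H96.SPG

open H67.UA hiding Par
open H67.SP
open H67.SA (la cm)
open H59.SO (Om E gam Ind)
open H56 H58 QuadraticMap
open H86.SPI H96.SPM

universe u

variable {n : ℕ} {F : Type} [Field F] [StarRing F] [TrivialStar F] [CharP F 2] [Finite F] [Par n F]

theorem lf_ev (i : Fin (n + 1)) : lf (ev i : Vn n F) = (ev i, 0, 0) := lf_of (q0_ev i)

theorem polar_u (δ : F) {y : Vn n F} (hy : Hy y) (a b : F) :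
    polar (QD n F δ) (lf (ev 0)) (y, a, b) = 0 := by
  rw [polar_lf, q0_ev, rt_zero, zero_mul, add_zero]; exact hf_symm hy.1

theorem tO_E (δ : F) (x : Vn n F) (w : WW n F) :
    tO n F δ (E (QD n F δ) (lf x) w) = E (QD n F δ) (lf x) (w + w.2.2 • w0 n F) := by
  rw [tO, H59.SO.gam_E_one (Gam.ofO_c _), Gam.ofO_apply, Gam.ofO_apply,
    refl_apply_of_orth (polar_w0 δ _), refl_apply, QD_w0, polar_w0, H59.SO.sub2 F, inv_one, one_mul]

theorem hf10 : hf (ev 1 : Vn n F) (ev 0) = 0 := by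
  have h5 := Par.five (n := n) (F := F)
  rw [hf_ev, if_neg]
  intro h
  have := congrArg Fin.val h
  rw [Fin.val_rev, Fin.val_zero, Fin.val_one', Nat.mod_eq_of_lt (by omega)] at this
  omega

theorem TT_id (x v : Vn n F) (h : hf v x = 0) :
    TT x * (TT v * EE x (rt (1 + q0 v) • v) (q0 v)) = TT (v + (1 + rt (q0 v)) • x) := by
  refine ac_ext fun y => ?_
  rw [ac_mul, ac_mul, ac_TT, ac_TT, ac_TT, ac_EE (ok (by rw [hf_smul_left, h, mul_zero]) _), rt_add,
    show rt (1 : F) = 1 from sq_inj (rt_sq 1 |>.trans (one_pow 2).symm)]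
  have hs := rt_sq (q0 v)
  generalize rt (q0 v) = s at hs ⊢
  funext i
  simp only [hf_add_left, hf_add_right, hf_smul_left, hf_smul_right', h, hf_symm h, hf_self,
    Pi.add_apply, Pi.smul_apply, smul_eq_mul, mul_zero, add_zero, ← hs]
  linear_combination (-(s * hf y x * x i)) * two0 F

theorem jobRM : H86.SPG.JobRM.{u} := by
  intro n F _ _ _ _ _ _ G _ _ e t _ _ ⟨δ, Φ, hΦ⟩
  have hI := mi n F
  have hT := mT n F
  have h1 : q0 (ev 1 : Vn n F) = 0 := q0_ev 1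
  have hsq : Φ (Ew δ (ev 1)) * Φ (Ew δ (ev 1)) = 1 := by rw [← map_mul, H59.SO.E_sq, map_one]
  have hinv : (Φ (Ew δ (ev 1)))⁻¹ = Φ (Ew δ (ev 1)) := inv_eq_of_mul_eq_one_right hsq
  have hc : ∀ g, t * e g = e g * t := fun g => by
    have := hΦ.act (iO n F δ g)
    rw [hI.ti, hΦ.res] at this
    exact mul_inv_eq_iff_eq_mul.1 this
  have ht : Φ (Ew δ (ev 1)) * t * (Φ (Ew δ (ev 1)))⁻¹ = t * e (TT (ev 1)) := by
    have := hΦ.act (Ew δ (ev 1))
    rw [hI.tw δ _ h1, map_mul, hΦ.res, mul_inv_eq_iff_eq_mul] at this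
    rw [hinv, mul_assoc, this, hc, ← mul_assoc, ← mul_assoc, hsq, one_mul]
  refine ⟨δ, fun y a b => Φ (E (QD n F δ) (lf (ev 0)) (y, a, b)), Φ (Ew δ (ev 1)),
    fun y a b y' a' b' hy hy' => ?_, fun y a hy => ?_, fun y a b hy => ?_,
    fun v y a b hv hy => ?_, hsq, fun y a b hy => ?_, ht, fun v hv hv1 => ?_⟩
  · rw [← map_mul, ← H59.SO.E_add (QD_lf δ _) (polar_u δ hy a b) (polar_u δ hy' a' b')]; rfl
  · rw [← hΦ.res, hI.ee δ _ _ _ hy.1]
  · rw [hΦ.act, tO_E]
    simp [w0]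
  · rw [← hΦ.res, ← map_inv, ← map_mul, ← map_mul, H59.SO.E_conj, hI.lf, ac_TT, hf_symm hv.1,
      zero_smul, add_zero, io_TT hI.toMI1, H59.SO.E_apply (QD_lf δ v) (polar_w0' δ _), polar_w0,
      polar_lf, QD_w0, hf_comm v y]
    congr 2
    refine Prod.ext ?_ (Prod.ext ?_ ?_)
    · funext i
      simp [lf, w0]; ring
    · simp [lf, w0]; ring
    · simp [lf, w0]
  · rw [← map_inv, ← map_mul, ← map_mul, H59.SO.E_conj, Ew_lf δ h1 hf10, q0_ev, rt_zero, zero_smul,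
      add_zero, H59.SO.E_apply (QD_lf δ _) (polar_lf_w1 δ h1), polar_w1, polar_lf, QD_w1, h1,
      rt_zero, hf_comm (ev 1) y, lf_ev 1]
    congr 2
    refine Prod.ext ?_ (Prod.ext ?_ ?_)
    · funext i
      simp [w1]; ring
    · simp [w1]
    · simp [w1]
  · have hp : ac (TT v) (ev 1) = (ev 1 : Vn n F) := by
      rw [ac_TT, hf_symm hv1, zero_smul, add_zero]
    have h2 : Φ (Ew δ (ev 1)) * e (TT v) * (Φ (Ew δ (ev 1)))⁻¹ = e (th (ev 1) (TT v)) := by
      rw [hinv, ← hΦ.res, ← hΦ.res, hT.io δ _ _ h1 hp, map_mul, map_mul]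
    rw [← TT_id (ev 1) v hv1, ← hT.tt _ _ h1 hv1, map_mul, ← mul_assoc t, ← ht, ← h2]
    group

end H96.SPG
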