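import Cfsg.Agent.H54.P6.H64_YESpec

namespace H98 end H98
open H98
namespace H85.P6 end H85.P6
open H85.P6
namespace H85.P6.H98 end H85.P6.H98
open H85.P6.H98
namespace H85.P6.H98.YeEA end H85.P6.H98.YeEA
open H85.P6.H98.YeEA
namespace H54.P6


/-! STD-SP endgame, slot EA: the facts on the model, lifted to `G₁`. -/

set_option autoImplicit false
set_option linter.unusedSectionVars false

namespace H98.YeEA

open H64.SG (Cz Cs Ns Is2 odd_orderOf_of_mem)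
open H67.SA (cm IG le_IG IG_le mem_IG)
open H64.YE H67.SP H67.UA Subgroup
open H59.SO (Ind)

universe u

theorem cj_t {Y : Type} [Group Y] {G : Type u} [Group G] {Φ : Y →* G} {t : G} {τ : MulAut Y}
    (h : Ind Φ t τ) (g y : Y) : Φ (g * y * (τ g)⁻¹) * t = Φ g * (Φ y * t) * (Φ g)⁻¹ := by
  rw [map_mul, map_mul, map_inv, ← h]; group

theorem jobEA : JobEA.{u} := by
  intro n F _ _ _ _ _ _ G _ _ e t _ _ _ Y _ _ _ ι τ Gd U Φ h
  have hk := h.ker
  have t2 := h.inv.1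
  have le : e.range ≤ Φ.range := by rintro _ ⟨u, rfl⟩; exact ⟨_, h.res u⟩
  have odd : Odd (Nat.card (Cs Φ.range)) := h.toCE.odd_of (centralizer_le le)
    (normalizer_le_normalizer_centralizer _ h.act.mem_Ns) fun r => h.tne (by
      rw [(ind_eq_one_iff hk h.act).2 r]; exact one_mem _)
  have c1 : ∀ g u, ι u = g * (τ g)⁻¹ → t * e u = Φ g * t * (Φ g)⁻¹ := fun g u r => by
    have := cj_t h.act g 1
    rwa [mul_one, map_one, one_mul, ← r, h.res, ← h.comm] at this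
  have tx : ∀ u, u * u = 1 → Gd u → ∃ w, t * e u = Φ w * t * (Φ w)⁻¹ := fun u h1 h2 =>
    let ⟨g, hg⟩ := h.gdc u h1 h2
    ⟨g, c1 g u hg⟩
  have tx' : ∀ u, u * u = 1 → IsConj t (t * e u) → ∃ w, t * e u = Φ w * t * (Φ w)⁻¹ :=
    fun u h1 h2 => (h.gd u h2).elim (fun r => ⟨1, by simp [r]⟩) (tx u h1)
  refine ⟨odd, ?_, tx, fun v r => ?_, fun m y h1 h2 => ?_⟩
  · refine le_antisymm (IG_le h.cz le fun w hw => ?_) ?_ ▸ h.toB1.le_Ns_IG
    · obtain ⟨u, h1, h2⟩ := h.toB1.exists_sq hw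
      rw [← h.comm] at h2
      obtain ⟨g, h3⟩ := tx' u h1 (isConj_iff.2 ⟨w, h2⟩)
      exact ⟨_, ⟨g, rfl⟩, h3.symm.trans h2.symm⟩
    obtain ⟨a, u, a1, a2⟩ := h.gen
    have b6 : cm (Φ a) t = e u := by
      rw [cm, ← c1 a u a1.symm, h.comm, mul_inv_cancel_right]
    rw [MonoidHom.range_eq_map, ← a2, Subgroup.map_sup]
    refine sup_le ?_ ?_
    · rintro _ ⟨_, ⟨x, rfl⟩, rfl⟩
      exact le_IG ⟨x, (h.res x).symm⟩
    · rintro _ ⟨_, ⟨_, ⟨x, rfl⟩, rfl⟩, rfl⟩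
      have := mem_IG (t := t) (L := e.range) ⟨_, b6.symm⟩ ⟨x, rfl⟩
      simpa [h.res] using this
  · have v2 := (H9.UF.inv2_conj h.inv r).1
    have z1 : Φ (v * τ v) = 1 := by
      rw [map_mul, ← h.act, h.inv_eq, ← v2]; group
    have zc : v * τ v ∈ center Y := hk z1
    have tt : τ (τ v) = v := by rw [← MulAut.mul_apply, h.t2, MulAut.one_apply]
    have tz : τ (v * τ v) = v * τ v := by
      rw [map_mul, tt]
      exact mul_left_cancel (a := v) (by rw [mem_center_iff.1 zc v, mul_assoc])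
    obtain ⟨k, hk'⟩ := odd_of_center zc
    have zk := mem_center_iff.1 (pow_mem zc k)
    obtain ⟨g, u, u2, e1⟩ := h.cl (v * (v * τ v) ^ k) (by
      rw [map_mul, map_pow, tz, mul_assoc, ← mul_assoc _ (τ v), ← zk, mul_assoc, ← mul_assoc v,
        ← pow_add, ← pow_succ', ← two_mul, ← hk', pow_orderOf_eq_one])
    have e2 : Φ v * t = Φ g * (t * e u) * (Φ g)⁻¹ := by
      rw [h.comm, ← h.res, ← cj_t h.act, ← e1, map_mul, map_pow, z1, one_pow, mul_one]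
    obtain ⟨w, hw⟩ := tx' u u2 (r.trans (isConj_iff.2 ⟨_, e2.symm⟩).symm)
    exact ⟨g * w, by rw [e2, hw, map_mul]; group⟩
  · obtain ⟨s, s2, e1⟩ := exists_is2_conj ⟨y, rfl⟩ (ind_is2 hk h2 h1)
    obtain ⟨k, k1, k2, rfl, -⟩ := ind_split hk (e1 ▸ h2) h1 s2
    rw [k2.eq_one (odd_orderOf_of_mem odd k1), one_mul]
    exact ⟨s, rfl⟩

end H98.YeEA
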