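/- STD-SP (row S3129), endgame, slot UF (blueprints/STDSP_E.md); port of `H92/SfUF`. -/
import Cfsg.Agent.H54.P6.H64_YESpec
import Cfsg.Agent.H92.SfUF

namespace H99 end H99
open H99
namespace H85.P6 end H85.P6
open H85.P6
namespace H85.P6.H99 end H85.P6.H99
open H85.P6.H99
namespace H85.P6.H99.YEUF end H85.P6.H99.YEUF
open H85.P6.H99.YEUF
namespace H54.P6


set_option autoImplicit false
set_option linter.unusedSectionVars false

namespace H99.YEUF

open H64.SG (O2 Syl Cz Cs Ns cjs Is2 Inv2 UF IsO2 fx)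
open Subgroup H67.UA H67.SP H64.YE
open H59.SO (Ind CE B0 cje)
open H64.SF (Outer)
open H92.SfU (dih exists_odd map_O2)

universe u

variable {n : ℕ} {F : Type} [Field F] [StarRing F] [TrivialStar F] [CharP F 2] [Finite F]
  [Base n F] [FC n F] [FO n F]

/-- Lang's theorem for the outer involutions. -/
theorem lang (χ : MulAut (XU n F)) (h2 : χ * χ = 1) (ho : ∀ g, χ ≠ MulAut.conj g) (z : XU n F)
    (hz : z * χ z = 1) : ∃ l, z = l * (χ l)⁻¹ := by
  have cj : ∀ (α : MulAut (XU n F)) g, α * MulAut.conj g = MulAut.conj (α g) * α := fun α g =>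
    MulEquiv.ext fun x => by simp
  obtain ⟨o, ho'⟩ := FA.out (n := n) (F := F)
  have f1 : fs n F 1 = 1 := by
    have := FA.fs_mul (n := n) (F := F) 1 1
    rw [one_mul] at this
    exact left_eq_mul.1 this
  have oc : ∀ g, o (MulAut.conj g) = 1 := fun g => by rw [← ho' g 1, f1, mul_one]
  have of : ∀ σ, o (fs n F σ) = σ := fun σ => by simpa using ho' 1 σ
  obtain ⟨g, σ, -, -, e1⟩ := FO.std χ h2 ho
  obtain ⟨g', σ', -, -, e2⟩ := FO.std (MulAut.conj z * χ) (by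
    rw [mul_assoc, ← mul_assoc χ, cj, mul_assoc, h2, mul_one, ← map_mul, hz, map_one])
    fun k e => ho (z⁻¹ * k) (by rw [map_mul, ← e, map_inv, inv_mul_cancel_left])
  have e3 : σ' = σ := by
    have a := congrArg o e1
    have b := congrArg o e2
    simp only [map_mul, map_inv, oc, of, one_mul, inv_one, mul_one] at a b
    rw [← a, b]
  refine ⟨g' * g⁻¹, FA.ns.conj_inj (mul_right_cancel (b := χ) ?_)⟩
  rw [map_mul (MulAut.conj (G := XU n F)), ← map_inv χ, mul_assoc, ← cj, e2, e3, e1, map_mul, map_inv,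
    map_inv, map_mul, map_inv]
  group

variable {G : Type u} [Group G] [Finite G] {e : XU n F →* G} {t s : G}

/-- Two commuting conjugates. -/
theorem key (h : B0 e t) {Gd : XU n F → Prop} (nr : ∀ u, ¬ IsConj t (e u))
    (gd : ∀ u, IsConj t (t * e u) → u = 1 ∨ Gd u) (go : ∀ u, Inv2 u → Gd u → u ∈ O2 (Cz u))
    (hc : IsConj t s) (cm : t * s = s * t)
    {ψ : MulAut (XU n F)} (i : Ind e s ψ) (ho : Outer ψ) {z : XU n F} (hz : z ∈ O2 (fx ψ))
    (z2 : Inv2 z) (ng : ¬ Gd z) : s = t := by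
  obtain ⟨g, rfl⟩ := _root_.isConj_iff.1 hc
  have h' : B0 (cje g e) (g * t * g⁻¹) := h.cje g
  have tt := h.inv.1
  have m1 : e z ∈ O2 (Cz (g * t * g⁻¹)) :=
    map_O2 e h.inj (by rw [i.map_fx h.inj]; exact inf_le_right) hz
  have zz : e z * e z = 1 := by rw [← map_mul, z2.1, map_one]
  obtain ⟨z', hz'⟩ := (ab h').ol _ m1 (H64.SG.is2_of_sq zz)
  have tm : t ∈ Cz (g * t * g⁻¹) := H64.SG.mem_Cz.2 cm.symm
  obtain ⟨χ, hχ⟩ := H59.SO.exists_ind h'.inj (h'.cz tm)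
  by_cases hi : ∃ u, χ = MulAut.conj u
  · obtain ⟨u, rfl⟩ := hi
    obtain ⟨uu, e1 | e1⟩ := h'.inner FA.ns cm.symm tt hχ
    · exact absurd (_root_.isConj_iff.2 ⟨g⁻¹, by rw [e1, H59.SO.cje_apply]; group⟩) (nr u)
    by_cases u1 : u = 1
    · rw [u1, map_one, mul_one] at e1
      exact e1.symm
    have gu := (gd u (_root_.isConj_iff.2 ⟨g⁻¹, by
      conv_lhs => rw [e1, H59.SO.cje_apply]
      group⟩)).resolve_left u1
    have m2 : cje g e u ∈ O2 (Cz t) := map_O2 _ h'.inj (by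
      rintro _ ⟨a, ha, rfl⟩
      refine H64.SG.mem_Cz.2 ?_
      have c1 := h'.toB1.comm a
      have c2 : cje g e u * cje g e a = cje g e a * cje g e u := by
        rw [← map_mul, ← map_mul, H64.SG.mem_Cz.1 ha]
      calc t * cje g e a = g * t * g⁻¹ * cje g e u * cje g e a := by rw [← e1]
        _ = cje g e a * (g * t * g⁻¹ * cje g e u) := by rw [mul_assoc, c2, ← mul_assoc, c1, mul_assoc]
        _ = _ := by rw [← e1]) (go u ⟨uu, u1⟩ gu)
    obtain ⟨u', e3⟩ := (ab h).ol _ m2 (H64.SG.is2_of_sq (by rw [← map_mul, uu, map_one]))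
    have e4 : g * t * g⁻¹ = t * e u'⁻¹ := by
      rw [map_inv, e3]
      exact eq_mul_inv_of_mul_eq e1.symm
    have i2 : Ind e (t * e u'⁻¹) (1 * MulAut.conj u'⁻¹) :=
      (H59.SO.ind_one_iff.2 h.cen).mul (H59.SO.ind_conj _)
    rw [one_mul, ← e4] at i2
    exact absurd (i.unique h.inj i2) (ho _)
  · exfalso
    have c1 : χ z' = z' := (hχ.comm_iff h'.inj).1 (by rw [hz']; exact h.toB1.comm z)
    have c2 : z' * z' = 1 := (H59.SO.sq_e h'.inj).1 (by rw [hz', zz])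
    obtain ⟨l, hl⟩ := lang χ (hχ.sq h'.inj tt) (fun u e => hi ⟨u, e⟩) z' (by rw [c1, c2])
    have c3 : cje g e l * t * (cje g e l)⁻¹ = t * e z := by
      have := hχ l⁻¹
      rw [h.toB1.comm z, ← hz', hl, map_mul, ← map_inv χ, ← this, map_inv]
      group
    rcases gd z (_root_.isConj_iff.2 ⟨_, c3⟩) with e1 | e1
    · exact z2.2 e1
    · exact ng e1

theorem jobUF : JobUF.{u} := by
  intro n F _ _ _ _ _ _ G _ _ e t _ _ _ Y _ _ _ ι τ Gd U Φ e0 m3 ea bg nr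
  have b0 : B0 e t := e0.toCE.b0
  have hk := e0.ker
  have tt := e0.inv.1
  have tn := e0.act.mem_Ns
  have le : ∀ y, Φ y ∈ Ns Φ.range := fun y => Subgroup.le_normalizer ⟨y, rfl⟩
  have fin : ∀ s, IsConj t s → s ∈ Ns Φ.range → Is2 (s * t) →
      ∃ m ∈ Ns Φ.range, s = m * t * m⁻¹ := by
    intro s hc hs h2
    have ss : s * s = 1 := by
      obtain ⟨g, rfl⟩ := _root_.isConj_iff.1 hc
      rw [conj_mul, tt]; group
    obtain ⟨β, iβ⟩ := exists_ind hk hs
    have ist := iβ.mul e0.act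
    by_cases i1 : ∃ y, β = MulAut.conj y
    · obtain ⟨y, rfl⟩ := i1
      obtain ⟨y', rfl⟩ := ea.inn s y (H64.SG.is2_of_sq ss) iβ
      exact absurd hc (nr y')
    by_cases i2 : ∃ y, β * τ = MulAut.conj y
    · obtain ⟨y, hy⟩ := i2
      obtain ⟨v, hv⟩ := ea.inn _ y h2 (hy ▸ ist)
      have e1 : Φ v * t = s := by rw [hv, mul_assoc, tt, mul_one]
      obtain ⟨w, hw⟩ := ea.tc v (e1 ▸ hc)
      exact ⟨Φ w, le w, e1 ▸ hw⟩
    have b2 := ind_sq hk iβ ss
    rcases m3 β b2 (ind_is2 hk ist h2) (fun y e => i1 ⟨y, e⟩) (fun y e => i2 ⟨y, e⟩) with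
      ⟨P, p1, p2, p3⟩ | ⟨go, y, β', ψ, z, e1, e2, e3, ho, hz, z2, ng⟩
    · have := bg s hc (P.map Φ) (by
        rintro _ ⟨a, ha, rfl⟩
        exact H64.SG.mem_Cz.2 (iβ.comm (p1 ha))) (p2.map Φ)
      rw [card_map2 hk p2] at this
      exact absurd p3 (not_lt.2 this)
    have wn := le y
    have a1 : Ind Φ (Φ y * s * (Φ y)⁻¹) β' := e1 ▸ (H59.SO.ind_conj y).conj iβ
    set s₁ := Φ y * s * (Φ y)⁻¹ with hs₁
    have s11 : s₁ * s₁ = 1 := by rw [hs₁, conj_mul, ss]; group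
    have bb := ind_sq hk a1 s11
    have ap := a1.mul e0.act
    have bt : β' * τ * (β' * τ) = 1 := by
      calc β' * τ * (β' * τ) = β' * (τ * β') * τ := by group
        _ = β' * β' * (τ * τ) := by rw [← e2]; group
        _ = 1 := by rw [bb, e0.t2, one_mul]
    have k1 : s₁ * t * (s₁ * t) ∈ Cs Φ.range := H59.SO.ind_one_iff.1 (bt ▸ ap.mul ap)
    obtain ⟨j, hj⟩ := H64.SG.odd_orderOf_of_mem ea.odd k1
    have d := dih s11 tt j
    have a2 := (ap.pow j).conj a1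
    have cb : Commute (β' * τ) β' := by
      show β' * τ * β' = β' * (β' * τ)
      rw [mul_assoc, ← e2]
    rw [(cb.pow_left j).eq, mul_inv_cancel_right] at a2
    have mn := (ap.pow j).mem_Ns
    set m := (s₁ * t) ^ j with hm
    set s₂ := m * s₁ * m⁻¹ with hs₂
    have s22 : s₂ * s₂ = 1 := by rw [hs₂, conj_mul, s11]; group
    have q : s₂ * t * (s₂ * t) = 1 := by
      rw [d, ← ((Commute.refl (s₁ * t)).mul_pow _), ← hj, pow_orderOf_eq_one]
    have cm : t * s₂ = s₂ * t := by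
      have h1 : (s₂ * t)⁻¹ = s₂ * t := inv_eq_of_mul_eq_one_right q
      rw [← h1, mul_inv_rev, inv_eq_of_mul_eq_one_right tt, inv_eq_of_mul_eq_one_right s22]
    have ind : Ind e s₂ ψ := fun u => by rw [← e0.res, a2, e3, e0.res]
    have c2 : IsConj t s₂ :=
      (hc.trans (_root_.isConj_iff.2 ⟨Φ y, rfl⟩)).trans (_root_.isConj_iff.2 ⟨m, rfl⟩)
    have k := key b0 (fun u => e0.res u ▸ nr (ι u)) e0.gd go c2 cm ind ho hz z2 ng
    refine ⟨(m * Φ y)⁻¹, inv_mem (mul_mem mn wn), ?_⟩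
    rw [← k, hs₂, hs₁]; group
  refine ⟨e0.inv, tn, fun g hg => ?_⟩
  have ss : g * t * g⁻¹ * (g * t * g⁻¹) = 1 := by rw [conj_mul, tt]; group
  obtain ⟨j, hj⟩ := exists_odd (g * t * g⁻¹ * t)
  have mn : (g * t * g⁻¹ * t) ^ j ∈ Ns Φ.range := pow_mem (mul_mem hg tn) j
  rw [← dih ss tt j] at hj
  set a := (g * t * g⁻¹ * t) ^ j
  obtain ⟨m, hm, e1⟩ := fin _ ((_root_.isConj_iff.2 ⟨g, rfl⟩).trans (_root_.isConj_iff.2 ⟨a, rfl⟩))
    (mul_mem (mul_mem mn hg) (inv_mem mn)) hj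
  have : m⁻¹ * a * g ∈ Cz t := H64.SG.mem_Cz.2 (by
    calc t * (m⁻¹ * a * g) = m⁻¹ * (m * t * m⁻¹) * a * g := by group
      _ = m⁻¹ * a * g * t := by rw [← e1]; group)
  have h3 := mul_mem (mul_mem (inv_mem mn) hm) (ea.ct this)
  rwa [show a⁻¹ * m * (m⁻¹ * a * g) = g by group] at h3

end H99.YEUF
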