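import Cfsg.Agent.H54.P6.H64_YESpec2

namespace H9 end H9
open H9
namespace H85.P6 end H85.P6
open H85.P6
namespace H85.P6.H9 end H85.P6.H9
open H85.P6.H9
namespace H85.P6.H9.UY end H85.P6.H9.UY
open H85.P6.H9.UY
namespace H54.P6


/-! STD-SP endgame (row S3129), slot UY: the type-free core. -/

set_option autoImplicit false
set_option linter.unusedSectionVars false

namespace H9.UY

open H64.SG (Syl Cz Cs Ns cjs Is2 Inv2 IsO2 mem_Cz)
open H64.YE (T2 Ac Fx)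
open Subgroup

section Gen

variable {A B : Type*} [Group A] [Group B]

theorem is2_inj {f : A →* B} (hf : Function.Injective f) {a : A} (h : Is2 (f a)) : Is2 a := by
  obtain ⟨k, hk⟩ := h
  exact ⟨k, hf (by rw [map_pow, hk, map_one])⟩

theorem t2_le (H : Subgroup A) : T2 H ≤ H := (closure_le _).2 fun _ h => h.1

theorem mem_t2 {H : Subgroup A} {a : A} (h : a ∈ H) (h2 : Is2 a) : a ∈ T2 H :=
  subset_closure ⟨h, h2⟩

theorem t2_map_le (f : A →* B) {H : Subgroup A} {K : Subgroup B}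
    (h : ∀ a ∈ H, Is2 a → f a ∈ K) : (T2 H).map f ≤ T2 K := by
  rw [map_le_iff_le_comap]
  exact (closure_le _).2 fun a ha => mem_t2 (h a ha.1 ha.2) (ha.2.map f)

theorem t2_map (f : A ≃* B) (H : Subgroup A) :
    (T2 H).map f.toMonoidHom = T2 (H.map f.toMonoidHom) := by
  refine le_antisymm (t2_map_le _ fun a ha _ => mem_map_of_mem _ ha) ((closure_le _).2 ?_)
  rintro _ ⟨⟨a, ha, rfl⟩, h2⟩
  exact mem_map_of_mem _ (mem_t2 ha (is2_inj f.injective h2))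

theorem ns_map_of {f : A →* B} {H K : Subgroup A} (h : K ≤ Ns H) : K.map f ≤ Ns (H.map f) :=
  (map_mono h).trans (le_normalizer_map f)

theorem ns_comap {f : A →* B} (hf : Function.Injective f) (H : Subgroup A) :
    (Ns (H.map f)).comap f = Ns H := by
  ext a
  simp only [mem_comap, mem_normalizer_iff]
  refine ⟨fun h b => ?_, fun h b => ?_⟩
  · have := h (f b)
    rwa [← map_inv, ← map_mul, ← map_mul, mem_map_iff_mem hf, mem_map_iff_mem hf] at this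
  · have := (ns_map_of (f := f) (H := H) (K := Ns H) le_rfl) (mem_map_of_mem f
      (mem_normalizer_iff.2 h))
    exact mem_normalizer_iff.1 this b

theorem cz_comap {f : A →* B} (hf : Function.Injective f) (c : A) :
    (Cz (f c)).comap f = Cz c := by
  ext a
  simp only [mem_comap, mem_Cz, ← map_mul, hf.eq_iff]

theorem cz_map (f : A ≃* B) (c : A) : (Cz c).map f.toMonoidHom = Cz (f c) := by
  ext b
  obtain ⟨a, rfl⟩ := f.surjective b
  rw [show f a = f.toMonoidHom a from rfl, mem_map_iff_mem f.injective]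
  simp only [mem_Cz, MulEquiv.coe_toMonoidHom, ← map_mul, f.injective.eq_iff]

theorem ns_map (f : A ≃* B) (H : Subgroup A) :
    (Ns H).map f.toMonoidHom = Ns (H.map f.toMonoidHom) := by
  ext b
  obtain ⟨a, rfl⟩ := f.surjective b
  rw [show f a = f.toMonoidHom a from rfl, mem_map_iff_mem f.injective, ← mem_comap,
    ns_comap f.injective]

theorem o2_map {f : A →* B} (hf : Function.Injective f) {Q H : Subgroup A} (h : IsO2 Q H) :
    IsO2 (Q.map f) (H.map f) := by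
  refine ⟨map_mono h.1, ns_map_of h.2.1, h.2.2.1.map f, fun R h1 h2 h3 => ?_⟩
  have e : (R.comap f).map f = R := map_comap_eq_self (h1.trans (map_le_range f H))
  rw [← e]
  refine map_mono (h.2.2.2 _ ?_ ?_ (h3.comap_of_injective f hf))
  · exact (comap_mono h1).trans (comap_map_eq_self_of_injective hf H).le
  · rw [← ns_comap hf, e]
    exact map_le_iff_le_comap.1 h2

theorem o2_uniq {Q Q' H : Subgroup A} (h : IsO2 Q H) (h' : IsO2 Q' H) : Q = Q' :=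
  le_antisymm (h'.2.2.2 _ h.1 h.2.1 h.2.2.1) (h.2.2.2 _ h'.1 h'.2.1 h'.2.2.1)

theorem card_map {f : A →* B} (hf : Function.Injective f) (H : Subgroup A) :
    Nat.card (H.map f) = Nat.card H := (Nat.card_congr (H.equivMapOfInjective f hf).toEquiv).symm

theorem mem_ns_iff {H : Subgroup A} {g : A} : g ∈ Ns H ↔ cjs g H = H := by
  rw [mem_normalizer_iff]
  refine ⟨fun h => le_antisymm ?_ fun a ha => ⟨g⁻¹ * a * g, (h _).2 (by simpa [mul_assoc]), by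
    simp [mul_assoc]⟩, fun h a => ⟨fun ha => h ▸ ⟨a, ha, rfl⟩, fun ha => ?_⟩⟩
  · rintro _ ⟨a, ha, rfl⟩; exact (h a).1 ha
  · rw [← h] at ha
    exact (mem_map_iff_mem (MulAut.conj g).injective).1 ha

theorem cjs_mul (g h : A) (H : Subgroup A) : cjs g (cjs h H) = cjs (g * h) H := by
  rw [cjs, cjs, cjs, map_map]; congr 1; ext a; simp [mul_assoc]

end Gen

variable {Y G : Type*} [Group Y] [Group G] [Finite Y] [Finite G] {Φ : Y →* G} {K : Subgroup G}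

/-- The standing hypotheses. -/
structure St (Φ : Y →* G) (K : Subgroup G) : Prop where
  inj : Function.Injective Φ
  nor : K.Normal
  le : Φ.range ≤ K
  two : ∀ m ∈ Ns Φ.range, Is2 m → m ∈ K → m ∈ Φ.range

variable (h : St Φ K)
include h

theorem St.l2 (H : Subgroup G) : (T2 (H.comap Φ)).map Φ ≤ T2 (K ⊓ H) :=
  t2_map_le Φ fun a ha _ => ⟨h.le ⟨a, rfl⟩, ha⟩

theorem St.l1 {H : Subgroup G} (hH : H ≤ Ns Φ.range) : T2 (K ⊓ H) = (T2 (H.comap Φ)).map Φ := by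
  refine le_antisymm ((closure_le _).2 fun g hg => ?_) (h.l2 H)
  obtain ⟨y, rfl⟩ := h.two g (hH hg.1.2) hg.2 hg.1.1
  exact mem_map_of_mem _ (mem_t2 hg.1.2 (is2_inj h.inj hg.2))

theorem St.l4 {H : Subgroup G} (hH : H ≤ Ns Φ.range) (g : G) (β : MulAut Y)
    (e : (H.comap Φ).map β.toMonoidHom = (cjs g H).comap Φ) :
    cjs g ((T2 (H.comap Φ)).map Φ) = ((T2 (H.comap Φ)).map β.toMonoidHom).map Φ := by
  have hK : cjs g K = K := mem_ns_iff.1 (by
    have := h.nor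
    rw [Ns, normalizer_eq_top]; trivial)
  refine (eq_of_le_of_card_ge ?_ ?_).symm
  · rw [t2_map, e, ← h.l1 hH, cjs, cjs, t2_map, map_inf _ _ _ (MulAut.conj g).injective]
    exact (h.l2 _).trans (by rw [show K.map _ = K from hK])
  · rw [card_map h.inj, card_map (f := β.toMonoidHom) β.injective, cjs,
      card_map (f := (MulAut.conj g).toMonoidHom) (MulAut.conj g).injective, card_map h.inj]

variable {c : Y} {R U : Subgroup Y}

theorem St.pp (o2c : IsO2 R (T2 (Cz c))) (hR : Ns (R.map Φ) ≤ Ns Φ.range)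
    (hc : Cz (Φ c) ≤ Ns Φ.range) (g : G) (β : MulAut Y) (e : g * Φ c * g⁻¹ = Φ (β c)) :
    cjs g ((T2 (Ns R)).map Φ) = ((T2 (Ns R)).map β.toMonoidHom).map Φ := by
  have h1 := h.l4 hc g β (by
    rw [cz_comap h.inj, cz_map, cjs, cz_map, MulAut.conj_apply, e, cz_comap h.inj])
  rw [cz_comap h.inj] at h1
  have h2 : cjs g (R.map Φ) = (R.map β.toMonoidHom).map Φ :=
    o2_uniq (H := cjs g ((T2 (Cz c)).map Φ)) (o2_map (MulAut.conj g).injective (o2_map h.inj o2c))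
      (h1 ▸ o2_map h.inj (o2_map β.injective o2c))
  have h3 := h.l4 hR g β (by
    rw [ns_comap h.inj, ns_map, cjs, ns_map, show (R.map Φ).map _ = _ from h2, ns_comap h.inj])
  rwa [ns_comap h.inj] at h3

theorem St.core (o2c : IsO2 R (T2 (Cz c))) (o2r : IsO2 R (T2 (Ns R)))
    (mx : ∀ A, T2 (Ns R) ≤ A → A ≤ Ns R ∨ A = ⊤) (hR : Ns (R.map Φ) ≤ Ns Φ.range)
    (hc : Cz (Φ c) ≤ Ns Φ.range) (hU : Syl U ⊤) (cU : c ∈ U) (uR : U ≤ Ns R)
    (ac : ∀ g y, g * Φ c * g⁻¹ = Φ y → Ac c y) : Fx (Ns Φ.range) (Φ c) := by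
  intro g hg
  have u2 := H64.SG.isPGroup_iff_is2.1 hU.2.1
  have uT : U ≤ T2 (Ns R) := fun u hu => mem_t2 (uR hu) (u2 u hu)
  have pp : ∀ g, g * Φ c * g⁻¹ ∈ Φ.range → ∃ β : MulAut Y,
      cjs g ((T2 (Ns R)).map Φ) = ((T2 (Ns R)).map β.toMonoidHom).map Φ := fun g ⟨y, hy⟩ => by
    obtain ⟨β, rfl⟩ := ac g y hy.symm
    exact ⟨β, h.pp o2c hR hc g β hy.symm⟩
  obtain ⟨β, hβ⟩ := pp g (h.two _ hg (((u2 c cU).map Φ).map (MulAut.conj g).toMonoidHom)
    (h.nor.conj_mem _ (h.le ⟨c, rfl⟩) g))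
  have l1 : cjs g (U.map Φ) ≤ Φ.range :=
    (map_mono (map_mono uT)).trans (hβ.le.trans (map_le_range _ _))
  obtain ⟨m, hm, hy⟩ := ((H64.SG.syl_iff.1 hU).map Φ).exists_le_cj ((hU.2.1.map Φ).map _)
    (l1.trans (MonoidHom.range_eq_map Φ).le)
  rw [← MonoidHom.range_eq_map] at hm
  have hn : m⁻¹ * g ∈ Ns (U.map Φ) :=
    H98.mem_normalizer_of_cj_le (by rw [← H98.cj_cj]; exact H98.le_cj_iff.1 hy)
  suffices m⁻¹ * g ∈ Ns Φ.range by
    have h2 := mul_mem (le_normalizer hm) this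
    rwa [mul_inv_cancel_left] at h2
  generalize m⁻¹ * g = n at hn
  have pn : ∀ n ∈ Ns (U.map Φ), ∃ β : MulAut Y,
      cjs n ((T2 (Ns R)).map Φ) = ((T2 (Ns R)).map β.toMonoidHom).map Φ := fun n hn =>
    pp n (map_le_range Φ U (H98.conj_mem_of_mem_normalizer hn ⟨c, cU, rfl⟩))
  let J : Subgroup G := ⨆ k : Ns (U.map Φ), cjs k.1 ((T2 (Ns R)).map Φ)
  have jl : ∀ k ∈ Ns (U.map Φ), cjs k ((T2 (Ns R)).map Φ) ≤ J := fun k hk =>
    le_iSup (fun k : Ns (U.map Φ) => cjs k.1 ((T2 (Ns R)).map Φ)) ⟨k, hk⟩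
  have jr : J ≤ Φ.range := iSup_le fun k => by
    obtain ⟨β, e⟩ := pn k k.2
    exact e.le.trans (map_le_range _ _)
  have ej : (J.comap Φ).map Φ = J := map_comap_eq_self jr
  rcases mx (J.comap Φ) (map_le_iff_le_comap.1 (by simpa using jl 1 (one_mem _))) with hA | hA
  · obtain ⟨β, e⟩ := pn n hn
    have h1 : (T2 (Ns R)).map β.toMonoidHom ≤ Ns R := by
      refine le_trans ?_ hA
      rw [← map_le_iff_le_comap, ← e]
      exact jl n hn
    have h2 : cjs n ((T2 (Ns R)).map Φ) ≤ (T2 (Ns R)).map Φ := by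
      rw [e]
      exact map_mono (t2_map_le _ fun a ha h2 => h1 ⟨a, mem_t2 ha h2, rfl⟩)
    have h3 := mem_ns_iff.1 (H98.mem_normalizer_of_cj_le h2)
    refine hR (mem_ns_iff.2 (o2_uniq (H := cjs n ((T2 (Ns R)).map Φ))
      (o2_map (MulAut.conj n).injective (o2_map h.inj o2r)) ?_))
    rw [h3]
    exact o2_map h.inj o2r
  · rw [hA, ← MonoidHom.range_eq_map] at ej
    rw [ej]
    refine H98.mem_normalizer_of_cj_le ?_
    rw [H98.cj, Subgroup.map_iSup]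
    exact iSup_le fun k => (cjs_mul _ _ _).le.trans (jl _ (mul_mem hn k.2))

/-- Step (+). -/
theorem St.ac {MI : Y → Prop} {r : Y} (r2 : Is2 r) (c2 : c * c = 1) (mc : MI c)
    (hc : Cz (Φ c) ≤ Ns Φ.range)
    (fu : ∀ y y' g, Is2 y → Is2 y' → MI y → MI y' → g * Φ y * g⁻¹ = Φ y' → Ac y y')
    (rt : ∀ y g, IsConj r y → g * Φ y * g⁻¹ ∈ Φ.range → ∃ y', g * Φ y * g⁻¹ = Φ y' ∧ IsConj r y')
    (d1 : ∀ y, y * y = 1 → ¬ MI y → Ac c y ∨ ∃ D : Set Y, y ∈ closure D ∧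
      (∀ a ∈ D, IsConj r a ∧ a * y = y * a) ∧
        ∀ a ∈ D, ∀ b ∈ D, a * b = b * a ∧ MI (a * b) ∧ ¬ Ac c (a * b))
    (d2 : ∀ D : Set Y, (∀ a ∈ D, IsConj r a) →
      (∀ a ∈ D, ∀ b ∈ D, a * b = b * a ∧ ¬ (MI (a * b) ∧ Ac c (a * b))) → c ∉ closure D)
    (g : G) (y : Y) (e : g * Φ c * g⁻¹ = Φ y) : Ac c y := by
  have y2 : y * y = 1 := h.inj (by
    rw [map_mul, ← e, map_one, conj_mul, ← map_mul, c2, map_one, mul_one, mul_inv_cancel])
  by_cases my : MI y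
  · exact fu c y g (H64.SG.is2_of_sq c2) (H64.SG.is2_of_sq y2) mc my e
  refine (d1 y y2 my).resolve_right fun ⟨D, hD, h1, h2⟩ => ?_
  have i2 : ∀ a, IsConj r a → Is2 a := fun a ha => by
    obtain ⟨w, rfl⟩ := isConj_iff.1 ha
    exact r2.map (MulAut.conj w).toMonoidHom
  have ex : ∀ a ∈ D, ∃ a', g⁻¹ * Φ a * g⁻¹⁻¹ = Φ a' ∧ IsConj r a' := fun a ha => by
    refine rt a g⁻¹ (h1 a ha).1 (h.two _ (hc (mem_Cz.2 ?_))
      (((i2 a (h1 a ha).1).map Φ).map (MulAut.conj g⁻¹).toMonoidHom)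
      (h.nor.conj_mem _ (h.le ⟨a, rfl⟩) _))
    have e' : Φ c = g⁻¹ * Φ y * g⁻¹⁻¹ := by rw [← e]; group
    rw [e', conj_mul, conj_mul, ← map_mul, ← map_mul, (h1 a ha).2]
  refine d2 {a' | IsConj r a' ∧ ∃ a ∈ D, g⁻¹ * Φ a * g⁻¹⁻¹ = Φ a'} (fun _ ha => ha.1) ?_ ?_
  · rintro a' ⟨ra, a, ha, ea⟩ b' ⟨rb, b, hb, eb⟩
    have cm : a' * b' = b' * a' := h.inj (by
      rw [map_mul, map_mul, ← ea, ← eb, conj_mul, conj_mul, ← map_mul, ← map_mul,
        (h2 a ha b hb).1])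
    refine ⟨cm, fun ⟨m1, β, hβ⟩ => (h2 a ha b hb).2.2 ?_⟩
    obtain ⟨γ, hγ⟩ := fu (a' * b') (a * b) g ((i2 _ ra).mul (i2 _ rb) cm)
      ((i2 _ (h1 a ha).1).mul (i2 _ (h1 b hb).1) (h2 a ha b hb).1) m1 (h2 a ha b hb).2.1 (by
        rw [map_mul, ← ea, ← eb, map_mul]; group)
    exact ⟨γ * β, by rw [MulAut.mul_apply, hβ, hγ]⟩
  · have : closure D ≤ (((closure {a' | IsConj r a' ∧ ∃ a ∈ D, g⁻¹ * Φ a * g⁻¹⁻¹ = Φ a'}).map
        Φ).comap (MulAut.conj g⁻¹).toMonoidHom).comap Φ := (closure_le _).2 fun a ha => by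
      obtain ⟨a', e1, e2⟩ := ex a ha
      exact ⟨a', subset_closure ⟨e2, a, ha, e1⟩, e1.symm⟩
    obtain ⟨c', hc', e'⟩ := this hD
    have : c' = c := h.inj (by
      rw [e']; change g⁻¹ * Φ y * g⁻¹⁻¹ = _; rw [← e]; group)
    exact this ▸ hc'

end H9.UY
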