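import Cfsg.Agent.H54.P6.H64_YEMod
import Cfsg.Agent.H54.Y6L

/-! P6 port: the symplectic and linear models in the structures of `H54/P6/H64_YEMod`. -/

set_option autoImplicit false
set_option linter.unusedSectionVars false

namespace H54.P6T

open H85.P6.H67.UA (XU)
open H85.P6.H67.SP (Par FC)

variable {n : ℕ} {F : Type} [Field F] [StarRing F] [TrivialStar F] [CharP F 2] [Finite F]
  {Y : Type} [Group Y] {ι : XU n F →* Y} {τ : MulAut Y} {Gd : XU n F → Prop} {U : Subgroup Y}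

theorem qs (h : H64.YE.QS Y) : H54.P6.H64.YE.QS Y := ⟨h.perf, h.oddZ, h.nrm, h.qs, h.k2⟩

theorem mb (h : H64.YE.MB (n := n) (F := F) ι τ Gd U) : H54.P6.H64.YE.MB ι τ Gd U :=
  ⟨⟨h.t2, h.fix, h.syl, h.stU, h.tne, h.gen⟩, ⟨h.gdc, h.cl⟩, qs h.qs, h.m3⟩

theorem good {R : Subgroup Y} (h : H64.YE.Good τ U R) : H54.P6.H64.YE.Good τ U R :=
  ⟨h.1, h.2, h.3, h.4, h.5⟩

theorem rd {Go : XU n F → Prop} {r : Y} {Z Q : Subgroup Y}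
    (d : H64.YE.RD (n := n) (F := F) ι τ Go U r Z Q) : H54.P6.H64.YE.RD ι τ Go U r Z Q :=
  ⟨d.1, d.2, d.3, d.4, d.5, d.6, d.7, d.8, d.9, d.10, d.11, d.12, d.13, d.14, d.15⟩

theorem mc {Go : XU n F → Prop} {R : Subgroup Y} (h : H64.YE.MC (n := n) (F := F) ι τ Go U R) :
    H54.P6.H64.YE.MC ι τ Go U R :=
  let ⟨m1, m2, R, m3, m4⟩ := h
  ⟨good m1, m2, R, good m3, m4⟩

theorem rtS (h : H64.YE.RtS (n := n) (F := F) ι τ Gd U) : H54.P6.H64.YE.RtS ι τ Gd U := by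
  obtain ⟨a1, a2, a3, r, Z, Q, m, d, s, a, w, z⟩ := h
  exact ⟨a1, a2, a3, r, Z, Q, mc m, rd d, ⟨s.1, s.2, s.3⟩, ⟨a.1, a.2, a.3, a.4, a.5, a.6⟩, ⟨w.1, w.2⟩,
    ⟨z.1, z.2, z.3⟩⟩

theorem rtU (h : H64.YE.RtU (n := n) (F := F) ι τ Gd U) : H54.P6.H64.YE.RtU ι τ Gd U := by
  obtain ⟨a1, a2, a3, r, Z, Q, m, d, s, a, k, w, z⟩ := h
  exact ⟨a1, a2, a3, r, Z, Q, mc m, rd d, ⟨s.1, s.2, s.3⟩, ⟨a.1, a.2, a.3⟩, ⟨k.1, k.2, k.3⟩, ⟨w.1, w.2⟩,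
    ⟨z.1, z.2, z.3⟩⟩

theorem rtL (h : H64.YE.RtL (n := n) (F := F) ι τ Gd U) : H54.P6.H64.YE.RtL ι τ Gd U := by
  obtain ⟨a1, a2, a3, r, Z, Q, A, A', m, d, l⟩ := h
  exact ⟨a1, a2, a3, r, Z, Q, A, A', mc m, rd d,
    ⟨l.1, l.2, l.3, l.4, l.5, l.6, l.7, l.8, l.9, l.10, l.11⟩⟩

theorem rtO (h : H64.YE.RtO (n := n) (F := F) ι τ Gd U) : H54.P6.H64.YE.RtO ι τ Gd U := by
  obtain ⟨a1, a2, a3, me, r, Z, Q, c, R, R₀, R₁, m, m', d, a, z, ob, oh, os, oc, ou, oq⟩ := h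
  exact ⟨a1, a2, a3, ⟨me.1, me.2⟩, r, Z, Q, c, R, R₀, R₁, mc m, mc m', rd d, ⟨a.1, a.2, a.3⟩,
    ⟨z.1, z.2, z.3⟩, ⟨ob.1, ob.2, ob.3, ob.4, ob.5, ob.6⟩, oh, ⟨os.1, os.2, os.3, os.4, os.5⟩,
    ⟨oc.1, oc.2, oc.3, oc.4, oc.5, oc.6, oc.7, oc.8, oc.9⟩, ⟨ou.1, ou.2, ou.3, ou.4, ou.5⟩,
    ⟨oq.1, oq.2⟩⟩

theorem mod (h : H64.YE.Mod (n := n) (F := F) ι τ Gd) : H54.P6.H64.YE.Mod ι τ Gd := by
  obtain ⟨U, b, h⟩ := h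
  exact ⟨U, mb b, h.imp rtS (Or.imp rtU (Or.imp rtL (Or.imp id rtO)))⟩

theorem jobMS : H54.P6.H64.YE.JobMS := fun n F _ _ _ _ _ p _ _ _ K _ _ _ _ x h =>
  mod (H54.Y6S.ms p.odd p.five (F := F) (K := K) ⟨x.1, x.2, x.3, x.4, x.5, x.6⟩ h)

theorem jobML0 : H54.P6.H64.YE.JobML0 := fun n F _ _ _ _ _ p _ _ _ =>
  (H54.Y6L.ml0 (F := F) p.odd p.five (FC.two n)).imp_left mod

theorem jobML1 : H54.P6.H64.YE.JobML1 := fun n F _ _ _ _ _ p _ _ _ =>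
  mod (H54.Y6L.ml1 (F := F) p.odd p.five (FC.two n))

end H54.P6T
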