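import Cfsg.Agent.H54.P6.H64_YEKit2
import Cfsg.Agent.H54.P6.H83_YEGC
import Cfsg.Agent.H54.P6.H98_YeEA
import Cfsg.Agent.H54.P6.H19_YeBG
import Cfsg.Agent.H54.P6.H99_YEUF
import Cfsg.Agent.H54.P6.H70_YEEV
import Cfsg.Agent.H54.P6.H5_YEEI
import Cfsg.Agent.H54.P6.H24_YECO
import Cfsg.Agent.H54.P6.H37_YECQ
import Cfsg.Agent.H54.P6.H45_YESS
import Cfsg.Agent.H54.P6.H5_YECA
import Cfsg.Agent.H54.P6.H54_YEHS
import Cfsg.Agent.H54.P6.H46_YECB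
import Cfsg.Agent.H54.P6.H71_YeHU
import Cfsg.Agent.H54.P6.H44_YEa
import Cfsg.Agent.H54.P6.H13_YESZ
import Cfsg.Agent.H54.P6.H87_YeZ1
import Cfsg.Agent.H54.P6.H46_YEHT
import Cfsg.Agent.H54.P6.H43_YERO
import Cfsg.Agent.H54.P6.H1_YEHO
import Cfsg.Agent.H54.P6.H72_YESR
import Cfsg.Agent.H54.P6.H4_YEC3
import Cfsg.Agent.H54.P6.H9_YEUY
import Cfsg.Agent.H54.P6.H95_YESO
import Cfsg.Agent.H54.P6.H24_YELA
import Cfsg.Agent.H54.P6.H94_YELB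
import Cfsg.Agent.H54.P6.H84_YELC
import Cfsg.Agent.H85.P6.NO
import Cfsg.Agent.H85.P6.Asm
import Cfsg.Agent.H59.SOAsm
import Cfsg.Agent.H85.P6.H86_SPIFin

namespace H64 end H64
open H64
namespace H98 end H98
open H98
namespace H85.P6 end H85.P6
open H85.P6
namespace H85.P6.H64 end H85.P6.H64
open H85.P6.H64
namespace H85.P6.H64.YE end H85.P6.H64.YE
open H85.P6.H64.YE
namespace H85.P6.H98 end H85.P6.H98
open H85.P6.H98
namespace H54.P6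


/-! P6 port (rows S1734, S3133): the assembly of the endgame slots for `Sp₆(2)`. -/

set_option autoImplicit false
set_option linter.unusedSectionVars false

namespace H64.YE

open H64.SG (O2 Syl Cz Cs Ns cjs Is2 Inv2 UF Cfg mem_Cs mem_Cz is2_of_sq)
open Subgroup H67.SP H98
open H67.UA (XU io tau ac_one)
open H67.SA (cm Gen SLn)
open H59.SO (Ind NS CE Om map_mem_Cs mem_Cs_map cfg_facts)
open H86.SPI (QD iO tO)

universe u

/-- The type-free slots. -/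
structure Slots : Prop where
  gc : JobGC.{u}
  ea : JobEA.{u}
  bg : JobBG.{u}
  no : JobNO.{u}
  uf : JobUF.{u}
  ev : JobEV.{u}
  ei : JobEI.{u}
  co : JobCO.{u}
  cq : JobCQ.{u}
  ss : JobSS.{u}
  ca : JobCA.{u}
  hs : JobHS.{u}
  cb : JobCB.{u}
  hu : JobHU.{u}
  nz : JobNZ.{u}
  sz : JobSZ.{u}
  z1 : JobZ1.{u}
  ht : JobHT.{u}
  ro : JobRO.{u}
  ho : JobHO.{u}
  sr : JobSR.{u}
  c3 : JobC3.{u}
  uy : JobUY.{u}
  so : JobSO.{u}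
  la : JobLA.{u}
  lb : JobLB.{u}
  lc : JobLC.{u}

theorem slots : Slots.{u} :=
  ⟨H83.YEGC.jobGC, H98.YeEA.jobEA, H19.YeBG.jobBG, H85.P6.NOW.jobNO, H99.YEUF.jobUF, H70.YEEV.jobEV,
    H5.YEEI.jobEI, H24.YECO.jobCO, H37.YECQ.jobCQ, H45.YE.jobSS, H5.YECA.jobCA, H54.YE.jobHS,
    H46.YECB.jobCB, H71.YeHU.jobHU, H44.YE.jobNZ, H13.YESZ.jobSZ, H87.YeZ1.jobZ1, H46.YEHT.jobHT,
    H43.YERO.jobRO, H1.YEHO.jobHO, H72.YESR.jobSR, H4.YEC3.jobC3, H9.UY.jobUY, H95.YE.jobSO,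
    H24.YELA.jobLA, H94.YE.jobLB, H84.YELC.jobLC⟩

variable {n : ℕ} {F : Type} [Field F] [StarRing F] [TrivialStar F] [CharP F 2] [Finite F]
  {Y : Type} [Group Y]

/-- The step `CA` holds for the data `Z`, `Q`, `P` of the model. -/
def CAs (ι : XU n F →* Y) (τ : MulAut Y) (U Z Q P : Subgroup Y) : Prop :=
  ∀ (G : Type u) [Group G] [Finite G] (e : XU n F →* G) (t : G) (Φ : Y →* G) (K₀ : Subgroup G),
    E1 ι τ Lr LS U e t Φ K₀ → PE Φ Z P → SC U Φ K₀ Z Q → CN Φ K₀ Z Q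

/-- Orthogonal route without `MC Q`, with `CAs` in place of `RA`. -/
def RtP (ι : XU n F →* Y) (τ : MulAut Y) (U : Subgroup Y) : Prop :=
  ON ι ∧ NA Y ∧ ME ι τ Lr Sr ∧ ∃ r Z Q c R R₀ R₁,
    MC ι τ LS U R ∧ RD ι τ LS U r Z Q ∧ CAs.{u} ι τ U Z Q (PO c Z) ∧ RZ τ r Z Q ∧
      OB ι τ r c ∧ OH τ r R ∧ OS ι τ c R ∧ OC ι τ LS c R R₀ R₁ ∧ OU ι r c R ∧ OQ U Z Q c

/-- `JobMO` without `MC Q`. -/
def JobMP : Prop := AllM fun n F _ _ _ _ _ => ∀ δ, ∃ U, MB (iO n F δ) (tO n F δ) Lr U ∧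
  RtP.{u} (iO n F δ) (tO n F δ) U

/-- The part of the orthogonal model that the transfer uses. -/
def JobMB : Prop := AllM fun n F _ _ _ _ _ => ∀ δ, ∃ U, MB (iO n F δ) (tO n F δ) Lr U ∧ ON (iO n F δ)

variable [H67.SP.Par n F] [Finite Y] [QS Y] {G : Type u} [Group G] [Finite G] {ι : XU n F →* Y}
  {τ : MulAut Y} {Gd Go : XU n F → Prop} {U : Subgroup Y} {e : XU n F →* G} {t : G} {Φ : Y →* G}
  {K₀ F₀ : Subgroup G}

theorem cfg_perf (c : Cfg F₀ e.range t) (hX : NS (XU n F)) (hi : Function.Injective e) :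
    F₀ ≤ ⁅F₀, F₀⁆ := by
  have := c.normal
  obtain ⟨a, ha⟩ := hX.exists_ne
  rcases c.simple.eq_bot_or_eq_top_of_normal ((⁅F₀, F₀⁆).subgroupOf F₀) inferInstance with h | h
  · exact absurd (hi ((mem_bot.1 ((subgroupOf_eq_bot.1 h).eq_bot ▸ (⟨(c.perf.trans
      (commutator_mono c.le c.le)) ⟨a, rfl⟩, c.le ⟨a, rfl⟩⟩ : _ ∈ ⁅F₀, F₀⁆ ⊓ F₀))).trans
        e.map_one.symm)) ha
  · exact subgroupOf_eq_top.1 h

theorem EK.eq (k : EK U t Φ K₀) (c : Cfg F₀ e.range t) (p : F₀ ≤ ⁅F₀, F₀⁆) : K₀ = F₀ := by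
  have := k.nor
  have key : ∀ g : G, (g : G ⧸ K₀) = 1 ∨ (g : G ⧸ K₀) = (t : G ⧸ K₀)⁻¹ := fun g =>
    (k.top g).imp (QuotientGroup.eq_one_iff g).2 fun h1 =>
      eq_inv_of_mul_eq_one_left ((QuotientGroup.eq_one_iff (g * t)).2 h1)
  have h1 : F₀ ≤ K₀ := p.trans (commutator_le.2 fun a _ b _ => (QuotientGroup.eq_one_iff _).1 (by
    change QuotientGroup.mk' K₀ _ = 1
    rw [map_commutatorElement, commutatorElement_eq_one_iff_mul_comm]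
    change (a : G ⧸ K₀) * (b : G ⧸ K₀) = (b : G ⧸ K₀) * (a : G ⧸ K₀)
    rcases key a with h1 | h1 <;> rcases key b with h2 | h2 <;> simp [h1, h2]))
  exact le_antisymm (fun g hg => (c.top g).resolve_right fun h2 =>
    k.nt ((mul_mem_cancel_left hg).1 (h1 h2))) h1

theorem iso_of_le (hk : Φ.ker ≤ center Y) (hs : IsSimpleGroup K₀) (h1 : Φ.range ≤ K₀)
    (h2 : K₀ ≤ Ns Φ.range) (h3 : Φ.range ≠ ⊥) : Nonempty (K₀ ≃* Y ⧸ center Y) := by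
  obtain rfl : K₀ = Φ.range := le_antisymm (subgroupOf_eq_top.1
    ((hs.eq_bot_or_eq_top_of_normal _ ((normal_subgroupOf_iff_le_normalizer h1).2 h2)).resolve_left
      fun h => h3 (by simpa [inf_eq_left.2 h1] using (subgroupOf_eq_bot.1 h).eq_bot))) h1
  have h4 : Φ.rangeRestrict.ker = center Y := by
    rw [MonoidHom.ker_rangeRestrict]
    refine le_antisymm hk fun z hz => ?_
    rcases hs.eq_bot_or_eq_top_of_normal (center Φ.range) inferInstance with h | h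
    · have : Φ.rangeRestrict z ∈ center Φ.range := mem_center_iff.2 fun a =>
        Subtype.ext ((e_mem_Cs hk).2 hz a a.2)
      rw [h] at this
      exact congrArg Subtype.val (mem_bot.1 this)
    · refine absurd (eq_bot_iff.2 ((range_perfect (e := Φ)).trans (commutator_le.2 fun a ha b hb =>
        mem_bot.2 (commutatorElement_eq_one_iff_mul_comm.2 ?_)))) h3
      exact congrArg Subtype.val (mem_center_iff.1 (h.ge (mem_top (⟨b, hb⟩ : Φ.range))) ⟨a, ha⟩)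
  exact ⟨(QuotientGroup.quotientKerEquivOfSurjective _ Φ.rangeRestrict_surjective).symm.trans
    (QuotientGroup.quotientMulEquivOfEq h4)⟩

theorem EA.go (a : EA Gd e t Φ) (u : UF (Ns Φ.range) t) (v : XU n F) (v2 : v * v = 1) (g : Gd v) :
    Cz (t * e v) ≤ Ns Φ.range := by
  obtain ⟨w, hw⟩ := a.tx v v2 g
  rw [hw]
  exact ((Fx.of_uf u).conj (Φ_mem w)).cz (mul_mem (mul_mem (Φ_mem w) u.mem) (inv_mem (Φ_mem w)))

theorem E1.peU (h : E1 ι τ Gd Go U e t Φ K₀) {Z : Subgroup Y} (hz : ∀ z ∈ Z, τ z = z) :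
    PE Φ Z (PU τ Z) := by
  have t1 : t ∈ Cs (Z.map Φ) := mem_Cs_map.2 fun z z1 => (h.act.comm (hz z z1)).symm
  refine map_le_iff_le_comap.2 ((closure_le _).2 ?_)
  rintro _ ⟨p, hp, rfl⟩
  obtain ⟨a1, a2, a3⟩ := h.fxt p
  have : Φ (p * (τ p)⁻¹) = tt Φ t p * t⁻¹ := by rw [map_mul, map_inv, ← h.act p, tt]; group
  refine mem_comap.2 (this ▸ mul_mem (subset_closure ⟨a3, ?_, a2.cz a1⟩)
    (inv_mem (subset_closure ⟨h.inv.1, t1, h.ct⟩)))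
  exact mul_mem (mul_mem (map_mem_Cs hp) t1) (inv_mem (map_mem_Cs hp))

theorem peO {Z : Subgroup Y} {c : Y} (c2 : c * c = 1) (f : Fx (Ns Φ.range) (Φ c)) :
    PE Φ Z (PO c Z) := by
  refine map_le_iff_le_comap.2 ((closure_le _).2 ?_)
  rintro y ⟨h1, h2⟩
  obtain ⟨w, rfl⟩ := isConj_iff.1 h2
  refine mem_comap.2 (subset_closure ⟨by rw [← map_mul, conj_mul, c2]; simp, map_mem_Cs h1, ?_⟩)
  refine Fx.cz ?_ (Φ_mem _)
  simpa using f.conj (Φ_mem w)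

variable (S : Slots.{u}) (b : Base n F) (fc : FC n F) (fo : FO n F) (c : Cfg F₀ e.range t)
  (h : E0 ι τ Gd U e t Φ) (m3 : M3 ι τ Gd)
include S b fc fo c h m3

/-- The common start. -/
theorem Slots.start (nr : EA Gd e t Φ → BG n F t → NR t Φ)
    (go : EA Gd e t Φ → UF (Ns Φ.range) t → ∀ v, v * v = 1 → Go v → Cz (t * e v) ≤ Ns Φ.range) :
    E1 ι τ Gd Go U e t Φ F₀ := by
  have ea := S.ea n F G e t b fc fo Y ι τ Gd U Φ h
  have bg := (S.bg n F G e t b fc fo Y ι τ Gd U Φ h).1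
  have uf := S.uf n F G e t b fc fo Y ι τ Gd U Φ h m3 ea bg (nr ea bg)
  obtain ⟨K₀, k⟩ := S.ev n F G e t b fc fo Y ι τ Gd U Φ h ea uf (cfg_facts FA.ns h.inj c).2.2.2.2
  obtain rfl := k.eq c (cfg_perf c FA.ns h.inj)
  exact { h, ea, k with uf := uf, go := go ea uf }

theorem Slots.big (hb : BigI n F Y) : E1 ι τ Gd Gd U e t Φ F₀ :=
  S.start b fc fo c h m3 (fun _ _ => (S.bg n F G e t b fc fo Y ι τ Gd U Φ h).2 hb) EA.go

omit fo m3 h fc b in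
theorem Slots.fin (h : E1 ι τ Gd Go U e t Φ F₀) {r : Y} {Z Q : Subgroup Y} (d : RD ι τ Go U r Z Q)
    (na : NA Y) (rf : RF Φ r) (k : F₀ ⊓ Cz (Φ r) ≤ Ns Φ.range) : Nonempty (F₀ ≃* Y ⧸ center Y) :=
  iso_of_le h.ker c.simple h.le (S.ht n F G e t Y ι τ Gd Go U Φ F₀ h r Z Q d c.simple na rf k)
    fun k => (inv2_e h.ker d.inv).2 (mem_bot.1 (k ▸ ⟨r, rfl⟩))

omit fo m3 h fc b in
theorem Slots.finZ (h : E1 ι τ Gd Go U e t Φ F₀) {r : Y} {Z Q : Subgroup Y} (d : RD ι τ Go U r Z Q)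
    (na : NA Y) (rf : RF Φ r) (z : RZ τ r Z Q) (k : F₀ ⊓ Ns (Z.map Φ) ≤ Ns Φ.range) :
    Nonempty (F₀ ≃* Y ⧸ center Y) :=
  S.fin c h d na rf (S.z1 S.gc n F G e t Y ι τ Gd Go U Φ F₀ h r Z Q d z
    (S.sz n F G e t Y ι τ Gd Go U Φ F₀ h r Z Q d z rf) k)

theorem Slots.rtS (r : RtS ι τ Gd U) : Nonempty (F₀ ≃* Y ⧸ center Y) := by
  obtain ⟨hb, na, mi, r, Z, Q, mc, d, rs, rb, rn, rz⟩ := r
  have k := S.big b fc fo c h m3 hb
  have rf := k.rf mi d.inv.1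
  have cq := S.cq n F G e t Y ι τ Gd Gd U Φ F₀ k r Z Q d (S.co n F G e t Y ι τ Gd Gd U Φ F₀ k Q mc)
  have hs := S.hs n F G e t Y ι τ Gd Gd U Φ F₀ k r Z Q d mi rb cq
  have cn := S.cb S.gc n F G e t Y ι τ Gd Gd U Φ F₀ k r Z Q d rb
    (S.ss n F G e t Y ι τ Gd Gd U Φ F₀ k r Z Q d mi rs) hs
  exact S.finZ c k d na rf rz (S.nz n F G e t Y ι τ Gd Gd U Φ F₀ k r Z Q d rn rf
    fun g g1 g2 g3 => k.two2 g (hs ⟨⟨g1, g2⟩, cn ⟨g1, g2⟩⟩) g3 g1)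

theorem Slots.rtU (r : RtU ι τ Gd U) : Nonempty (F₀ ≃* Y ⧸ center Y) := by
  obtain ⟨hb, na, mi, r, Z, Q, mc, d, rs, ra, rh, rn, rz⟩ := r
  have k := S.big b fc fo c h m3 hb
  have rf := k.rf mi d.inv.1
  have cq := S.cq n F G e t Y ι τ Gd Gd U Φ F₀ k r Z Q d (S.co n F G e t Y ι τ Gd Gd U Φ F₀ k Q mc)
  have cn := S.ca S.gc n F G e t Y ι τ Gd Gd U Φ F₀ k r Z Q _ d ra (k.peU ra.tz)
    (S.ss n F G e t Y ι τ Gd Gd U Φ F₀ k r Z Q d mi rs)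
  exact S.finZ c k d na rf rz (S.nz n F G e t Y ι τ Gd Gd U Φ F₀ k r Z Q d rn rf
    (S.hu n F G e t Y ι τ Gd Gd U Φ F₀ k r Z Q d rh rf cn cq))

theorem Slots.rtL (r : RtL ι τ Gd U) : Nonempty (F₀ ≃* Y ⧸ center Y) := by
  obtain ⟨hb, na, mi, r, Z, Q, A, A', mc, d, l⟩ := r
  have k := S.big b fc fo c h m3 hb
  have rf := k.rf mi d.inv.1
  obtain ⟨s1, s2⟩ := S.la n F G e t Y ι τ Gd Gd U Φ F₀ k r Z Q A A' d l rf
  obtain ⟨c1, c2⟩ := S.lb n F G e t Y ι τ Gd Gd U Φ F₀ k r Z Q A A' d l s1 s2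
  exact S.fin c k d na rf (S.lc n F G e t Y ι τ Gd Gd U Φ F₀ k r Z Q A A' d l c1 c2
    (S.cq n F G e t Y ι τ Gd Gd U Φ F₀ k r Z Q d (S.co n F G e t Y ι τ Gd Gd U Φ F₀ k Q mc)))

theorem Slots.rtP (g : ∀ u, Gd u ↔ Lr u) (hc : center Y = ⊥) (r : RtP.{u} ι τ U) :
    Nonempty (F₀ ≃* Y ⧸ center Y) := by
  obtain rfl : Gd = Lr := funext fun u => propext (g u)
  obtain ⟨on, na, me, r, Z, Q, x, R, R₀, R₁, mc, d, ra, rz, ob, oh, os, oc, ou, oq⟩ := r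
  have k : E1 ι τ Lr LS U e t Φ F₀ := S.start b fc fo c h m3
    (fun ea _ => S.no n F G e t b fc fo Y ι τ Lr U Φ h g on ea) fun ea uf v v2 g => g.elim
      (ea.go uf v v2) (S.ei n F G e t b fc fo Y ι τ Lr U Φ h ea uf Sr me v)
  have rf := S.ro n F G e t Y ι τ Lr LS U Φ F₀ k r Z Q x d ob
  have nR := S.ho n F G e t Y ι τ Lr LS U Φ F₀ k r Z Q R d mc.1 oh rf
    (S.co n F G e t Y ι τ Lr LS U Φ F₀ k R mc)
  have f := S.uy n F G e t Y ι τ Lr LS U Φ F₀ k r Z Q x R hc d mc.1 ob os.cr ou rf nR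
    (S.c3 S.gc n F G e t Y ι τ Lr LS U Φ F₀ k x R R₀ R₁ ob.tc mc.1 os oc
      (S.sr n F G e t Y ι τ Lr LS U Φ F₀ k x R ob.inv os) nR)
  have cn := ra G e t Φ F₀ k (peO ob.inv.1 f)
    (S.so n F G e t Y ι τ Lr LS U Φ F₀ k r Z Q x d ob.inv.1 oq f)
  obtain ⟨w, hw⟩ := oq.ex
  have f' : Fx (Ns Φ.range) (Φ (w * x * w⁻¹)) := by simpa using f.conj (Φ_mem w)
  have k1 : F₀ ⊓ Cs (Z.map Φ) ≤ Ns Φ.range := fun g hg => f' g (le_normalizer (map_le_range Φ Q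
    (conj_mem_of_mem_normalizer (cn hg) (mem_map_of_mem Φ hw))))
  exact S.finZ c k d na rf rz fun g hg => f' g (k1 ⟨k.conjK (k.ΦK _) g, conj_mem_of_mem_normalizer
    (normalizer_le_normalizer_centralizer _ hg.2) (map_mem_Cs (d.qc hw))⟩)

omit S b fc fo c h m3

omit [QS Y] in
theorem Slots.mod (S : Slots.{u}) (b : Base n F) (fc : FC n F) (fo : FO n F) (m : Mod ι τ Gd)
    (g1 : Gd 1) : Fn.{u} ι τ fun _ _ e t => ∀ v, Fu e t v → v = 1 ∨ Gd v := by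
  intro G _ _ e t F₀ Φ c ce hm gd
  obtain ⟨U, mb, r⟩ := m
  have := mb.qs
  have h : E0 ι τ Gd U e t Φ := { ce, hm, mb.toM1, mb.toM2 with gd := gd }
  rcases r with r | r | r | r | r
  exacts [S.rtS b fc fo c h mb.m3 r, S.rtU b fc fo c h mb.m3 r, S.rtL b fc fo c h mb.m3 r,
    absurd (FC.two (F := F) n ▸ r.2.1 : 4 ≤ 2) (by decide),
    absurd rfl ((FR.rk 1).1.1 ((r.1 1).1 g1)).1.2]

omit [QS Y] in
theorem nt_mod (b : Base n F) (fc : FC n F) (fo : FO n F) (m : Mod ι τ Gd) (g1 : Gd 1)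
    (c : Cfg F₀ e.range t) (ce : CE e t) (hm : Hm ι τ e t Φ) (gd : ∀ v, Fu e t v → v = 1 ∨ Gd v) :
    t ∉ F₀ := by
  obtain ⟨U, mb, r⟩ := m
  have := mb.qs
  have h : E0 ι τ Gd U e t Φ := { ce, hm, mb.toM1, mb.toM2 with gd := gd }
  refine (slots.big b fc fo c h mb.m3 ?_).nt
  rcases r with r | r | r | r | r
  exacts [r.1, r.1, r.1, r.1, absurd rfl ((FR.rk 1).1.1 ((r.1 1).1 g1)).1.2]

omit [QS Y] [Finite Y] in
theorem gd_alt (na : NAl ι τ) (ce : CE e t) (hm : Hm ι τ e t Φ) (h : ¬ Fu e t (xb n F)) (v : XU n F)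
    (hv : Fu e t v) : v = 1 ∨ Alt v := by
  by_contra hn
  rw [not_or] at hn
  have cv := ce.toB1.comm v
  have v2 : v * v = 1 := ce.inj (by
    have := (H9.UF.inv2_conj ce.inv hv).1
    rwa [mul_assoc, ← mul_assoc (e v), ← cv, mul_assoc, ← mul_assoc, ce.inv.1, one_mul, ← map_mul,
      ← map_one e] at this)
  obtain ⟨g, hg⟩ := na v ⟨v2, hn.1⟩ hn.2
  refine h (hv.trans (isConj_iff.2 ⟨(Φ g)⁻¹, ?_⟩))
  rw [cv, ce.toB1.comm, ← hm.res, ← hm.res, hg, map_mul, map_mul, map_inv, ← hm.act g]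
  group

omit [QS Y] [Finite Y] in
theorem alt1 [Base n F] : Alt (1 : XU n F) := fun v => by rw [ac_one]; exact FV.iso v

/-- The models other than the orthogonal one. -/
structure Mods : Prop where
  s : JobMS
  u0 : JobMU0
  u1 : JobMU1
  l0 : JobML0
  l1 : JobML1

/-- The endgame up to the transfer. -/
theorem jobEnd (M : Mods) (o : JobMB) : H85.P6.Asm.JobEnd.{u} := by
  intro n F _ _ _ _ _ _ G _ _ e t b fc fo F₀ c ce k
  rcases k with ⟨K, _, _, _, _, x, h, Φ, hm⟩ | ⟨Φ, hm⟩ | ⟨K, _, _, _, _, x, h, Φ, hm⟩ |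
    ⟨⟨Φ, hm⟩ | ⟨K, _, _, _, _, x, h, Φ, hm⟩, k⟩ | ⟨⟨δ, Φ, hm⟩, k⟩
  · exact nt_mod b fc fo (M.s n F b fc fo K x h) trivial c ce hm fun _ _ => Or.inr trivial
  · exact nt_mod b fc fo (M.l1 n F b fc fo) trivial c ce hm fun _ _ => Or.inr trivial
  · exact nt_mod b fc fo (M.u1 n F b fc fo K x h) trivial c ce hm fun _ _ => Or.inr trivial
  · exact nt_mod b fc fo (M.l0 n F b fc fo).1 alt1 c ce hm
      (gd_alt (M.l0 n F b fc fo).2 ce hm k)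
  · exact nt_mod b fc fo (M.u0 n F b fc fo K x h).1 alt1 c ce hm
      (gd_alt (M.u0 n F b fc fo K x h).2 ce hm k)
  · obtain ⟨U, mb, on⟩ := o n F b fc fo δ
    have := mb.qs
    have h : E0 (iO n F δ) (tO n F δ) Lr U e t Φ := { ce, hm, mb.toM1, mb.toM2 with gd := k }
    exact (slots.start (Go := Lr) b fc fo c h mb.m3 (fun ea _ =>
      slots.no n F G e t b fc fo _ _ _ Lr U Φ h (fun _ => Iff.rfl) on ea) EA.go).nt

/-- The endgame. -/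
theorem jobFin (M : Mods) (o : JobMP.{u}) : JobFin.{u} where
  s n F _ _ _ _ _ _ b fc fo K _ _ _ _ x h G _ _ e t F₀ Φ c ce hm _ :=
    slots.mod b fc fo (M.s n F b fc fo K x h) trivial G e t F₀ Φ c ce hm
      fun _ _ => Or.inr trivial
  u0 n F _ _ _ _ _ _ b fc fo K _ _ _ _ x h G _ _ e t F₀ Φ c ce hm k :=
    slots.mod b fc fo (M.u0 n F b fc fo K x h).1 alt1 G e t F₀ Φ c ce
      hm (gd_alt (M.u0 n F b fc fo K x h).2 ce hm k)
  u1 n F _ _ _ _ _ _ b fc fo K _ _ _ _ x h G _ _ e t F₀ Φ c ce hm _ :=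
    slots.mod b fc fo (M.u1 n F b fc fo K x h) trivial G e t F₀ Φ c ce hm
      fun _ _ => Or.inr trivial
  l0 n F _ _ _ _ _ _ b fc fo G _ _ e t F₀ Φ c ce hm k :=
    slots.mod b fc fo (M.l0 n F b fc fo).1 alt1 G e t F₀ Φ c ce hm
      (gd_alt (M.l0 n F b fc fo).2 ce hm k)
  l1 n F _ _ _ _ _ _ b fc fo G _ _ e t F₀ Φ c ce hm _ :=
    slots.mod b fc fo (M.l1 n F b fc fo) trivial G e t F₀ Φ c ce hm fun _ _ => Or.inr trivial
  o n F _ _ _ _ _ _ b fc fo δ G _ _ e t F₀ Φ c ce hm k := by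
    have hs := (H86.SPI.mi n F).simple δ
    have hc : QS (Om (QD n F δ)) → center (Om (QD n F δ)) = ⊥ := fun _ =>
      (hs.eq_bot_or_eq_top_of_normal _ inferInstance).resolve_right fun h => by
        obtain ⟨a, ha⟩ := exists_ne (1 : Om (QD n F δ))
        exact ha (hom_eq_one (MonoidHom.id _) (fun a b => mem_center_iff.1 (h.ge (mem_top b)) a) a)
    obtain ⟨U, mb, r⟩ := o n F b fc fo δ
    have := mb.qs
    exact slots.rtP b fc fo c { ce, hm, mb.toM1, mb.toM2 with gd := k } mb.m3 (fun _ => Iff.rfl)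
      (hc this) r

end H64.YE

end H54.P6
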