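import Cfsg.Agent.H54.P6.YAsm
import Cfsg.Agent.H54.P6.Tr
import Cfsg.Agent.H78.P6.YUT
import Cfsg.Agent.H86.O6.Fin

/-! P6 port (row S1734): the endgame for `Sp₆(2)` up to the transfer. -/

set_option autoImplicit false

namespace H54.P6T

open H85.P6.H67.SP (Par FC)

universe u

theorem mods : H54.P6.H64.YE.Mods := ⟨jobMS, H78.P6T.jobMU0, H78.P6T.jobMU1, jobML0, jobML1⟩

theorem jobMB : H54.P6.H64.YE.JobMB := fun n F _ _ _ _ _ p _ _ _ δ =>
  have ⟨U, h1, h2, _⟩ := H86.O6.mb (F := F) p.six (FC.two n) δ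
  ⟨U, mb h1, h2⟩

/-- The endgame up to the transfer. -/
theorem jobEnd : H85.P6.Asm.JobEnd.{u} := H54.P6.H64.YE.jobEnd mods jobMB

end H54.P6T
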