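import Cfsg.Agent.H54.P6.YEnd
import Cfsg.Agent.H78.P6.Y3CA
import Cfsg.Agent.H85.O6RA

/-! P6 port (row S3133): the endgame for `Sp₆(2)`. -/

set_option autoImplicit false

namespace H54.P6T

open H85.P6.H67.UA (XU)
open H85.P6.H67.SP (Par FC)

universe u

theorem rtP {n : ℕ} {F : Type} [Field F] [StarRing F] [TrivialStar F] [CharP F 2] [Finite F] [Par n F]
    {Y : Type} [Group Y] [Finite Y] {ι : H67.UA.XU n F →* Y} {τ : MulAut Y} {U Z Q R R₀ R₁ : Subgroup Y}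
    {r c : Y} (q : H64.YE.QS Y) (on : H64.YE.ON ι) (na : H64.YE.NA Y)
    (me : H64.YE.ME ι τ H67.SP.Lr H67.SP.Sr) (m : H64.YE.MC ι τ H64.YE.LS U R)
    (d : H64.YE.RD ι τ H64.YE.LS U r Z Q) (a : H78.Y3.RA2 τ Z Q (H64.YE.PO c Z))
    (z : H64.YE.RZ τ r Z Q) (ob : H64.YE.OB ι τ r c) (oh : H64.YE.OH τ r R) (os : H64.YE.OS ι τ c R)
    (oc : H64.YE.OC ι τ H64.YE.LS c R R₀ R₁) (ou : H64.YE.OU ι r c R) (oq : H64.YE.OQ U Z Q c) :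
    H54.P6.H64.YE.RtP.{u} (n := n) (F := F) ι τ U :=
  have := qs q
  ⟨on, na, ⟨me.1, me.2⟩, r, Z, Q, c, R, R₀, R₁, mc m, rd d, fun G _ _ e t Φ K₀ k =>
    H78.P6.Y3CA.jobCA2 H54.P6.H83.YEGC.jobGC n F G e t Y _ τ _ _ U Φ K₀ k r Z Q _ (rd d) a,
    ⟨z.1, z.2, z.3⟩, ⟨ob.1, ob.2, ob.3, ob.4, ob.5, ob.6⟩, oh, ⟨os.1, os.2, os.3, os.4, os.5⟩,
    ⟨oc.1, oc.2, oc.3, oc.4, oc.5, oc.6, oc.7, oc.8, oc.9⟩, ⟨ou.1, ou.2, ou.3, ou.4, ou.5⟩,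
    ⟨oq.1, oq.2⟩⟩

theorem rtP' {n : ℕ} {F : Type} [Field F] [StarRing F] [TrivialStar F] [CharP F 2] [Finite F] [Par n F]
    {δ : F} {r : H59.SO.Fr (H86.SPI.QD n F δ)} (h : H86.O6.Res δ r) :
    H54.P6.H64.YE.RtP.{u} (n := n) (F := F) (H86.SPI.iO n F δ) (H86.SPI.tO n F δ) r.U :=
  rtP h.mb.qs h.on h.na h.me h.mc h.rd (H85.O6RA.res_ra2 h) h.rz h.ob h.oh h.os h.oc h.ou h.oq

theorem jobMP : H54.P6.H64.YE.JobMP.{u} := fun n F _ _ _ _ _ p _ _ _ δ =>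
  have ⟨r, h⟩ := H86.O6.res (F := F) p.six (FC.two n) δ
  ⟨r.U, mb h.mb, rtP' h⟩

/-- The endgame. -/
theorem jobFin : H54.P6.H64.YE.JobFin.{u} := H54.P6.H64.YE.jobFin mods jobMP

/-- The endgame, in the copy `H78/P6/Z_YEMod`. -/
theorem jobFin' : H78.P6.H64.YE.JobFin.{u} := H78.P6T.fin jobFin

end H54.P6T
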